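import Cfsg.Agent.PrimeDim.Descend

/-!
Rational structures for the forms of a group realised over a subfield; two forms give a smaller field.
-/

set_option autoImplicit false

namespace Cfsg.Agent.PrimeDim

open Matrix Cfsg.Geo
open scoped MatrixGroups

variable {ι : Type} [Fintype ι] [DecidableEq ι] {F : Type*} [Field F]

local notation "M" => Matrix ι ι F

/-- The facts about the automorphism of order two of a finite field. -/
structure IsBar (σ : F ≃+* F) : Prop where
  involutive : ∀ a, σ (σ a) = a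
  ne_refl : σ ≠ RingEquiv.refl F
  norm : ∀ a, σ a = a → ∃ c, c * σ c = a

theorem IsBar.exists_moved {σ : F ≃+* F} (h : IsBar σ) : ∃ a, σ a ≠ a := by
  by_contra hcon
  push Not at hcon
  exact h.ne_refl (RingEquiv.ext hcon)

theorem exists_bar [Fintype F] {q : ℕ} (hF : Fintype.card F = q ^ 2) :
    ∃ σ : F ≃+* F, (∀ x, σ x = x ^ q) ∧ IsBar σ := by
  obtain ⟨p, n, hp, hc, hn0, hn⟩ := prime_card_pow (F := F)
  haveI := Fact.mk hp
  rw [Nat.card_eq_fintype_card, hF] at hn
  obtain ⟨k, -, hk⟩ := (Nat.dvd_prime_pow hp).1 (hn ▸ dvd_pow_self q two_ne_zero : q ∣ p ^ n)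
  let τ : F →+* F := powHom p k
  have hτ : ∀ x, τ x = x ^ q := fun x => by rw [hk]; exact powHom_apply p k x
  let σ : F ≃+* F := RingEquiv.ofBijective τ ⟨τ.injective, Finite.surjective_of_injective τ.injective⟩
  have hσ : ∀ x, σ x = x ^ q := hτ
  have hq1 : 1 < q := by
    have := Fintype.one_lt_card (α := F)
    rw [hF] at this
    nlinarith
  have hU : Nat.card Fˣ = q ^ 2 - 1 := by rw [Nat.card_units, Nat.card_eq_fintype_card, hF]
  obtain ⟨g, hg⟩ := IsCyclic.exists_generator (α := Fˣ)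
  have hg' : orderOf g = q ^ 2 - 1 := by rw [orderOf_eq_card_of_forall_mem_zpowers hg, hU]
  have hfac : q ^ 2 - 1 = (q + 1) * (q - 1) := by rw [← one_pow 2, Nat.sq_sub_sq, one_pow]
  refine ⟨σ, hσ, fun a => ?_, fun h => ?_, fun a ha => ?_⟩
  · rw [hσ, hσ, ← pow_mul, ← pow_two, ← hF]; exact FiniteField.pow_card a
  · have h1 := RingEquiv.congr_fun h (g : F)
    rw [hσ, RingEquiv.refl_apply] at h1
    have h2 : g ^ (q - 1) = 1 := by
      have : g ^ (q - 1) * g = 1 * g := by
        rw [← pow_succ, Nat.sub_add_cancel hq1.le, one_mul]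
        exact Units.ext (by rw [Units.val_pow_eq_pow_val]; exact h1)
      exact mul_right_cancel this
    have h3 := Nat.le_of_dvd (by omega) (hg' ▸ orderOf_dvd_of_pow_eq_one h2)
    rw [hfac] at h3
    have h4 : 0 < q - 1 := by omega
    nlinarith
  · by_cases ha0 : a = 0
    · exact ⟨0, by rw [ha0, zero_mul]⟩
    rw [hσ] at ha
    obtain ⟨m, hm⟩ := (mem_powers_iff_mem_zpowers).2 (hg (Units.mk0 a ha0))
    have hm' : g ^ m = Units.mk0 a ha0 := hm
    have h1 : g ^ (m * (q - 1)) = 1 := by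
      rw [pow_mul, hm']
      have : Units.mk0 a ha0 ^ (q - 1) * Units.mk0 a ha0 = 1 * Units.mk0 a ha0 := by
        rw [← pow_succ, Nat.sub_add_cancel hq1.le, one_mul]
        exact Units.ext (by rw [Units.val_pow_eq_pow_val, Units.val_mk0]; exact ha)
      exact mul_right_cancel this
    have h2 := hg' ▸ orderOf_dvd_of_pow_eq_one h1
    rw [hfac] at h2
    obtain ⟨j, hj⟩ := Nat.dvd_of_mul_dvd_mul_right (by omega) h2
    refine ⟨((g ^ j : Fˣ) : F), ?_⟩
    rw [hσ, ← pow_succ', ← Units.val_pow_eq_pow_val, ← pow_mul, mul_comm j, ← hj, hm', Units.val_mk0]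

theorem subfieldSubgroup_scalar_mul {F₁ : Subfield F} {z : GL ι F} (hz : z ∈ scalars ι F) (P : GL ι F) :
    subfieldSubgroup F₁ (z * P) = subfieldSubgroup F₁ P := by
  have : MulAut.conj (z * P) = MulAut.conj P := by
    refine MulEquiv.ext fun g => ?_
    rw [MulAut.conj_apply, MulAut.conj_apply]
    obtain ⟨c, hc⟩ := (Cfsg.Geo.mem_scalars_iff z).1 hz
    have h1 : ∀ x : GL ι F, z * x * z⁻¹ = x := fun x => by
      rw [mul_inv_eq_iff_eq_mul]
      ext1
      rw [Units.val_mul, Units.val_mul, hc, Matrix.smul_mul, Matrix.one_mul, Matrix.mul_smul, Matrix.mul_one]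
    rw [show z * P * g * (z * P)⁻¹ = z * (P * g * P⁻¹) * z⁻¹ by group, h1]
  rw [subfieldSubgroup, subfieldSubgroup, this]

/-- The scalar matrix as a group element. -/
noncomputable def sc (c : F) (hc : c ≠ 0) : GL ι F := Units.map (Matrix.scalar ι : F →+* M).toMonoidHom (Units.mk0 c hc)

theorem sc_mem {c : F} (hc : c ≠ 0) : (sc c hc : GL ι F) ∈ scalars ι F := ⟨_, rfl⟩

theorem mat_sc {c : F} (hc : c ≠ 0) : mat (sc c hc : GL ι F) = c • (1 : M) := by
  simp [sc, Matrix.smul_one_eq_diagonal]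

theorem act_sc {σ : F ≃+* F} (G : M) (g : M) (c : F) : act σ G (c • g) = (c * σ c) • act σ G g := by
  have e : (c • g).map σ = σ c • g.map σ := by ext i j; simp
  simp only [act, Matrix.transpose_smul, e, Matrix.smul_mul, Matrix.mul_smul, smul_smul, mul_comm (σ c) c]

/-- The Galois translate of a fixed form is fixed. -/
theorem fixes_map {σ : F ≃+* F} {τ : F →+* F} (hτσ : ∀ x, τ (σ x) = σ (τ x)) {N : Subgroup (GL ι F)} {G : M}
    (h : Fixes σ N G) (hfix : ∀ g ∈ N, (mat g).map τ = mat g) : Fixes σ N (G.map τ) := by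
  intro g hg
  have h1 := congrArg (fun X : M => X.map τ) (h g hg)
  simp only [act, Matrix.map_mul] at h1
  rw [Matrix.transpose_map, hfix g hg] at h1
  rwa [show ((mat g).map σ).map τ = ((mat g).map τ).map σ by ext i j; exact hτσ _, hfix g hg] at h1

/-- A fixed form of a group with entries in a subfield is proportional to a form over the subfield. -/
theorem rational_gram [Fintype F] [Nonempty ι] {σ : F ≃+* F} {N : Subgroup (GL ι F)}
    (hN : ActsAbsolutelyIrreducibly (matrixSet N)) {F₁ : Subfield F} (hE : ∀ g ∈ N, Entries F₁ (mat g))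
    {G : M} (hG : G.det ≠ 0) (h : Fixes σ N G) :
    ∃ (lam : F) (G₁ : M), lam ≠ 0 ∧ Entries F₁ G₁ ∧ G = lam • G₁ := by
  obtain ⟨τ, hτ, hτpow⟩ := exists_powHom F₁
  obtain ⟨c, hc⟩ := unique_form hN hG h
    (fixes_map (fun x => by rw [hτpow, hτpow, map_pow]) h fun g hg => by ext i j; exact (hτ _).1 (hE g hg i j))
  obtain ⟨i, j, hij⟩ : ∃ i j, G i j ≠ 0 := by
    by_contra hcon
    push Not at hcon
    exact hG (by rw [show G = 0 from Matrix.ext hcon, Matrix.det_zero])
  refine ⟨G i j, (G i j)⁻¹ • G, hij, fun a b => (hτ _).2 ?_, by rw [smul_smul, mul_inv_cancel₀ hij, one_smul]⟩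
  have h1 := congrFun (congrFun hc i) j
  have h2 := congrFun (congrFun hc a) b
  simp only [Matrix.map_apply, Matrix.smul_apply, smul_eq_mul] at h1 h2
  have hc0 : c ≠ 0 := by
    intro e
    rw [e, zero_mul] at h1
    exact hij ((map_eq_zero τ).1 h1)
  rw [Matrix.smul_apply, smul_eq_mul, map_mul, map_inv₀, h1, h2]
  field_simp

theorem map_mem_of_card [Finite F] (σ : F ≃+* F) {F₁ : Subfield F} {x : F} (hx : x ∈ F₁) : σ x ∈ F₁ := by
  rw [mem_iff_pow_card] at hx ⊢
  rw [← map_pow, hx]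

theorem act_inv {σ : F ≃+* F} {G : M} (B : GL ι F) : act σ (act σ G (mat B⁻¹)) (mat B) = G := by
  rw [← act_mul, mat_inv_mul]
  simp [act]

/-- The unitary case. -/
theorem unitary_rational [Fintype F] {q : ℕ} (hF : Fintype.card F = q ^ 2) {σ : F ≃+* F} (hσ : ∀ x, σ x = x ^ q)
    (hbar : IsBar σ) (hodd : Odd (Fintype.card ι)) (hgt : 1 < Fintype.card ι) {N : Subgroup (GL ι F)}
    (hN : ActsAbsolutelyIrreducibly (matrixSet N)) {G : M} (hG : G.det ≠ 0) (hherm : Gᵀ = G.map σ)
    (h : Fixes σ N G) {F₁ : Subfield F} {l : ℕ} (hl : l.Prime) (hcard : Fintype.card F = Nat.card F₁ ^ l)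
    {B : GL ι F} (hB : ∀ g ∈ N, Entries F₁ (mat (B * g * B⁻¹))) :
    ∃ P : GL ι F, subfieldSubgroup F₁ P = subfieldSubgroup F₁ B⁻¹ ∧ Entries F₁ (act σ G (mat P)) ∧
      (Odd l ∨ (l = 2 ∧ Odd q)) := by
  haveI : Nonempty ι := Fintype.card_pos_iff.1 (by omega)
  set G' := act σ G (mat B⁻¹) with hG'
  have hG'0 : G'.det ≠ 0 := by
    have hd : (mat B⁻¹).det ≠ 0 := ((Matrix.isUnit_iff_isUnit_det _).1 B⁻¹.isUnit).ne_zero
    rw [hG', det_act]
    exact mul_ne_zero (mul_ne_zero hd hG) ((map_ne_zero σ).2 hd)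
  have hherm' : G'ᵀ = G'.map σ := by
    rw [hG', act, Matrix.transpose_mul, Matrix.transpose_mul, Matrix.transpose_transpose, hherm, Matrix.map_mul,
      Matrix.map_mul, Matrix.map_map, show (σ ∘ σ : F → F) = id from funext hbar.involutive, Matrix.map_id,
      mul_assoc, Matrix.transpose_map]
  obtain ⟨lam, G₁, hlam, hG₁, hGlam⟩ := rational_gram (F₁ := F₁) (abs_conj hN B)
    (by rintro _ ⟨g, hg, rfl⟩; exact hB g hg) hG'0 (fixes_conj h B)
  obtain ⟨i, j, hij⟩ : ∃ i j, G₁ i j ≠ 0 := by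
    by_contra hcon
    push Not at hcon
    exact hG'0 (by rw [hGlam, show G₁ = 0 from Matrix.ext hcon, smul_zero, Matrix.det_zero])
  set μ := σ lam / lam with hμdef
  have hentry : ∀ a b, G₁ b a = μ * σ (G₁ a b) := fun a b => by
    have h1 := congrFun (congrFun hherm' a) b
    rw [hGlam, Matrix.transpose_apply, Matrix.map_apply, Matrix.smul_apply, Matrix.smul_apply, smul_eq_mul,
      smul_eq_mul, map_mul] at h1
    rw [hμdef]
    field_simp
    linear_combination h1
  have hμmem : μ ∈ F₁ := by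
    have hne : σ (G₁ i j) ≠ 0 := (map_ne_zero σ).2 hij
    have : μ = G₁ j i / σ (G₁ i j) := by rw [hentry i j]; field_simp
    rw [this]
    exact div_mem (hG₁ j i) (map_mem_of_card σ (hG₁ i j))
  have hμμ : μ * σ μ = 1 := by
    rw [hμdef, map_div₀, hbar.involutive]
    have := (map_ne_zero σ).2 hlam
    field_simp
  have hμ0 : μ ≠ 0 := left_ne_zero_of_mul_eq_one hμμ
  -- a correction inside the subfield
  obtain ⟨ν, hν, hν0, hνσ⟩ : ∃ ν ∈ F₁, ν ≠ 0 ∧ σ ν = μ * ν := by
    by_cases hm : μ = -1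
    · by_cases hy : ∃ y ∈ F₁, σ y ≠ y
      · obtain ⟨y, hy, hσy⟩ := hy
        refine ⟨y - σ y, sub_mem hy (map_mem_of_card σ hy), sub_ne_zero.2 (Ne.symm hσy), ?_⟩
        rw [map_sub, hbar.involutive, hm]; ring
      · push Not at hy
        by_cases h2 : (2 : F) = 0
        · refine ⟨1, one_mem _, one_ne_zero, ?_⟩
          rw [map_one, mul_one, hm]
          linear_combination h2
        · exfalso
          refine hG'0 ?_
          rw [hGlam, Matrix.det_smul]
          have hskew : G₁ᵀ = -G₁ := by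
            ext a b
            rw [Matrix.transpose_apply, hentry a b, hy _ (hG₁ a b), hm, Matrix.neg_apply, neg_one_mul]
          rw [det_eq_zero_of_alt hodd hskew fun a => ?_, mul_zero]
          have h3 := congrFun (congrFun hskew a) a
          rw [Matrix.transpose_apply, Matrix.neg_apply] at h3
          exact (mul_eq_zero.1 (show (2 : F) * G₁ a a = 0 by linear_combination h3)).resolve_left h2
    · refine ⟨1 + μ⁻¹, add_mem (one_mem _) (inv_mem hμmem), fun e => hm ?_, ?_⟩
      · field_simp at e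
        linear_combination e
      · rw [map_add, map_one, map_inv₀, eq_inv_of_mul_eq_one_right hμμ, inv_inv]
        field_simp
        ring
  have hlam' : σ (lam / ν) = lam / ν := by
    rw [map_div₀, hνσ, hμdef]
    have := (map_ne_zero σ).2 hlam
    field_simp
  obtain ⟨c, hc⟩ := hbar.norm (lam / ν) hlam'
  have hc0 : c ≠ 0 := by
    intro e
    rw [e, zero_mul] at hc
    exact div_ne_zero hlam hν0 hc.symm
  have hnewmem : Entries F₁ (ν • G₁) := fun a b => mul_mem hν (hG₁ a b)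
  refine ⟨sc c⁻¹ (inv_ne_zero hc0) * B⁻¹, subfieldSubgroup_scalar_mul (sc_mem _) _, ?_, ?_⟩
  · have e : act σ G (mat (sc c⁻¹ (inv_ne_zero hc0) * B⁻¹)) = ν • G₁ := by
      rw [show mat (sc c⁻¹ (inv_ne_zero hc0) * B⁻¹) = c⁻¹ • mat B⁻¹ by
        rw [mat, Units.val_mul, show ((sc c⁻¹ (inv_ne_zero hc0) : GL ι F) : M) = c⁻¹ • (1 : M) from mat_sc _,
          Matrix.smul_mul, one_mul], act_sc, ← hG', hGlam, smul_smul]
      congr 1
      rw [map_inv₀, ← mul_inv, hc]
      field_simp
    rw [e]; exact hnewmem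
  · rcases hl.eq_two_or_odd' with rfl | ho
    swap
    · exact Or.inl ho
    refine Or.inr ⟨rfl, ?_⟩
    have hq : Nat.card F₁ = q := Nat.pow_left_injective two_ne_zero (hcard.symm.trans hF)
    by_contra hqe
    rw [Nat.not_odd_iff_even] at hqe
    have h2 : (2 : F) = 0 := by
      obtain ⟨p, n, hp, hcp, -, hn⟩ := prime_card_pow (F := F)
      rw [Nat.card_eq_fintype_card, hF] at hn
      have hp2 : 2 ∣ p ^ n := hn ▸ (even_iff_two_dvd.1 hqe).trans (dvd_pow_self q two_ne_zero)
      have : p = 2 := ((Nat.prime_dvd_prime_iff_eq Nat.prime_two hp).1 (Nat.prime_two.dvd_of_dvd_pow hp2)).symm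
      subst this
      exact_mod_cast CharP.cast_eq_zero F 2
    have hfixσ : ∀ x ∈ F₁, σ x = x := fun x hx => by
      rw [hσ, ← hq]; exact (mem_iff_pow_card F₁ x).1 hx
    have hsym : (ν • G₁)ᵀ = ν • G₁ := by
      ext a b
      rw [Matrix.transpose_apply, Matrix.smul_apply, Matrix.smul_apply, smul_eq_mul, smul_eq_mul, hentry a b,
        ← mul_assoc, mul_comm ν, ← hνσ, hfixσ ν hν, hfixσ _ (hG₁ a b)]
    have hdet : (act (RingEquiv.refl F) (ν • G₁) (mat B)).det ≠ 0 := by
      have hd : (mat B).det ≠ 0 := ((Matrix.isUnit_iff_isUnit_det _).1 B.isUnit).ne_zero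
      have hd1 : G₁.det ≠ 0 := fun e => hG'0 (by rw [hGlam, Matrix.det_smul, e, mul_zero])
      rw [det_act, Matrix.det_smul]
      exact mul_ne_zero (mul_ne_zero hd (mul_ne_zero (pow_ne_zero _ hν0) hd1)) ((map_ne_zero _).2 hd)
    refine no_symm_char_two h2 hodd hgt (abs_iff.1 hN).1 hdet ?_ ?_
    · show ((mat B)ᵀ * (ν • G₁) * (mat B).map id)ᵀ = (mat B)ᵀ * (ν • G₁) * (mat B).map id
      rw [Matrix.map_id, Matrix.transpose_mul, Matrix.transpose_mul, Matrix.transpose_transpose, hsym, mul_assoc]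
    · intro g hg
      rw [← act_mul]
      have e1 : mat B * mat g = mat (B * g * B⁻¹) * mat B := by simp [mat, mul_assoc]
      rw [e1, act_mul]
      congr 1
      have h3 : act σ G' (mat (B * g * B⁻¹)) = G' := fixes_conj h B _ ⟨g, hg, rfl⟩
      rw [hGlam, act_smul] at h3
      have h4 : act σ G₁ (mat (B * g * B⁻¹)) = G₁ := smul_right_injective M hlam h3
      rw [act_smul]
      congr 1
      refine Eq.trans ?_ h4
      unfold act
      congr 1
      ext a b
      exact (hfixσ _ (hB g hg a b)).symm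

/-- Two forms of different kinds give a realisation over the fixed field. -/
theorem realisable_of_two [Fintype F] [Nonempty ι] {σ : F ≃+* F} (hbar : IsBar σ) {N : Subgroup (GL ι F)}
    (hN : ActsAbsolutelyIrreducibly (matrixSet N)) {G S : M} (hG : G.det ≠ 0) (hS : S.det ≠ 0)
    (h : Fixes σ N G) (h' : Fixes (RingEquiv.refl F) N S) :
    ∃ F₀ : Subfield F, F₀ ≠ ⊤ ∧ RealisableOver F₀ (matrixSet N) := by
  obtain ⟨U, hU⟩ := isUnit_of_det hG
  set A₀ : M := (↑U⁻¹ : M) * S with hA₀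
  have hGA : G * A₀ = S := by rw [hA₀, ← hU, ← mul_assoc, Units.mul_inv, one_mul]
  have hcomm : ∀ g ∈ N, A₀ * mat g = (mat g).map σ * A₀ := by
    intro g hg
    have e1 : (mat g)ᵀ * G * (A₀ * mat g) = S := by
      rw [← mul_assoc ((mat g)ᵀ * G), mul_assoc ((mat g)ᵀ), hGA]
      have h3 := h' g hg
      simp only [act] at h3
      exact h3
    have e2 : (mat g)ᵀ * G * ((mat g).map σ * A₀) = S := by
      rw [← mul_assoc, show (mat g)ᵀ * G * (mat g).map σ = G from h g hg, hGA]
    exact ((isUnit_transpose g.isUnit).mul (isUnit_of_det hG)).mul_right_inj.1 (e1.trans e2.symm)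
  have hmm : ∀ X : M, (X.map σ).map σ = X := fun X => by
    ext a b; exact hbar.involutive _
  have hcomm' : ∀ g ∈ N, A₀.map σ * (mat g).map σ = mat g * A₀.map σ := by
    intro g hg
    have h1 := congrArg (fun X : M => X.map σ) (hcomm g hg)
    simp only [Matrix.map_mul] at h1
    rwa [hmm] at h1
  obtain ⟨c, hc⟩ := (abs_iff.1 hN).2 (A₀.map σ * A₀) fun g hg => by
    rw [mul_assoc, hcomm g hg, ← mul_assoc, hcomm' g hg, mul_assoc]
  have hdetA : A₀.det ≠ 0 := fun e => hS (by rw [← hGA, Matrix.det_mul, e, mul_zero])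
  have hA' : IsUnit A₀ := isUnit_of_det hdetA
  have hc' : A₀ * A₀.map σ = c • (1 : M) := by
    refine hA'.mul_left_inj.1 ?_
    rw [mul_assoc, hc, Matrix.mul_smul, Matrix.smul_mul, mul_one, one_mul]
  have hcσ : σ c = c := by
    have h1 := congrArg (fun X : M => X.map σ) hc
    simp only [Matrix.map_mul] at h1
    rw [hmm, hc'] at h1
    obtain ⟨i⟩ := (inferInstance : Nonempty ι)
    have h2 := congrFun (congrFun h1 i) i
    simp at h2
    exact h2.symm
  have hc0 : c ≠ 0 := by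
    intro e
    rw [e, zero_smul] at hc
    have h1 := congrArg Matrix.det hc
    rw [Matrix.det_mul, Matrix.det_zero] at h1
    refine mul_ne_zero ?_ hdetA h1
    rw [show (A₀.map σ).det = σ A₀.det from (σ.toRingHom.map_det A₀).symm]
    exact (map_ne_zero σ).2 hdetA
  obtain ⟨k, hk⟩ := hbar.norm c hcσ
  have hk0 : k ≠ 0 := by
    intro e
    rw [e, zero_mul] at hk
    exact hc0 hk.symm
  set A : M := k⁻¹ • A₀ with hA
  have hAmap : A.map σ = σ k⁻¹ • A₀.map σ := by ext a b; simp [hA]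
  have hAA : A.map σ * A = 1 := by
    rw [hAmap, hA, Matrix.smul_mul, Matrix.mul_smul, hc, smul_smul, smul_smul, map_inv₀, ← hk]
    have := (map_ne_zero σ).2 hk0
    rw [show (σ k)⁻¹ * k⁻¹ * (k * σ k) = 1 by field_simp, one_smul]
  have hAcomm : ∀ g ∈ N, A * mat g = (mat g).map σ * A := fun g hg => by
    rw [hA, Matrix.smul_mul, Matrix.mul_smul, hcomm g hg]
  -- fixed vectors of `v ↦ σ v * A`
  let J : (ι → F) → (ι → F) := fun v => (fun i => σ (v i)) ᵥ* A
  have hJadd : ∀ v w, J (v + w) = J v + J w := fun v w => by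
    show _ ᵥ* A = _ ᵥ* A + _ ᵥ* A
    rw [← Matrix.add_vecMul]; congr 1; funext i; simp
  have hJsmul : ∀ (a : F) v, J (a • v) = σ a • J v := fun a v => by
    show _ ᵥ* A = σ a • (_ ᵥ* A)
    rw [← Matrix.smul_vecMul]; congr 1; funext i; simp
  have hJJ : ∀ v, J (J v) = v := fun v => by
    show (fun i => σ (((fun i => σ (v i)) ᵥ* A) i)) ᵥ* A = v
    rw [show (fun i => σ (((fun i => σ (v i)) ᵥ* A) i)) = v ᵥ* A.map σ from ?_, Matrix.vecMul_vecMul, hAA,
      Matrix.vecMul_one]
    funext i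
    have h1 := RingHom.map_vecMul σ.toRingHom A (fun i => σ (v i)) i
    simpa [Function.comp_def, hbar.involutive] using h1
  obtain ⟨θ, hθ⟩ := hbar.exists_moved
  have hspan : Submodule.span F {v | J v = v} = ⊤ := by
    rw [eq_top_iff]
    intro v _
    have h1 : v + J v ∈ Submodule.span F {v | J v = v} := Submodule.subset_span (by
      show J (v + J v) = v + J v
      rw [hJadd, hJJ, add_comm])
    have h2 : θ • v + σ θ • J v ∈ Submodule.span F {v | J v = v} := Submodule.subset_span (by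
      show J (θ • v + σ θ • J v) = _
      rw [hJadd, hJsmul, hJsmul, hJJ, hbar.involutive, add_comm])
    have h3 : (θ - σ θ) • v = (θ • v + σ θ • J v) - σ θ • (v + J v) := by rw [sub_smul, smul_add]; abel
    have h4 : (θ - σ θ) • v ∈ Submodule.span F {v | J v = v} := h3 ▸ sub_mem h2 (Submodule.smul_mem _ _ h1)
    have h5 := Submodule.smul_mem _ (θ - σ θ)⁻¹ h4
    rwa [smul_smul, inv_mul_cancel₀ (sub_ne_zero.2 (Ne.symm hθ)), one_smul] at h5
  let b := Module.Basis.ofSpan hspan.ge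
  haveI : Fintype _ := FiniteDimensional.fintypeBasisIndex b
  have hcardb := Module.finrank_eq_card_basis b
  rw [Module.finrank_fintype_fun_eq_card] at hcardb
  let b' : Module.Basis ι F (ι → F) := b.reindex (Fintype.equivOfCardEq hcardb).symm
  have hb' : ∀ i, J (b' i) = b' i := fun i => by
    have : b' i ∈ {v | J v = v} := by
      rw [Module.Basis.reindex_apply]
      exact Module.Basis.ofSpan_subset hspan.ge ⟨_, rfl⟩
    exact this
  let Bm : M := Matrix.of fun i => b' i
  have hBu : IsUnit Bm := Matrix.linearIndependent_rows_iff_isUnit.1 b'.linearIndependent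
  let B : GL ι F := hBu.unit
  have hBA : Bm.map σ * A = Bm := by
    ext i j
    exact congrFun (hb' i) j
  let F₀ : Subfield F := RingHom.eqLocusField σ.toRingHom (RingHom.id F)
  refine ⟨F₀, fun e => hθ ?_, realisable_mat.2 ⟨B, fun g hg i j => ?_⟩⟩
  · have : θ ∈ F₀ := e ▸ Subfield.mem_top θ
    exact this
  have hBv : mat B = Bm := hBu.unit_spec
  have key : (mat (B * g * B⁻¹)).map σ = mat (B * g * B⁻¹) := by
    have e : mat (B * g * B⁻¹) = mat B * mat g * mat B⁻¹ := by simp [mat]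
    have h1 : (mat B⁻¹).map σ = A * mat B⁻¹ := by
      have h2 : (mat B).map σ * (mat B⁻¹).map σ = 1 := by
        rw [← Matrix.map_mul, mat_mul_inv]; simp
      have hu : IsUnit ((mat B).map σ) := map_isUnit σ B
      refine hu.mul_right_inj.1 ?_
      rw [h2, ← mul_assoc, hBv, hBA, ← hBv, mat_mul_inv]
    rw [e, Matrix.map_mul, Matrix.map_mul, h1, mul_assoc, ← mul_assoc ((mat g).map σ), ← hAcomm g hg, mul_assoc A,
      ← mul_assoc ((mat B).map σ), hBv, hBA, mul_assoc]
  exact congrFun (congrFun key i) j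

/-- The orthogonal case. -/
theorem bilinear_rational [Fintype F] [Nonempty ι] (hodd : Odd (Fintype.card ι)) {N : Subgroup (GL ι F)}
    (hN : ActsAbsolutelyIrreducibly (matrixSet N)) {G : M} (hG : G.det ≠ 0)
    (h : Fixes (RingEquiv.refl F) N G) {F₁ : Subfield F} (hdet : G.det ∈ F₁)
    {B : GL ι F} (hB : ∀ g ∈ N, Entries F₁ (mat (B * g * B⁻¹))) :
    ∃ P : GL ι F, subfieldSubgroup F₁ P = subfieldSubgroup F₁ B⁻¹ ∧
      Entries F₁ (act (RingEquiv.refl F) G (mat P)) := by
  set G' := act (RingEquiv.refl F) G (mat B⁻¹) with hG'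
  set d := (mat B⁻¹).det with hd
  have hd0 : d ≠ 0 := ((Matrix.isUnit_iff_isUnit_det _).1 B⁻¹.isUnit).ne_zero
  have hdetG' : G'.det = d * G.det * d := by rw [hG', det_act]; rfl
  obtain ⟨lam, G₁, hlam, hG₁, hGlam⟩ := rational_gram (F₁ := F₁) (abs_conj hN B)
    (by rintro _ ⟨g, hg, rfl⟩; exact hB g hg)
    (show G'.det ≠ 0 by rw [hdetG']; exact mul_ne_zero (mul_ne_zero hd0 hG) hd0) (fixes_conj h B)
  obtain ⟨k, hk⟩ := hodd
  have hD₁ : G₁.det ∈ F₁ := by
    let X₀ : Matrix ι ι F₁ := Matrix.of fun a b => ⟨G₁ a b, hG₁ a b⟩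
    have h1 : G₁ = (F₁.subtype : F₁ →+* F).mapMatrix X₀ := rfl
    rw [h1, ← RingHom.map_det]
    exact X₀.det.2
  rw [hGlam, Matrix.det_smul, hk] at hdetG'
  have hD0 : G₁.det ≠ 0 := by
    intro e
    rw [e, mul_zero] at hdetG'
    exact mul_ne_zero (mul_ne_zero hd0 hG) hd0 hdetG'.symm
  have hc0 : lam ^ k / d ≠ 0 := div_ne_zero (pow_ne_zero _ hlam) hd0
  refine ⟨sc _ hc0 * B⁻¹, subfieldSubgroup_scalar_mul (sc_mem _) _, fun a b => ?_⟩
  rw [show mat (sc _ hc0 * B⁻¹) = (lam ^ k / d) • mat B⁻¹ by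
    rw [mat, Units.val_mul, show ((sc _ hc0 : GL ι F) : M) = (lam ^ k / d) • (1 : M) from mat_sc _, Matrix.smul_mul,
      one_mul], act_sc, ← hG', hGlam, smul_smul, Matrix.smul_apply, smul_eq_mul, RingEquiv.refl_apply]
  rw [show lam ^ k / d * (lam ^ k / d) * lam = G.det / G₁.det by
    field_simp
    linear_combination hdetG']
  exact mul_mem (div_mem hdet hD₁) (hG₁ a b)

end Cfsg.Agent.PrimeDim
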