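import Cfsg.Agent.PrimeDim.Extra

/-!
If every non-scalar normal subgroup is absolutely irreducible and non-abelian modulo scalars, the smallest one
is the core of an almost simple group; the resulting division of irreducible groups of prime degree into four kinds.
-/

set_option autoImplicit false

namespace Cfsg.Agent.PrimeDim

open Matrix Cfsg.Geo
open scoped MatrixGroups

variable {ι : Type} [Fintype ι] [DecidableEq ι] {F : Type*} [Field F]

theorem inv_eq_one_of_hom {G A : Type*} [Group G] [CommGroup A] {P : Subgroup G} (hP : ⁅P, P⁆ = P) (φ : P →* A)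
    (x : P) : φ x = 1 := by
  have key : ⁅(⊤ : Subgroup P), (⊤ : Subgroup P)⁆ = (⊤ : Subgroup P) := by
    apply Subgroup.map_injective P.subtype_injective
    rw [Subgroup.map_commutator, ← MonoidHom.range_eq_map, P.range_subtype, hP]
  have h : ⁅(⊤ : Subgroup P), (⊤ : Subgroup P)⁆ ≤ φ.ker := by
    rw [Subgroup.commutator_le]
    intro a _ b _
    rw [MonoidHom.mem_ker, map_commutatorElement]
    exact commutatorElement_eq_one_iff_commute.2 (Commute.all _ _)
  exact MonoidHom.mem_ker.1 (h (key.symm ▸ Subgroup.mem_top x))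

/-- If a perfect subgroup is centralised modulo scalars, it is centralised. -/
theorem comm_of_perfect {P : Subgroup (GL ι F)} (hP : ⁅P, P⁆ = P) {h : GL ι F}
    (hh : ∀ x ∈ P, h * x * h⁻¹ * x⁻¹ ∈ scalars ι F) : ∀ x ∈ P, h * x = x * h := by
  haveI hc : IsMulCommutative (scalars ι F) := ⟨⟨fun a b => Subtype.ext (scalar_comm a.2 b.1)⟩⟩
  letI : CommGroup (scalars ι F) := { (inferInstance : Group (scalars ι F)) with mul_comm := fun a b => hc.is_comm.comm a b }
  let φ : P →* scalars ι F :=
    { toFun := fun x => ⟨h * x.1 * h⁻¹ * x.1⁻¹, hh x.1 x.2⟩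
      map_one' := Subtype.ext (by simp)
      map_mul' := fun a b => Subtype.ext (by
        have e : h * (a.1 * b.1) * h⁻¹ * (a.1 * b.1)⁻¹ =
            (h * a.1 * h⁻¹) * ((h * b.1 * h⁻¹ * b.1⁻¹) * a.1⁻¹) := by group
        show h * (a.1 * b.1) * h⁻¹ * (a.1 * b.1)⁻¹ = h * a.1 * h⁻¹ * a.1⁻¹ * (h * b.1 * h⁻¹ * b.1⁻¹)
        rw [e, (scalar_comm (hh b.1 b.2) a.1⁻¹).eq, ← mul_assoc]) }
  intro x hx
  have h1 : h * x * h⁻¹ * x⁻¹ = 1 := congrArg Subtype.val (inv_eq_one_of_hom hP φ ⟨x, hx⟩)
  rwa [mul_inv_eq_one, mul_inv_eq_iff_eq_mul] at h1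

theorem normalised_commutator {H A : Subgroup (GL ι F)} (h : Normalised H A) : Normalised H ⁅A, A⁆ := by
  intro g hg x hx
  have hle : A.map (MulAut.conj g).toMonoidHom ≤ A := by
    rintro _ ⟨y, hy, rfl⟩
    exact h g hg y hy
  have : (⁅A, A⁆).map (MulAut.conj g).toMonoidHom ≤ ⁅A, A⁆ := by
    rw [Subgroup.map_commutator]
    exact Subgroup.commutator_mono hle hle
  exact this ⟨x, hx, rfl⟩

theorem normalised_self (P : Subgroup (GL ι F)) : Normalised P P := fun _ hh _ hx =>
  mul_mem (mul_mem hh hx) (inv_mem hh)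

theorem commutator_le_of_sub {A : Subgroup (GL ι F)} : ⁅A, A⁆ ≤ A :=
  Subgroup.commutator_le.2 fun a ha b hb => mul_mem (mul_mem (mul_mem ha hb) (inv_mem ha)) (inv_mem hb)

/-- The data of a core. -/
structure IsCoreData (H P : Subgroup (GL ι F)) : Prop where
  le : P ≤ H
  normalised : Normalised H P
  nonscalar : ¬ P ≤ scalars ι F
  abs : ActsAbsolutelyIrreducibly (matrixSet P)
  residual : (∀ F₀ : Subfield F, F₀ ≠ ⊤ → ¬ RealisableOver F₀ (matrixSet P)) → IsResidualCore H P

variable [Finite F]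

set_option maxHeartbeats 1000000 in
/-- The core of a group all of whose non-scalar normal subgroups are absolutely irreducible and non-abelian modulo
scalars. -/
theorem exists_core (hr : (Fintype.card ι).Prime) {H : Subgroup (GL ι F)} (hH : Irr H) (hgood : Good H)
    (hno : ∀ N : Subgroup (GL ι F), N ≤ H → Normalised H N → ¬ N ≤ scalars ι F → ¬ ⁅N, N⁆ ≤ scalars ι F) :
    ∃ P, IsCoreData H P := by
  classical
  haveI : Nonempty ι := Fintype.card_pos_iff.1 hr.pos
  have hHns : ¬ H ≤ scalars ι F := by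
    intro hle
    obtain ⟨i⟩ := (inferInstance : Nonempty ι)
    let W : Submodule F (ι → F) := Submodule.span F {Pi.single i (1 : F)}
    have hW : Inv H W := fun g hg v hv => by
      obtain ⟨c, hc⟩ := (Cfsg.Geo.mem_scalars_iff g).1 (hle hg)
      rw [mat, hc, smul_one_mulVec]
      exact Submodule.smul_mem _ _ hv
    have hne : (Pi.single i (1 : F) : ι → F) ≠ 0 := by simp
    rcases hH W hW with h | h
    · exact hne ((Submodule.mem_bot F).1 (h ▸ Submodule.subset_span rfl))
    · have h1 : Module.finrank F W = 1 := finrank_span_singleton hne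
      rw [h, finrank_top, Module.finrank_fintype_fun_eq_card] at h1
      exact hr.ne_one h1
  let T : Set ℕ := {k | ∃ N : Subgroup (GL ι F), N ≤ H ∧ Normalised H N ∧ ¬ N ≤ scalars ι F ∧ Nat.card N = k}
  obtain ⟨P, hPH, hPn, hPns, hPc⟩ := Nat.sInf_mem (s := T) ⟨_, H, le_rfl, normalised_self H, hHns, rfl⟩
  have hPmin : ∀ N, N ≤ P → Normalised H N → ¬ N ≤ scalars ι F → N = P := fun N h1 h2 h3 =>
    Subgroup.eq_of_le_of_card_ge h1 (hPc.le.trans (Nat.sInf_le ⟨N, h1.trans hPH, h2, h3, rfl⟩))
  have hPperf : ⁅P, P⁆ = P := hPmin _ commutator_le_of_sub (normalised_commutator hPn) (hno P hPH hPn hPns)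
  have hPabs := hgood P hPH hPn hPns
  let T' : Set ℕ := {k | ∃ N : Subgroup (GL ι F), N ≤ P ∧ Normalised P N ∧ ¬ N ≤ scalars ι F ∧ Nat.card N = k}
  obtain ⟨A, hAP, hAn, hAns, hAc⟩ := Nat.sInf_mem (s := T') ⟨_, P, le_rfl, normalised_self P, hPns, rfl⟩
  have hAmin : ∀ N, N ≤ P → Normalised P N → ¬ N ≤ scalars ι F → Nat.card A ≤ Nat.card N := fun N h1 h2 h3 =>
    hAc.le.trans (Nat.sInf_le ⟨N, h1, h2, h3, rfl⟩)
  have hAPeq : A = P := by
    let C : GL ι F → Subgroup (GL ι F) := fun g => A.map (MulAut.conj g).toMonoidHom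
    have hCP : ∀ g ∈ H, C g ≤ P := by
      rintro g hg _ ⟨a, ha, rfl⟩
      exact hPn g hg a (hAP ha)
    have hCn : ∀ g ∈ H, Normalised P (C g) := by
      rintro g hg x hx _ ⟨a, ha, rfl⟩
      refine ⟨(g⁻¹ * x * g) * a * (g⁻¹ * x * g)⁻¹, hAn _ (hPn.conj' hg hx) a ha, ?_⟩
      simp [mul_assoc]
    have hCns : ∀ g, ¬ C g ≤ scalars ι F := by
      intro g h
      refine hAns fun a ha => ?_
      have h2 := (scalars_normal (ι := ι) (F := F)).conj_mem _ (h ⟨a, ha, rfl⟩) g⁻¹
      simpa [mul_assoc] using h2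
    have hCcard : ∀ g, Nat.card (C g) = Nat.card A := fun g =>
      (Nat.card_congr (A.equivMapOfInjective _ (MulAut.conj g).injective).toEquiv).symm
    -- generators of `P`
    have hgen : Subgroup.closure (⋃ g ∈ H, (C g : Set (GL ι F))) = P := by
      refine hPmin _ ((Subgroup.closure_le P).2 fun x hx => ?_) ?_ fun h => hCns 1 ?_
      · simp only [Set.mem_iUnion] at hx
        obtain ⟨g, hg, hx⟩ := hx
        exact hCP g hg hx
      · intro k hk x hx
        induction hx using Subgroup.closure_induction with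
        | mem y hy =>
          simp only [Set.mem_iUnion] at hy
          obtain ⟨g, hg, a, ha, rfl⟩ := hy
          refine Subgroup.subset_closure ?_
          simp only [Set.mem_iUnion]
          exact ⟨k * g, mul_mem hk hg, a, ha, by simp [mul_assoc]⟩
        | one => simp
        | mul a b _ _ h1 h2 =>
          rw [show k * (a * b) * k⁻¹ = (k * a * k⁻¹) * (k * b * k⁻¹) by group]
          exact mul_mem h1 h2
        | inv a _ h1 =>
          rw [show k * a⁻¹ * k⁻¹ = (k * a * k⁻¹)⁻¹ by group]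
          exact inv_mem h1
      · intro x hx
        refine h (Subgroup.subset_closure ?_)
        simp only [Set.mem_iUnion]
        exact ⟨1, one_mem _, hx⟩
    have hdiff : ∀ g ∈ H, ∀ k ∈ H, C g = C k ∨ ∀ a ∈ C g, ∀ b ∈ C k, a * b * a⁻¹ * b⁻¹ ∈ scalars ι F := by
      intro g hg k hk
      by_cases hI : C g ⊓ C k ≤ scalars ι F
      · refine Or.inr fun a ha b hb => hI (Subgroup.mem_inf.2 ⟨?_, mul_mem (hCn k hk a (hCP g hg ha) b hb) (inv_mem hb)⟩)
        rw [show a * b * a⁻¹ * b⁻¹ = a * (b * a⁻¹ * b⁻¹) by group]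
        exact mul_mem ha (hCn g hg b (hCP k hk hb) _ (inv_mem ha))
      · left
        have hn : Normalised P (C g ⊓ C k) := fun x hx y hy =>
          Subgroup.mem_inf.2 ⟨hCn g hg x hx y (Subgroup.mem_inf.1 hy).1, hCn k hk x hx y (Subgroup.mem_inf.1 hy).2⟩
        have h1 := hAmin _ (inf_le_left.trans (hCP g hg)) hn hI
        have e1 : C g ⊓ C k = C g := Subgroup.eq_of_le_of_card_ge inf_le_left (by rw [hCcard]; exact h1)
        have e2 : C g ⊓ C k = C k := Subgroup.eq_of_le_of_card_ge inf_le_right (by rw [hCcard]; exact h1)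
        rw [← e1, e2]
    by_cases hAA : ⁅A, A⁆ ≤ scalars ι F
    · -- all generators commute modulo scalars
      refine absurd ?_ (hno P hPH hPn hPns)
      let π := QuotientGroup.mk' (scalars ι F)
      suffices h : ∀ x ∈ P, ∀ y ∈ P, π x * π y = π y * π x by
        rw [Subgroup.commutator_le]
        intro x hx y hy
        rw [← QuotientGroup.eq_one_iff, ← QuotientGroup.mk'_apply, map_commutatorElement]
        exact commutatorElement_eq_one_iff_commute.2 (h x hx y hy)
      have hbase : ∀ g ∈ H, ∀ k ∈ H, ∀ a ∈ C g, ∀ b ∈ C k, π a * π b = π b * π a := by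
        intro g hg k hk a ha b hb
        have hab : a * b * a⁻¹ * b⁻¹ ∈ scalars ι F := by
          rcases hdiff g hg k hk with e | h
          · rw [← e] at hb
            have hc : ⁅C g, C g⁆ ≤ scalars ι F := by
              show ⁅A.map _, A.map _⁆ ≤ _
              rw [← Subgroup.map_commutator]
              rintro _ ⟨x, hx, rfl⟩
              exact (scalars_normal (ι := ι) (F := F)).conj_mem _ (hAA hx) g
            exact hc (Subgroup.commutator_mem_commutator ha hb)
          · exact h a ha b hb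
        have h1 : π a * π b * (π a)⁻¹ * (π b)⁻¹ = 1 := by
          rw [← map_inv, ← map_inv, ← map_mul, ← map_mul, ← map_mul, QuotientGroup.mk'_apply, QuotientGroup.eq_one_iff]
          exact hab
        rwa [mul_inv_eq_one, mul_inv_eq_iff_eq_mul] at h1
      intro x hx y hy
      rw [← hgen] at hx hy
      induction hx, hy using Subgroup.closure_induction₂ with
      | mem a b ha hb =>
        simp only [Set.mem_iUnion] at ha hb
        obtain ⟨g, hg, ha⟩ := ha
        obtain ⟨k, hk, hb⟩ := hb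
        exact hbase g hg k hk a ha b hb
      | one_left a _ => simp
      | one_right a _ => simp
      | mul_left a b c _ _ _ h1 h2 =>
        rw [map_mul]; exact (Commute.mul_left (h1 : Commute _ _) (h2 : Commute _ _)).eq
      | mul_right a b c _ _ _ h1 h2 =>
        rw [map_mul]; exact (Commute.mul_right (h1 : Commute _ _) (h2 : Commute _ _)).eq
      | inv_left a b _ _ h1 => rw [map_inv]; exact (Commute.inv_left (h1 : Commute _ _)).eq
      | inv_right a b _ _ h1 => rw [map_inv]; exact (Commute.inv_right (h1 : Commute _ _)).eq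
    · -- `A` is perfect
      have hAperf : ⁅A, A⁆ = A := Subgroup.eq_of_le_of_card_ge commutator_le_of_sub
        (hAmin _ (commutator_le_of_sub.trans hAP) (normalised_commutator hAn) hAA)
      have hPirr : Irr P := (abs_iff.1 hPabs).1
      have hnc : ¬ Comm A := fun hc => hAA <| Subgroup.commutator_le.2 fun a ha b hb => by
        rw [commutatorElement_eq_one_iff_commute.2 (hc a ha b hb)]; exact one_mem _
      have hAirr : Irr A := (lines_or_irr hr hPirr hAP hAn hAns).resolve_left fun h => hnc h.2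
      have hAabs := (semilinear_or_abs hr hAP hAn hAns hAirr).resolve_left fun h => hnc h.2
      have hfix : Normalised H A := by
        intro g hg a ha
        have hC1 : C 1 = A := by
          show A.map _ = A
          ext x; simp [MulAut.conj_apply]
        rcases hdiff g hg 1 (one_mem H) with e | h
        · rw [← hC1, ← e]
          exact ⟨a, ha, rfl⟩
        · refine absurd (fun b hb => comm_of_abs hAabs fun x hx => comm_of_perfect hAperf (fun y hy => ?_) x hx) (hCns g)
          exact h b hb y (hC1.symm ▸ hy)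
      exact hPmin A hAP hfix hAns
  subst hAPeq
  refine ⟨A, hPH, hPn, hPns, hPabs, fun hsub => ⟨hPH, hPn, hPperf, ?_, ?_, fun h hh hc => ?_, hPabs, hsub⟩⟩
  · haveI : Nontrivial (A ⧸ (scalars ι F).subgroupOf A) :=
      QuotientGroup.nontrivial_iff.2 fun e => hPns (Subgroup.subgroupOf_eq_top.1 e)
    refine ⟨fun K hK => ?_⟩
    let π := QuotientGroup.mk' ((scalars ι F).subgroupOf A)
    let K' : Subgroup (GL ι F) := (K.comap π).map A.subtype
    have hK'n : Normalised A K' := by
      rintro x hx _ ⟨y, hy, rfl⟩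
      let xx : A := ⟨x, hx⟩
      refine Subgroup.mem_map.2 ⟨xx * y * xx⁻¹, (hK.comap π).conj_mem y hy xx, ?_⟩
      simp [xx]
    by_cases hs : K' ≤ scalars ι F
    · left
      rw [eq_bot_iff]
      intro k hk
      obtain ⟨y, rfl⟩ := QuotientGroup.mk'_surjective _ k
      rw [Subgroup.mem_bot, QuotientGroup.mk'_apply, QuotientGroup.eq_one_iff, Subgroup.mem_subgroupOf]
      exact hs ⟨y, hk, rfl⟩
    · right
      have e : K' = A := Subgroup.eq_of_le_of_card_ge (Subgroup.map_subtype_le _)
        (hAmin K' (Subgroup.map_subtype_le _) hK'n hs)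
      rw [eq_top_iff]
      intro k _
      obtain ⟨y, rfl⟩ := QuotientGroup.mk'_surjective _ k
      obtain ⟨y', hy', he⟩ := (e.ge y.2 : y.1 ∈ K')
      rw [← (Subtype.ext he : y' = y)]
      exact hy'
  · intro hc
    refine hno A hPH hPn hPns (Subgroup.commutator_le.2 fun a ha b hb => ?_)
    have h1 := hc.is_comm.comm (QuotientGroup.mk' ((scalars ι F).subgroupOf A) ⟨a, ha⟩)
      (QuotientGroup.mk' ((scalars ι F).subgroupOf A) ⟨b, hb⟩)
    let aa : A := ⟨a, ha⟩
    let bb : A := ⟨b, hb⟩
    have h2 : QuotientGroup.mk' ((scalars ι F).subgroupOf A) (aa * bb * aa⁻¹ * bb⁻¹) = 1 := by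
      rw [map_mul, map_mul, map_mul, map_inv, map_inv, h1, mul_inv_cancel_right, mul_inv_cancel]
    rw [QuotientGroup.mk'_apply, QuotientGroup.eq_one_iff, Subgroup.mem_subgroupOf] at h2
    exact h2
  · exact comm_of_abs hPabs (comm_of_perfect hPperf hc)

/-- The four kinds of irreducible groups of odd prime degree. -/
theorem four_cases {r : ℕ} (hr : r.Prime) (hr2 : r ≠ 2) (hcard : Fintype.card ι = r) {H : Subgroup (GL ι F)}
    (hSL : H ≤ specialLinear ι F) (hH : Irr H) :
    Lines H ∨ Semilinear H ∨ (∃ R, IsExtra r H R) ∨ ∃ P, IsCoreData H P := by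
  have hr' : (Fintype.card ι).Prime := hcard ▸ hr
  rcases lines_semilinear_good hr' hH with h | h | hgood
  · exact Or.inl h
  · exact Or.inr (Or.inl h)
  refine Or.inr (Or.inr ?_)
  by_cases hs : ∃ N : Subgroup (GL ι F), N ≤ H ∧ Normalised H N ∧ ¬ N ≤ scalars ι F ∧ ⁅N, N⁆ ≤ scalars ι F
  · obtain ⟨N, hle, hn, hns, hc⟩ := hs
    exact Or.inl (exists_extra hr hr2 hcard hSL hgood hle hn hns fun x hx y hy =>
      hc (Subgroup.commutator_mem_commutator hx hy))
  · exact Or.inr (exists_core hr' hH hgood fun N h1 h2 h3 h4 => hs ⟨N, h1, h2, h3, h4⟩)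

end Cfsg.Agent.PrimeDim
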