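import Cfsg.Agent.PrimeDim.SLProper
import Cfsg.Agent.PrimeDim.Core

/-!
Common tools for the lists of maximal subgroups in prime degree.
-/

set_option autoImplicit false

namespace Cfsg.Agent.PrimeDim

open Matrix Cfsg.Geo
open scoped MatrixGroups

variable {ι : Type} [Fintype ι] [DecidableEq ι] {F : Type*} [Field F]

local notation "M" => Matrix ι ι F

theorem eq_inf_of_maximal {G : Type*} [Group G] {A H S : Subgroup G} (hH : IsMaximalIn A H) (h : H ≤ S)
    (h' : ¬ A ≤ S) : H = S ⊓ A :=
  ((hH.2 (S ⊓ A) (le_inf h hH.1.le) inf_le_right).resolve_right fun e => h' (e ▸ inf_le_left)).symm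

theorem map_eq_of_inv {H : Subgroup (GL ι F)} {W : Submodule F (ι → F)} (hW : Inv H W) {g : GL ι F} (hg : g ∈ H)
    (v : ι → F) : mat g *ᵥ v ∈ W ↔ v ∈ W :=
  ⟨fun h => by simpa [inv_mulVec_cancel] using hW _ (inv_mem hg) _ h, hW g hg v⟩

theorem le_stab {H : Subgroup (GL ι F)} {W : Submodule F (ι → F)} (hW : Inv H W) : H ≤ subspaceStabilizer W := by
  intro g hg v
  exact (map_eq_of_inv hW hg v).symm

theorem le_normalizer {H R : Subgroup (GL ι F)} (hn : Normalised H R) : H ≤ subgroupNormalizer R := by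
  intro h hh
  refine Subgroup.mem_normalizer_iff.2 fun x => ⟨fun hx => hn h hh x hx, fun hx => ?_⟩
  have := hn.conj' hh hx
  simpa [mul_assoc] using this

/-- The permutation and the multipliers of a group permuting the lines of a basis. -/
theorem exists_perm {b : Module.Basis ι F (ι → F)} {g : GL ι F}
    (h : ∀ i, ∃ (j : ι) (c : F), mat g *ᵥ b i = c • b j) :
    ∃ (π : Equiv.Perm ι) (c : ι → F), (∀ i, c i ≠ 0) ∧ ∀ i, mat g *ᵥ b i = c i • b (π i) := by
  classical
  choose j c hc using h
  have hc0 : ∀ i, c i ≠ 0 := fun i e => by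
    have := hc i
    rw [e, zero_smul] at this
    exact b.ne_zero i (mulVec_injective g (this.trans (Matrix.mulVec_zero _).symm))
  have hj : Function.Injective j := by
    intro i i' hii
    by_contra hne
    have h1 : mat g *ᵥ (c i' • b i - c i • b i') = 0 := by
      rw [Matrix.mulVec_sub, Matrix.mulVec_smul, Matrix.mulVec_smul, hc, hc, hii, smul_smul, smul_smul, mul_comm,
        sub_self]
    have h2 : c i' • b i - c i • b i' = 0 := mulVec_injective g (h1.trans (Matrix.mulVec_zero _).symm)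
    have h3 := congrArg (fun v => b.repr v i) h2
    simp [hne] at h3
    exact hc0 i' h3
  exact ⟨Equiv.ofBijective j (Finite.injective_iff_bijective.1 hj), c, hc0, hc⟩

/-- The decomposition into the lines of a basis. -/
theorem lines_decomposition {t : ℕ} (ht : 2 ≤ t) (b : Module.Basis ι F (ι → F)) (e : Fin t ≃ ι) :
    IsMDecomposition 1 (fun k => Submodule.span F {b (e k)}) := by
  refine ⟨ht, one_pos, fun k => finrank_span_singleton (b.ne_zero _), ?_, ?_⟩
  · exact (b.linearIndependent.comp e e.injective).iSupIndep_span_singleton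
  · rw [← Submodule.span_range_eq_iSup, show (Set.range fun k => b (e k)) = Set.range b from
      e.surjective.range_comp b, b.span_eq]

theorem le_decomposition {t : ℕ} {H : Subgroup (GL ι F)} (b : Module.Basis ι F (ι → F)) (e : Fin t ≃ ι)
    (hperm : ∀ h ∈ H, ∀ i, ∃ (j : ι) (c : F), mat h *ᵥ b i = c • b j) :
    H ≤ decompositionStabilizer (fun k => Submodule.span F {b (e k)}) := by
  intro h hh
  obtain ⟨π, c, hc, hπ⟩ := exists_perm (hperm h hh)
  refine ⟨(e.trans π).trans e.symm, fun k => ?_⟩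
  simp only [Submodule.map_span, Set.image_singleton, Matrix.toLin'_apply, hπ, Equiv.trans_apply,
    Equiv.apply_symm_apply]
  exact Submodule.span_singleton_smul_eq (isUnit_iff_ne_zero.2 (hc _)) _

theorem conj_single (b : Module.Basis ι F (ι → F)) (g : GL ι F) {i j : ι} {c : F} (h : mat g *ᵥ b i = c • b j) :
    mat ((ofBasis b)⁻¹ * g * ofBasis b) *ᵥ Pi.single i 1 = c • (Pi.single j 1 : ι → F) := by
  rw [← mulVec_mul, ← mulVec_mul, ofBasis_single, h, Matrix.mulVec_smul, ← ofBasis_single b j, inv_mulVec_cancel]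

/-- A monomial matrix with entries of norm one fixes the standard form. -/
theorem act_one_of_mono {σ : F ≃+* F} {X : M} (π : Equiv.Perm ι) (c : ι → F)
    (hX : ∀ i, X *ᵥ Pi.single i 1 = c i • (Pi.single (π i) 1 : ι → F)) (hc : ∀ i, c i * σ (c i) = 1) :
    act σ 1 X = 1 := by
  have hXe : ∀ k i, X k i = if k = π i then c i else 0 := by
    intro k i
    have h := congrFun (hX i) k
    rw [Matrix.mulVec_single_one, Matrix.col_apply] at h
    rw [h]
    by_cases hk : k = π i <;> simp [hk]
  ext a b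
  rw [act, mul_one, Matrix.mul_apply]
  simp only [Matrix.transpose_apply, Matrix.map_apply, hXe]
  by_cases hab : a = b
  · subst hab
    rw [Finset.sum_eq_single (π a) (fun k _ hk => by simp [hk]) (by simp), Matrix.one_apply_eq]
    simp [hc]
  · rw [Matrix.one_apply_ne hab]
    refine Finset.sum_eq_zero fun k _ => ?_
    by_cases hk : k = π a
    · subst hk; simp [π.injective.eq_iff, hab]
    · simp [hk]

/-- A group permuting lines with multipliers of norm one fixes a form. -/
theorem fixes_of_mono {σ : F ≃+* F} {H : Subgroup (GL ι F)} (b : Module.Basis ι F (ι → F))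
    (h : ∀ g ∈ H, ∃ (π : Equiv.Perm ι) (c : ι → F), (∀ i, c i * σ (c i) = 1) ∧
      ∀ i, mat g *ᵥ b i = c i • b (π i)) :
    Fixes σ H (act σ 1 (mat (ofBasis b)⁻¹)) := by
  intro g hg
  obtain ⟨π, c, hc, hπ⟩ := h g hg
  rw [← act_mul]
  have e : mat (ofBasis b)⁻¹ * mat g = mat ((ofBasis b)⁻¹ * g * ofBasis b) * mat (ofBasis b)⁻¹ := by
    simp [mat, mul_assoc]
  rw [e, act_mul, act_one_of_mono π c (fun i => conj_single b g (hπ i)) hc]

theorem det_act_one_ne_zero (σ : F ≃+* F) (B : GL ι F) : (act σ 1 (mat B)).det ≠ 0 := by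
  have hd : (mat B).det ≠ 0 := ((Matrix.isUnit_iff_isUnit_det _).1 B.isUnit).ne_zero
  rw [det_act, Matrix.det_one]
  exact mul_ne_zero (mul_ne_zero hd one_ne_zero) ((map_ne_zero σ).2 hd)

theorem herm_act_one {σ : F ≃+* F} (hσ : ∀ a, σ (σ a) = a) (X : M) : (act σ 1 X)ᵀ = (act σ 1 X).map σ := by
  rw [act, mul_one, Matrix.transpose_mul, Matrix.transpose_transpose, Matrix.map_mul, Matrix.map_map,
    show (σ ∘ σ : F → F) = id from funext hσ, Matrix.map_id, Matrix.transpose_map]

theorem isUnitaryForm_formG {σ : F ≃+* F} (hσ : IsBar σ) {G : M} (hG : G.det ≠ 0) (hs : Gᵀ = G.map σ) :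
    IsUnitaryForm σ (formG σ G) := by
  have herm : ∀ v w, formG σ G v w = σ (formG σ G w v) := by
    intro v w
    simp only [formG, dotProduct, Matrix.mulVec, Finset.mul_sum, map_sum, map_mul, hσ.involutive]
    rw [Finset.sum_comm]
    refine Finset.sum_congr rfl fun a _ => Finset.sum_congr rfl fun b _ => ?_
    have h1 := congrFun (congrFun hs a) b
    rw [Matrix.transpose_apply, Matrix.map_apply] at h1
    rw [← h1]; ring
  have hleft : ∀ v : ι → F, v ≠ 0 → ∃ x, formG σ G v x ≠ 0 := by
    intro v hv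
    have h1 : v ᵥ* G ≠ 0 := fun e => hG (Matrix.exists_vecMul_eq_zero_iff.1 ⟨v, hv, e⟩)
    obtain ⟨j, hj⟩ := Function.ne_iff.1 h1
    exact ⟨Pi.single j 1, by rw [formG, single_comp, Matrix.dotProduct_mulVec, dotProduct_single, mul_one]; exact hj⟩
  refine ⟨hσ.ne_refl, hσ.involutive, fun x y v => ?_, fun c x v => ?_, herm, fun v hv => ⟨?_, hleft v hv⟩⟩
  · rw [formG, add_dotProduct]; rfl
  · rw [formG, smul_dotProduct, smul_eq_mul]; rfl
  · obtain ⟨x, hx⟩ := hleft v hv
    exact ⟨x, by rw [herm]; exact (map_ne_zero σ).2 hx⟩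

theorem isSesq_formG (σ : F ≃+* F) (G : M) : IsSesq σ (formG σ G) := by
  refine ⟨fun x y v => ?_, fun c x v => ?_, fun v x y => ?_, fun c v x => ?_⟩
  · rw [formG, add_dotProduct]; rfl
  · rw [formG, smul_dotProduct, smul_eq_mul]; rfl
  · rw [formG, formG, formG, ← dotProduct_add, ← Matrix.mulVec_add]
    congr; funext i; simp
  · rw [formG, formG, ← smul_eq_mul, ← dotProduct_smul, ← Matrix.mulVec_smul]
    congr; funext i; simp

theorem gram_formG (σ : F ≃+* F) (G : M) : gramMatrix (formG σ G) = G := by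
  ext i j; exact formG_single σ G i j

theorem quad_eq_half {Q : (ι → F) → F} (hQ : IsNondegenerateQuadraticForm Q) (v : ι → F) :
    2 * Q v = QuadraticMap.polar Q v v := by
  have h := hQ.smul 2 v
  rw [two_smul] at h
  rw [QuadraticMap.polar, h]; ring

/-- The quadratic form of a symmetric Gram matrix, for odd characteristic. -/
theorem isQuad_formG (h2 : (2 : F) ≠ 0) {G : M} (hG : G.det ≠ 0) (hs : Gᵀ = G) :
    IsNondegenerateQuadraticForm (fun v : ι → F => formG (RingEquiv.refl F) G v v) := by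
  have hf := isSesq_formG (RingEquiv.refl F) G
  have hsymm : ∀ u v, formG (RingEquiv.refl F) G u v = formG (RingEquiv.refl F) G v u := fun u v => by
    show u ⬝ᵥ (G *ᵥ v) = v ⬝ᵥ (G *ᵥ u)
    rw [Matrix.dotProduct_mulVec, ← Matrix.mulVec_transpose, hs, dotProduct_comm]
  have hpol : QuadraticMap.polar (fun v => formG (RingEquiv.refl F) G v v) =
      fun u v => 2 * formG (RingEquiv.refl F) G u v := by
    funext u v
    simp only [QuadraticMap.polar, hf.add_left, hf.add_right, hsymm v u]
    ring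
  refine ⟨fun c v => ?_, ⟨?_, ?_, ?_, ?_⟩, fun v hv => ?_⟩
  · rw [hf.smul_left, hf.smul_right, RingEquiv.refl_apply]; ring
  · intro x y v; rw [hpol]; simp only [hf.add_left]; ring
  · intro c x v; rw [hpol]; simp only [hf.smul_left]; ring
  · intro v x y; rw [hpol]; simp only [hf.add_right]; ring
  · intro c v x; rw [hpol]; simp only [hf.smul_right, RingEquiv.refl_apply]; ring
  · have h1 : v ᵥ* G ≠ 0 := fun e => hG (Matrix.exists_vecMul_eq_zero_iff.1 ⟨v, hv, e⟩)
    obtain ⟨j, hj⟩ := Function.ne_iff.1 h1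
    have hne : formG (RingEquiv.refl F) G v (Pi.single j 1) ≠ 0 := by
      rw [formG, single_comp, Matrix.dotProduct_mulVec, dotProduct_single, mul_one]; exact hj
    rw [hpol]
    exact ⟨⟨Pi.single j 1, mul_ne_zero h2 (hsymm v _ ▸ hne)⟩, ⟨Pi.single j 1, mul_ne_zero h2 hne⟩⟩

theorem two_ne_zero_of_odd [Fintype F] (h : Odd (Fintype.card F)) : (2 : F) ≠ 0 := by
  intro h2
  haveI : CharP F 2 := CharTwo.of_one_ne_zero_of_two_eq_zero one_ne_zero h2
  obtain ⟨n, -, hn⟩ := FiniteField.card F 2
  rw [hn, Nat.odd_pow_iff n.pos.ne'] at h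
  exact absurd h (by decide)

theorem odd_of_two_ne_zero [Fintype F] (h : (2 : F) ≠ 0) : Odd (Fintype.card F) := by
  refine Nat.odd_iff.2 ((FiniteField.odd_card_of_char_ne_two fun e => h ?_))
  haveI := ringChar.charP F
  rw [show (2 : F) = ((2 : ℕ) : F) by norm_num, CharP.cast_eq_zero_iff F (ringChar F), e]

end Cfsg.Agent.PrimeDim
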