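import Cfsg.Agent.PrimeDim.SLExcept

/-!
The maximal subgroups of special linear groups of odd prime degree.
-/

set_option autoImplicit false

namespace Cfsg.Agent.PrimeDim

open Matrix Cfsg.Geo
open scoped MatrixGroups

variable {ι : Type} [Fintype ι] [DecidableEq ι] {F : Type*} [Field F]

local notation "M" => Matrix ι ι F

theorem sl_not_quad [Finite F] (h3 : 2 < Fintype.card ι) {Q : (ι → F) → F} (hQ : IsNondegenerateQuadraticForm Q) :
    ¬ specialLinear ι F ≤ quadSimilarityGroup Q := by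
  intro hle
  have hf := isSesq_of_bilinear hQ.polar_bilinear
  refine sl_not_similitude h3 (σ := RingEquiv.refl F) (hf.det_ne_zero hQ.nondegenerate) fun g hg => ?_
  obtain ⟨c, hc⟩ := hle hg
  refine ⟨c, formG_ext (σ := RingEquiv.refl F) fun u v => ?_⟩
  rw [← formG_mulVec, formG_smul, ← hf.eq_formG, ← hf.eq_formG]
  simp only [QuadraticMap.polar, ← Matrix.mulVec_add, mat, hc]
  ring

theorem sl_not_unitary [Finite F] (h3 : 2 < Fintype.card ι) {σ : F ≃+* F} {f : (ι → F) → (ι → F) → F}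
    (hf : IsUnitaryForm σ f) : ¬ specialLinear ι F ≤ similarityGroup f := by
  intro hle
  have hs := isSesq_of_unitary hf
  refine sl_not_similitude h3 (σ := σ) (hs.det_ne_zero hf.nondegenerate) fun g hg => ?_
  obtain ⟨c, hc⟩ := hle hg
  refine ⟨c, formG_ext (σ := σ) fun u v => ?_⟩
  rw [← formG_mulVec, formG_smul, ← hs.eq_formG, ← hs.eq_formG]
  exact hc u v

theorem entries_of_mono {F₀ : Subfield F} (b : Module.Basis ι F (ι → F)) {g : GL ι F}
    (h : ∀ i, ∃ (j : ι) (c : F), c ∈ F₀ ∧ mat g *ᵥ b i = c • b j) :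
    Entries F₀ (mat ((ofBasis b)⁻¹ * g * ofBasis b)) := by
  intro k i
  obtain ⟨j, c, hc, hji⟩ := h i
  have h1 := congrFun (conj_single b g hji) k
  rw [Matrix.mulVec_single_one, Matrix.col_apply] at h1
  rw [h1]
  by_cases hk : k = j
  · subst hk; simpa using hc
  · simp [hk]

theorem exists_inv_of_not_irr {H : Subgroup (GL ι F)} (h : ¬ Irr H) :
    ∃ W : Submodule F (ι → F), W ≠ ⊥ ∧ W ≠ ⊤ ∧ Inv H W := by
  unfold Irr at h
  push Not at h
  obtain ⟨W, hW, hb, ht⟩ := h
  exact ⟨W, hb, ht, hW⟩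

theorem orderOf_cast_data {r p : ℕ} (hr : r.Prime) (hp : p.Prime) (hpr : p ≠ r) :
    0 < orderOf (p : ZMod r) ∧ orderOf (p : ZMod r) ∣ r - 1 ∧ p ^ orderOf (p : ZMod r) % r = 1 ∧
      ∀ d, 0 < d → d < orderOf (p : ZMod r) → p ^ d % r ≠ 1 := by
  haveI := Fact.mk hr
  have hp0 : (p : ZMod r) ≠ 0 := fun e => hpr ((Nat.prime_dvd_prime_iff_eq hr hp).1 ((ZMod.natCast_eq_zero_iff p r).1 e)).symm
  have hkey : ∀ d : ℕ, p ^ d % r = 1 ↔ (p : ZMod r) ^ d = 1 := fun d => by
    rw [← Nat.cast_pow]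
    conv_rhs => rw [← Nat.cast_one (R := ZMod r)]
    rw [ZMod.natCast_eq_natCast_iff', Nat.mod_eq_of_lt hr.one_lt]
  refine ⟨orderOf_pos_iff.2 (isOfFinOrder_iff_pow_eq_one.2 ⟨r - 1, by have := hr.two_le; omega, ZMod.pow_card_sub_one_eq_one hp0⟩),
    ZMod.orderOf_dvd_card_sub_one hp0, (hkey _).2 (pow_orderOf_eq_one _), fun d hd hlt e => ?_⟩
  exact absurd (orderOf_le_of_pow_eq_one hd ((hkey d).1 e)) (by omega)

theorem pow_mod_of_root {r : ℕ} (hr : r.Prime) [Fintype F] {ζ : F} (hζ : IsPrimitiveRoot ζ r) :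
    Fintype.card F % r = 1 := by
  have h0 : ζ ≠ 0 := hζ.ne_zero hr.ne_zero
  have h1 : ζ ^ (Fintype.card F - 1) = 1 := FiniteField.pow_card_sub_one_eq_one ζ h0
  obtain ⟨k, hk⟩ := (hζ.pow_eq_one_iff_dvd _).1 h1
  have h2 := Fintype.one_lt_card (α := F)
  rw [show Fintype.card F = r * k + 1 by omega, Nat.mul_add_mod, Nat.mod_eq_of_lt hr.one_lt]

/-- The list for `SL_r(q)`, `r` an odd prime. -/
theorem sl_cases [Fintype F] {r : ℕ} (hr : r.Prime) (hr2 : r ≠ 2) {H : Subgroup (GL (Fin r) F)}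
    (hH : IsMaximalIn (specialLinear (Fin r) F) H) :
    (∃ W : Submodule F (Fin r → F), W ≠ ⊥ ∧ W ≠ ⊤ ∧ H = subspaceStabilizer W ⊓ specialLinear (Fin r) F) ∨
    (5 ≤ Fintype.card F ∧ ∃ D : Fin r → Submodule F (Fin r → F), IsMDecomposition 1 D ∧
      H = decompositionStabilizer D ⊓ specialLinear (Fin r) F) ∨
    (¬ (r = 3 ∧ Fintype.card F = 4) ∧ ∃ K : Subalgebra F (Matrix (Fin r) (Fin r) F), IsFieldSubalgebra r K ∧
      H = subalgebraNormalizer K ⊓ specialLinear (Fin r) F) ∨
    (∃ (F₀ : Subfield F) (l : ℕ) (P : GL (Fin r) F), l.Prime ∧ Fintype.card F = Nat.card F₀ ^ l ∧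
      H = subfieldSubgroup F₀ P ⊓ specialLinear (Fin r) F) ∨
    (∃ (p e : ℕ) (R : Subgroup (GL (Fin r) F)), p.Prime ∧ CharP F p ∧ Fintype.card F = p ^ e ∧ Odd e ∧ e ∣ r - 1 ∧
      p ^ e % r = 1 ∧ (∀ d, 0 < d → d < e → p ^ d % r ≠ 1) ∧ IsLinearSymplecticTypeData r R ∧
      H = subgroupNormalizer R ⊓ specialLinear (Fin r) F) ∨
    (Odd (Fintype.card F) ∧ ∃ Q : (Fin r → F) → F, IsNondegenerateQuadraticForm Q ∧
      H = quadSimilarityGroup Q ⊓ specialLinear (Fin r) F) ∨
    (∃ (σ : F ≃+* F) (f : (Fin r → F) → (Fin r → F) → F), IsUnitaryForm σ f ∧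
      H = similarityGroup f ⊓ specialLinear (Fin r) F) ∨
    InLinearResidualClass H := by
  classical
  haveI := Fact.mk hr
  have h3 : 2 < r := by have := hr.two_le; omega
  have hι3 : 2 < Fintype.card (Fin r) := by rw [Fintype.card_fin]; exact h3
  haveI : Nonempty (Fin r) := ⟨⟨0, hr.pos⟩⟩
  have hsub : ∀ (N : Subgroup (GL (Fin r) F)), ActsAbsolutelyIrreducibly (matrixSet N) → Normalised H N →
      ∀ (F₀ : Subfield F), F₀ ≠ ⊤ → ∀ B : GL (Fin r) F, (∀ g ∈ N, Entries F₀ (mat (B * g * B⁻¹))) →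
      ∃ (F₀ : Subfield F) (l : ℕ) (P : GL (Fin r) F), l.Prime ∧ Fintype.card F = Nat.card F₀ ^ l ∧
        H = subfieldSubgroup F₀ P ⊓ specialLinear (Fin r) F := by
    intro N hN hn F₀ hF₀ B hB
    obtain ⟨F₁, l, hl, hcard, -, hle⟩ := le_subfield hN hn hF₀ hB
    refine ⟨F₁, l, B⁻¹, hl, hcard, eq_inf_of_maximal hH hle (sl_not_subfield (by omega) ?_ _)⟩
    intro e
    have h1 : Nat.card F₁ = Fintype.card F := by
      rw [e, ← Nat.card_eq_fintype_card]; exact Nat.card_congr Subfield.topEquiv.toEquiv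
    rw [h1] at hcard
    exact absurd hcard (Nat.ne_of_lt (lt_self_pow₀ Fintype.one_lt_card hl.one_lt))
  have hunit : ∀ (σ : F ≃+* F) (f : (Fin r → F) → (Fin r → F) → F), IsUnitaryForm σ f → H ≤ similarityGroup f →
      ∃ (σ : F ≃+* F) (f : (Fin r → F) → (Fin r → F) → F), IsUnitaryForm σ f ∧
        H = similarityGroup f ⊓ specialLinear (Fin r) F := fun σ f hf hle =>
    ⟨σ, f, hf, eq_inf_of_maximal hH hle (sl_not_unitary hι3 hf)⟩
  by_cases hirr : Irr H
  swap
  · obtain ⟨W, hb, ht, hW⟩ := exists_inv_of_not_irr hirr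
    exact Or.inl ⟨W, hb, ht, eq_inf_of_maximal hH (le_stab hW) (sl_not_stab hb ht)⟩
  right
  rcases four_cases hr hr2 (Fintype.card_fin r) hH.1.le hirr with hL | hS | ⟨R, hR⟩ | ⟨P, hP⟩
  · obtain ⟨N, b, χ, -, -, -, -, hperm⟩ := hL
    have hmono : ∀ g ∈ H, ∃ (π : Equiv.Perm (Fin r)) (c : Fin r → F), (∀ i, c i ≠ 0) ∧
        ∀ i, mat g *ᵥ b i = c i • b (π i) := fun g hg => exists_perm (hperm g hg)
    by_cases hq5 : 5 ≤ Fintype.card F
    · exact Or.inl ⟨hq5, _, lines_decomposition (by omega) b (Equiv.refl _), eq_inf_of_maximal hH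
        (le_decomposition b (Equiv.refl _) hperm)
        (sl_not_decomp b (Equiv.refl _) (fun _ => rfl) (by omega))⟩
    have h1 := Fintype.one_lt_card (α := F)
    have hpw : ∀ g ∈ H, ∀ i, ∀ (π : Equiv.Perm (Fin r)) (c : Fin r → F), (∀ i, c i ≠ 0) →
        c i ^ (Fintype.card F - 1) = 1 := fun _ _ i _ c hc => FiniteField.pow_card_sub_one_eq_one _ (hc i)
    rcases (show Fintype.card F = 2 ∨ Fintype.card F = 3 ∨ Fintype.card F = 4 by omega) with hq | hq | hq
    · exfalso
      let W : Submodule F (Fin r → F) := Submodule.span F {∑ i, b i}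
      have hne : (∑ i, b i) ≠ 0 := by
        intro e
        have h2 := congrArg (fun v => b.repr v (Classical.arbitrary _)) e
        simp [Finsupp.single_apply] at h2
      have hW : Inv H W := by
        intro g hg v hv
        obtain ⟨π, c, hc, hπ⟩ := hmono g hg
        obtain ⟨a, rfl⟩ := Submodule.mem_span_singleton.1 hv
        have hc1 : ∀ i, c i = 1 := fun i => by
          have h2 := hpw g hg i π c hc
          rw [hq] at h2
          simpa using h2
        rw [Matrix.mulVec_smul, Matrix.mulVec_sum]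
        simp only [hπ, hc1, one_smul]
        rw [Equiv.sum_comp π (fun i => b i)]
        exact W.smul_mem _ (Submodule.subset_span rfl)
      rcases hirr W hW with e | e
      · exact hne ((Submodule.mem_bot F).1 (e ▸ Submodule.subset_span rfl))
      · have h2 : Module.finrank F W = 1 := finrank_span_singleton hne
        rw [e, finrank_top, Module.finrank_fintype_fun_eq_card] at h2
        omega
    · have hodd : Odd (Fintype.card F) := by rw [hq]; decide
      have hfix : Fixes (RingEquiv.refl F) H (act (RingEquiv.refl F) 1 (mat (ofBasis b)⁻¹)) :=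
        fixes_of_mono b fun g hg => by
          obtain ⟨π, c, hc, hπ⟩ := hmono g hg
          refine ⟨π, c, fun i => ?_, hπ⟩
          have h2 := hpw g hg i π c hc
          rw [hq] at h2
          rw [RingEquiv.refl_apply, ← pow_two]
          exact h2
      set G := act (RingEquiv.refl F) 1 (mat (ofBasis b)⁻¹) with hG
      have hQ : IsNondegenerateQuadraticForm (fun v => formG (RingEquiv.refl F) G v v) :=
        isQuad_formG (two_ne_zero_of_odd hodd) (det_act_one_ne_zero _ _) (by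
          have h2 := herm_act_one (σ := RingEquiv.refl F) (fun _ => rfl) (mat (ofBasis b)⁻¹)
          rwa [show (act (RingEquiv.refl F) 1 (mat (ofBasis b)⁻¹)).map (RingEquiv.refl F) =
            act (RingEquiv.refl F) 1 (mat (ofBasis b)⁻¹) from Matrix.map_id _] at h2)
      refine Or.inr (Or.inr (Or.inr (Or.inr (Or.inl ⟨hodd, _, hQ, eq_inf_of_maximal hH ?_ (sl_not_quad hι3 hQ)⟩))))
      intro g hg
      exact ⟨1, fun v => by simp only [Units.val_one, one_mul, formG_mulVec, hfix g hg]⟩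
    · obtain ⟨σ, hσ, hbar⟩ := exists_bar (F := F) (q := 2) (by rw [hq]; rfl)
      have hfix : Fixes σ H (act σ 1 (mat (ofBasis b)⁻¹)) := fixes_of_mono b fun g hg => by
        obtain ⟨π, c, hc, hπ⟩ := hmono g hg
        refine ⟨π, c, fun i => ?_, hπ⟩
        have h2 := hpw g hg i π c hc
        rw [hq] at h2
        rw [hσ, ← pow_succ']
        exact h2
      refine Or.inr (Or.inr (Or.inr (Or.inr (Or.inr (Or.inl (hunit σ _
        (isUnitaryForm_formG hbar (det_act_one_ne_zero σ (ofBasis b)⁻¹) (herm_act_one hbar.involutive _)) ?_))))))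
      intro g hg
      exact ⟨1, fun u v => by rw [Units.val_one, one_mul, formG_mulVec, hfix g hg]⟩
  · obtain ⟨K, N, -, -, hK, hHK, -, -, -⟩ := hS
    rw [Fintype.card_fin] at hK
    by_cases hex : r = 3 ∧ Fintype.card F = 4
    · obtain ⟨hr3, hq⟩ := hex
      subst hr3
      obtain ⟨F₀, P, hcard, hle⟩ := sl34 hq hK
      refine Or.inr (Or.inr (Or.inl ⟨F₀, 2, P, Nat.prime_two, hcard,
        eq_inf_of_maximal hH ((le_inf hHK hH.1.le).trans hle) (sl_not_subfield (by omega) ?_ _)⟩))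
      intro e
      have h1 : Nat.card F₀ = Fintype.card F := by
        rw [e, ← Nat.card_eq_fintype_card]; exact Nat.card_congr Subfield.topEquiv.toEquiv
      rw [h1, hq] at hcard
      norm_num at hcard
    · exact Or.inr (Or.inl ⟨hex, K, hK, eq_inf_of_maximal hH hHK (sl_not_field hr.one_lt hι3 hK)⟩)
  · obtain ⟨p, n, hp, hc, hn0, hn⟩ := prime_card_pow (F := F)
    rw [Nat.card_eq_fintype_card] at hn
    haveI := Fact.mk hp
    obtain ⟨ζ, hζ, z, hz, hzmat⟩ := hR.root
    have hpr : p ≠ r := by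
      rintro rfl
      exact (hζ.neZero' (R := F) (n := p)).out (CharP.cast_eq_zero F p)
    obtain ⟨he0, hediv, hepow, hemin⟩ := orderOf_cast_data hr hp hpr
    set e := orderOf (p : ZMod r) with he
    have hen : e ∣ n := by
      refine orderOf_dvd_of_pow_eq_one ?_
      have h1 := pow_mod_of_root hr hζ
      rw [hn] at h1
      rw [← Nat.cast_pow, ← Nat.cast_one, ZMod.natCast_eq_natCast_iff', h1, Nat.mod_eq_of_lt hr.one_lt]
    obtain ⟨a, haR, has⟩ := SetLike.not_le_iff_exists.1 hR.nonscalar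
    obtain ⟨b, -, hb⟩ := hR.basis a haR has
    have hroots : ∀ c : F, c ^ r = 1 → ∃ k, c = ζ ^ k := fun c hc =>
      ⟨_, ((hζ.eq_pow_of_pow_eq_one hc).choose_spec.2).symm⟩
    rcases (Nat.le_of_dvd hn0 hen).lt_or_eq with hlt | heq
    · -- a proper subfield contains the roots of unity
      let F₀ : Subfield F := RingHom.eqLocusField (powHom p e) (RingHom.id F)
      have hmem : ∀ x, x ∈ F₀ ↔ x ^ p ^ e = x := fun x => by
        show powHom p e x = x ↔ _
        rw [powHom_apply]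
      have hF₀ : F₀ ≠ ⊤ := by
        intro htop
        have h1 := card_fixed_le (E := F) (p ^ e) (Nat.one_lt_pow he0.ne' hp.one_lt)
        rw [Nat.card_congr (Equiv.subtypeUnivEquiv fun x => (hmem x).1 (htop ▸ Subfield.mem_top x)),
          Nat.card_eq_fintype_card, hn] at h1
        exact absurd h1 (not_le.2 (Nat.pow_lt_pow_right hp.one_lt hlt))
      have hζ₀ : ζ ∈ F₀ := by
        rw [hmem, ← Nat.mod_add_div (p ^ e) r, hepow, pow_add, pow_mul, hζ.pow_eq_one, one_pow, mul_one, pow_one]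
      refine Or.inr (Or.inr (Or.inl (hsub R hR.abs hR.normalised F₀ hF₀ (ofBasis b)⁻¹ fun g hg => ?_)))
      rw [inv_inv]
      refine entries_of_mono b fun i => ?_
      obtain ⟨j, c, hc, h⟩ := hb g hg i
      obtain ⟨k, rfl⟩ := hroots c hc
      exact ⟨j, _, pow_mem hζ₀ k, h⟩
    subst heq
    rcases Nat.even_or_odd e with heven | hodd
    · -- a unitary form
      obtain ⟨k, hk⟩ := heven
      obtain ⟨σ, hσ, hbar⟩ := exists_bar (F := F) (q := p ^ k) (by rw [hn, hk, ← pow_mul]; congr 1; omega)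
      have hneg : (p : ZMod r) ^ k = -1 := by
        have h1 : ((p : ZMod r) ^ k) ^ 2 = 1 := by
          rw [← pow_mul, show k * 2 = e by omega]; exact pow_orderOf_eq_one _
        rcases sq_eq_one_iff.1 h1 with h2 | h2
        · exact absurd (orderOf_le_of_pow_eq_one (by omega) h2) (by omega)
        · exact h2
      have hζσ : ζ ^ (p ^ k + 1) = 1 := by
        rw [hζ.pow_eq_one_iff_dvd, ← ZMod.natCast_eq_zero_iff]
        push_cast
        rw [hneg, neg_add_cancel]
      have hfix : Fixes σ R (act σ 1 (mat (ofBasis b)⁻¹)) := fixes_of_mono b fun g hg => by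
        choose j c hc hji using hb g hg
        obtain ⟨π, c', hc0, hπ⟩ := exists_perm (b := b) (g := g) fun i => ⟨_, _, hji i⟩
        refine ⟨π, c', fun i => ?_, hπ⟩
        have h1 := congrArg (fun v => b.repr v (π i)) ((hπ i).symm.trans (hji i))
        by_cases hpi : π i = j i
        · simp [hpi] at h1
          obtain ⟨m, hm⟩ := hroots _ (hc i)
          rw [h1, hm, hσ, ← pow_succ', ← pow_mul, mul_comm, pow_mul, hζσ, one_pow]
        · simp [hpi] at h1
          exact absurd h1 (hc0 i)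
      have hG0 := det_act_one_ne_zero σ (ofBasis b)⁻¹
      refine Or.inr (Or.inr (Or.inr (Or.inr (Or.inr (Or.inl (hunit σ _
        (isUnitaryForm_formG hbar hG0 (herm_act_one hbar.involutive _)) ?_))))))
      intro g hg
      obtain ⟨c, hc⟩ := similar hR.abs hR.normalised hG0 hfix g hg
      exact (isSesq_formG σ _).mem_similarity (c := c) (by rw [gram_formG]; exact hc)
    · refine Or.inr (Or.inr (Or.inr (Or.inl ⟨p, e, R, hp, hc, hn, hodd, hediv, hepow, hemin,
        ⟨hR.symp, hR.abs, p, e, Ne.symm hpr, ⟨hp, hc, hn, ?_, ?_⟩, Or.inl ⟨hr.odd_of_ne_two hr2, hodd, hR.card_center,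
          1, le_rfl, hR.card⟩⟩, eq_inf_of_maximal hH (le_normalizer hR.normalised)
          (sl_not_normalizer hr (Fintype.card_fin r) hr2 ?_ hR)⟩)))
      · rw [hR.card_center]
        exact (Nat.modEq_iff_dvd' (Nat.one_le_pow _ _ hp.pos)).1 (hepow.trans (Nat.one_mod_eq_one.2 hr.ne_one).symm).symm
      · intro d hd hlt hdvd
        rw [hR.card_center] at hdvd
        refine hemin d hd hlt ?_
        have h1 := ((Nat.modEq_iff_dvd' (Nat.one_le_pow _ _ hp.pos)).2 hdvd).symm
        exact Eq.trans h1 (Nat.one_mod_eq_one.2 hr.ne_one)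
      · intro hr3
        have he1 : e = 1 := by
          have h1 : e ≤ 2 := Nat.le_of_dvd (by norm_num) (by rw [hr3] at hediv; exact hediv)
          rcases hodd with ⟨m, hm⟩
          omega
        rw [hn, he1, pow_one]
        rw [he1, pow_one, hr3] at hepow
        have := hp.two_le
        have hp4 : p ≠ 4 := by rintro rfl; norm_num at hp
        omega
  · by_cases hsubf : ∃ F₀ : Subfield F, F₀ ≠ ⊤ ∧ RealisableOver F₀ (matrixSet P)
    · obtain ⟨F₀, hF₀, hreal⟩ := hsubf
      obtain ⟨B, hB⟩ := realisable_mat.1 hreal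
      exact Or.inr (Or.inr (Or.inl (hsub P hP.abs hP.normalised F₀ hF₀ B hB)))
    by_cases hquad : ∃ Q : (Fin r → F) → F, IsNondegenerateQuadraticForm Q ∧ FixesQuadForm (matrixSet P) Q
    · obtain ⟨Q, hQ, hfixQ⟩ := hquad
      have hf := isSesq_of_bilinear hQ.polar_bilinear
      have hG0 := hf.det_ne_zero hQ.nondegenerate
      have hfix : Fixes (RingEquiv.refl F) P (gramMatrix (QuadraticMap.polar Q)) := fun g hg =>
        (hf.fixes_iff g).1 fun u v => by
          simp only [QuadraticMap.polar, ← Matrix.mulVec_add, hfixQ _ ⟨g, hg, rfl⟩]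
      have h2 : (2 : F) ≠ 0 := by
        intro h2
        refine hG0 (det_eq_zero_of_alt (by rw [Fintype.card_fin]; exact hr.odd_of_ne_two hr2) ?_ fun i => ?_)
        · ext a b
          rw [Matrix.transpose_apply, Matrix.neg_apply, gramMatrix, gramMatrix, QuadraticMap.polar_comm]
          linear_combination (QuadraticMap.polar Q (Pi.single a 1) (Pi.single b 1)) * h2
        · rw [gramMatrix, ← quad_eq_half hQ, h2, zero_mul]
      refine Or.inr (Or.inr (Or.inr (Or.inr (Or.inl ⟨odd_of_two_ne_zero h2, Q, hQ,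
        eq_inf_of_maximal hH ?_ (sl_not_quad hι3 hQ)⟩))))
      intro g hg
      obtain ⟨c, hc⟩ := similar hP.abs hP.normalised hG0 hfix g hg
      refine ⟨c, fun v => mul_left_cancel₀ h2 ?_⟩
      rw [quad_eq_half hQ, hf.eq_formG, formG_mulVec, hc, formG_smul, ← hf.eq_formG, ← quad_eq_half hQ]
      ring
    by_cases hun : ∃ (σ : F ≃+* F) (f : (Fin r → F) → (Fin r → F) → F), IsUnitaryForm σ f ∧ FixesForm (matrixSet P) f
    · obtain ⟨σ, f, hf, hfixf⟩ := hun
      have hs := isSesq_of_unitary hf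
      refine Or.inr (Or.inr (Or.inr (Or.inr (Or.inr (Or.inl (hunit σ f hf ?_))))))
      intro g hg
      obtain ⟨c, hc⟩ := similar hP.abs hP.normalised (hs.det_ne_zero hf.nondegenerate)
        (fun x hx => (hs.fixes_iff x).1 (hfixf _ ⟨x, hx, rfl⟩)) g hg
      exact hs.mem_similarity hc
    refine Or.inr (Or.inr (Or.inr (Or.inr (Or.inr (Or.inr ⟨P, hP.residual fun F₀ h0 h1 => hsubf ⟨F₀, h0, h1⟩, hquad, ?_, hun⟩)))))
    rintro ⟨f, hf, -⟩
    refine (isSesq_of_bilinear hf.bilinear).det_ne_zero hf.nondegenerate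
      (det_eq_zero_of_alt (by rw [Fintype.card_fin]; exact hr.odd_of_ne_two hr2) ?_ fun i => hf.alternating _)
    ext a b
    exact hf.skew _ _

end Cfsg.Agent.PrimeDim
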