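import Cfsg.Agent.PrimeDim.Tools

/-!
Unitary root elements; the special unitary group is contained in none of the geometric subgroups of prime degree.
-/

set_option autoImplicit false

namespace Cfsg.Agent.PrimeDim

open Matrix Cfsg.Geo
open scoped MatrixGroups

variable {ι : Type} [Fintype ι] [DecidableEq ι] {F : Type*} [Field F]

local notation "M" => Matrix ι ι F

/-- The form with unit Gram matrix. -/
abbrev stdH (σ : F ≃+* F) (u v : ι → F) : F := formG σ (1 : Matrix ι ι F) u v

theorem stdH_eq (σ : F ≃+* F) (u v : ι → F) : stdH σ u v = ∑ i, u i * σ (v i) := by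
  simp [stdH, formG, dotProduct]

/-- The matrix of a root element. -/
def rootMat (σ : F ≃+* F) (b : F) (v : ι → F) : Matrix ι ι F :=
  1 + b • Matrix.vecMulVec v (fun i => σ (v i))

theorem rootMat_mulVec (σ : F ≃+* F) (b : F) (v x : ι → F) :
    rootMat σ b v *ᵥ x = x + (b * stdH σ x v) • v := by
  rw [rootMat, Matrix.add_mulVec, Matrix.one_mulVec, Matrix.smul_mulVec, Matrix.vecMulVec_mulVec, stdH_eq]
  congr 1
  funext i
  simp only [Pi.smul_apply, dotProduct, smul_eq_mul, op_smul_eq_smul]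
  rw [Finset.sum_congr rfl fun j _ => mul_comm (σ (v j)) (x j)]
  ring

theorem rootMat_mul {σ : F ≃+* F} {v : ι → F} (hv : stdH σ v v = 0) (b c : F) :
    rootMat σ b v * rootMat σ c v = rootMat σ (b + c) v := by
  refine Matrix.toLin'.injective (LinearMap.ext fun x => ?_)
  have hadd : ∀ (x y : ι → F), stdH σ (x + y) v = stdH σ x v + stdH σ y v := fun x y =>
    (isSesq_formG σ 1).add_left x y v
  have hsmul : ∀ (a : F) (x : ι → F), stdH σ (a • x) v = a * stdH σ x v := fun a x =>
    (isSesq_formG σ 1).smul_left a x v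
  rw [Matrix.toLin'_apply, Matrix.toLin'_apply, ← Matrix.mulVec_mulVec, rootMat_mulVec, rootMat_mulVec,
    rootMat_mulVec, hadd, hsmul, hv, mul_zero, add_zero]
  module

theorem rootMat_zero (σ : F ≃+* F) (v : ι → F) : rootMat σ 0 v = 1 := by simp [rootMat]

/-- A root element. -/
noncomputable def root {σ : F ≃+* F} {v : ι → F} (hv : stdH σ v v = 0) (b : F) : GL ι F :=
  ⟨rootMat σ b v, rootMat σ (-b) v, by rw [rootMat_mul hv, add_neg_cancel, rootMat_zero],
    by rw [rootMat_mul hv, neg_add_cancel, rootMat_zero]⟩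

theorem mat_root {σ : F ≃+* F} {v : ι → F} (hv : stdH σ v v = 0) (b : F) : mat (root hv b) = rootMat σ b v := rfl

theorem root_inv {σ : F ≃+* F} {v : ι → F} (hv : stdH σ v v = 0) (b : F) : (root hv b)⁻¹ = root hv (-b) :=
  Units.ext rfl

theorem root_mulVec {σ : F ≃+* F} {v : ι → F} (hv : stdH σ v v = 0) (b : F) (x : ι → F) :
    mat (root hv b) *ᵥ x = x + (b * stdH σ x v) • v := rootMat_mulVec σ b v x

theorem root_pow {σ : F ≃+* F} {v : ι → F} (hv : stdH σ v v = 0) (b : F) (n : ℕ) :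
    root hv b ^ n = root hv ((n : F) * b) := by
  induction n with
  | zero => ext1; simp [root, rootMat_zero]
  | succ n ih =>
    rw [pow_succ, ih]
    ext1
    show rootMat σ ((n : F) * b) v * rootMat σ b v = rootMat σ (((n + 1 : ℕ) : F) * b) v
    rw [rootMat_mul hv, Nat.cast_succ, add_mul, one_mul]

theorem det_root [Finite F] {σ : F ≃+* F} {v : ι → F} (hv : stdH σ v v = 0) (b : F) :
    (mat (root hv b)).det = 1 := by
  obtain ⟨p, n, hp, hc, -, -⟩ := prime_card_pow (F := F)
  haveI := Fact.mk hp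
  apply frobenius_inj F p
  rw [frobenius_def, frobenius_def, one_pow, ← Matrix.det_pow, mat, ← Units.val_pow_eq_pow_val, root_pow,
    CharP.cast_eq_zero, zero_mul]
  show (rootMat σ 0 v).det = 1
  rw [rootMat_zero, Matrix.det_one]

theorem root_isometry {σ : F ≃+* F} (hσ : ∀ a, σ (σ a) = a) {v : ι → F} (hv : stdH σ v v = 0) {b : F}
    (hb : b + σ b = 0) (x y : ι → F) : stdH σ (mat (root hv b) *ᵥ x) (mat (root hv b) *ᵥ y) = stdH σ x y := by
  have hf := isSesq_formG σ (1 : M)
  have herm : stdH σ v y = σ (stdH σ y v) := by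
    simp only [stdH_eq, map_sum, map_mul, hσ]
    exact Finset.sum_congr rfl fun i _ => mul_comm _ _
  rw [root_mulVec, root_mulVec]
  simp only [stdH] at hv herm ⊢
  simp only [hf.add_left, hf.add_right, hf.smul_left, hf.smul_right, hv, map_mul, herm]
  linear_combination (formG σ 1 x v * σ (formG σ 1 y v)) * hb

/-- `G` contains all root elements. -/
def HasRoots (σ : F ≃+* F) (G : Subgroup (GL ι F)) : Prop :=
  ∀ (v : ι → F) (hv : stdH σ v v = 0) (b : F), b + σ b = 0 → root hv b ∈ G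

section

variable {σ : F ≃+* F} {G : Subgroup (GL ι F)}

/-- The standard isotropic vectors. -/
def iso (i j : ι) (x : F) : ι → F := (Pi.single i 1 : ι → F) + x • (Pi.single j 1 : ι → F)

theorem stdH_single (i : ι) (u : ι → F) : stdH σ u (Pi.single i 1) = u i := by
  rw [stdH, formG, single_comp, Matrix.one_mulVec, dotProduct_single, mul_one]

theorem stdH_iso (u : ι → F) (i j : ι) (x : F) : stdH σ u (iso i j x) = u i + σ x * u j := by
  rw [stdH, iso, (isSesq_formG σ 1).add_right, (isSesq_formG σ 1).smul_right]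
  rw [show formG σ 1 u (Pi.single i 1) = u i from stdH_single i u,
    show formG σ 1 u (Pi.single j 1) = u j from stdH_single j u]

theorem iso_apply_left {i j : ι} (h : i ≠ j) (x : F) : iso i j x i = 1 := by simp [iso, h]
theorem iso_apply_right {i j : ι} (h : i ≠ j) (x : F) : iso i j x j = x := by simp [iso, Ne.symm h]
theorem iso_apply_ne {i j k : ι} (hi : k ≠ i) (hj : k ≠ j) (x : F) : iso i j x k = 0 := by simp [iso, hi, hj]

theorem stdH_iso_self {i j : ι} (h : i ≠ j) {x : F} (hx : x * σ x = -1) : stdH σ (iso i j x) (iso i j x) = 0 := by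
  rw [stdH_iso, iso_apply_left h, iso_apply_right h, mul_comm (σ x), hx, add_neg_cancel]

theorem exists_norm_neg_one (hbar : IsBar σ) :
    ∃ x x' : F, x ≠ x' ∧ x * σ x = -1 ∧ x' * σ x' = -1 := by
  obtain ⟨x, hx⟩ := hbar.norm (-1) (by rw [map_neg, map_one])
  obtain ⟨θ, hθ⟩ := hbar.exists_moved
  have hθ0 : θ ≠ 0 := fun e => hθ (by rw [e, map_zero])
  have hσθ : σ θ ≠ 0 := (map_ne_zero σ).2 hθ0
  refine ⟨x, x * (θ / σ θ), fun e => ?_, hx, ?_⟩
  · have hx0 : x ≠ 0 := by intro e0; rw [e0, zero_mul] at hx; simp at hx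
    have h1 : θ / σ θ = 1 := mul_left_cancel₀ hx0 (by rw [← e, mul_one])
    exact hθ ((div_eq_one_iff_eq hσθ).1 h1).symm
  · rw [map_mul, map_div₀, hbar.involutive]
    field_simp
    linear_combination hx

theorem exists_trace_zero (hbar : IsBar σ) : ∃ b : F, b ≠ 0 ∧ b + σ b = 0 := by
  obtain ⟨θ, hθ⟩ := hbar.exists_moved
  exact ⟨θ - σ θ, sub_ne_zero.2 (Ne.symm hθ), by rw [map_sub, hbar.involutive]; ring⟩

theorem stdH_comm (hbar : IsBar σ) (u v : ι → F) : stdH σ u v = σ (stdH σ v u) := by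
  simp only [stdH_eq, map_sum, map_mul, hbar.involutive]
  exact Finset.sum_congr rfl fun i _ => mul_comm _ _

theorem mem_of_root (hbar : IsBar σ) (hG : HasRoots σ G) {W : Submodule F (ι → F)} (hW : Inv G W) {v : ι → F}
    (hv : stdH σ v v = 0) {w : ι → F} (hw : w ∈ W) (h : stdH σ w v ≠ 0) : v ∈ W := by
  obtain ⟨b, hb0, hb⟩ := exists_trace_zero hbar
  have h1 := hW _ (hG v hv b hb) w hw
  rw [root_mulVec] at h1
  have h2 : (b * stdH σ w v) • v ∈ W := by simpa using sub_mem h1 hw
  have h3 := W.smul_mem (b * stdH σ w v)⁻¹ h2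
  rwa [smul_smul, inv_mul_cancel₀ (mul_ne_zero hb0 h), one_smul] at h3

theorem su_irr (hbar : IsBar σ) (hG : HasRoots σ G) (h3 : 2 < Fintype.card ι) : Irr G := by
  intro W hW
  obtain ⟨x, x', hxx, hx, hx'⟩ := exists_norm_neg_one hbar
  by_cases hb : W = ⊥
  · exact Or.inl hb
  right
  obtain ⟨w, hw, hw0⟩ := W.exists_mem_ne_zero_of_ne_bot hb
  have hsingle : ∀ i j, i ≠ j → iso i j x ∈ W → (Pi.single i 1 : ι → F) ∈ W ∧ (Pi.single j 1 : ι → F) ∈ W := by
    intro i j hij hmem
    have hx0 : stdH σ (iso i j x) (iso i j x') ≠ 0 := by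
      rw [stdH_iso, iso_apply_left hij, iso_apply_right hij]
      intro e
      have hσ : σ x' ≠ 0 := by intro e0; rw [e0, mul_zero] at hx'; simp at hx'
      refine hxx (mul_left_cancel₀ hσ ?_)
      rw [mul_comm (σ x') x', hx']
      linear_combination e
    have hmem' : iso i j x' ∈ W := mem_of_root hbar hG hW (stdH_iso_self hij hx') hmem hx0
    have h1 : (x - x') • (Pi.single j 1 : ι → F) ∈ W := by
      have e : (x - x') • (Pi.single j 1 : ι → F) = iso i j x - iso i j x' := by simp [iso, sub_smul]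
      rw [e]; exact sub_mem hmem hmem'
    have h2 := W.smul_mem (x - x')⁻¹ h1
    rw [smul_smul, inv_mul_cancel₀ (sub_ne_zero.2 hxx), one_smul] at h2
    refine ⟨?_, h2⟩
    have e : (Pi.single i 1 : ι → F) = iso i j x - x • (Pi.single j 1 : ι → F) := by simp [iso]
    rw [e]; exact sub_mem hmem (W.smul_mem _ h2)
  obtain ⟨i, hi⟩ : ∃ i, w i ≠ 0 := Function.ne_iff.1 hw0
  obtain ⟨j, hji⟩ : ∃ j, j ≠ i := Fintype.exists_ne_of_one_lt_card (by omega) i
  have hi' : (Pi.single i 1 : ι → F) ∈ W := by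
    by_cases h : stdH σ w (iso i j x) = 0
    · have h' : stdH σ w (iso i j x') ≠ 0 := by
        intro h'
        rw [stdH_iso] at h h'
        have h4 : (σ x - σ x') * w j = 0 := by linear_combination h - h'
        rcases mul_eq_zero.1 h4 with e | e
        · exact hxx (σ.injective (sub_eq_zero.1 e))
        · rw [e, mul_zero, add_zero] at h; exact hi h
      have h5 := mem_of_root hbar hG hW (stdH_iso_self hji.symm hx') hw h'
      have h6 : stdH σ (iso i j x') (iso i j x) ≠ 0 := by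
        rw [stdH_iso, iso_apply_left hji.symm, iso_apply_right hji.symm]
        intro e
        have hσ : σ x ≠ 0 := by intro e0; rw [e0, mul_zero] at hx; simp at hx
        refine hxx.symm (mul_left_cancel₀ hσ ?_)
        rw [mul_comm (σ x) x, hx]
        linear_combination e
      exact (hsingle i j hji.symm (mem_of_root hbar hG hW (stdH_iso_self hji.symm hx) h5 h6)).1
    · exact (hsingle i j hji.symm (mem_of_root hbar hG hW (stdH_iso_self hji.symm hx) hw h)).1
  rw [eq_top_iff, ← (Pi.basisFun F ι).span_eq, Submodule.span_le]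
  rintro _ ⟨k, rfl⟩
  rw [Pi.basisFun_apply]
  by_cases hk : k = i
  · rw [hk]; exact hi'
  refine (hsingle i k (Ne.symm hk) (mem_of_root hbar hG hW (stdH_iso_self (Ne.symm hk) hx) hi' ?_)).2
  rw [stdH_iso, Pi.single_eq_same, Pi.single_eq_of_ne hk, mul_zero, add_zero]
  exact one_ne_zero

theorem scalar_of_commute_root (hbar : IsBar σ) (hG : HasRoots σ G) (h3 : 2 < Fintype.card ι) {A : M}
    (hA : ∀ (v : ι → F) (hv : stdH σ v v = 0) (b : F), b + σ b = 0 → A * mat (root hv b) = mat (root hv b) * A) :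
    ∃ c : F, A = c • (1 : M) := by
  obtain ⟨x, x', hxx, hx, hx'⟩ := exists_norm_neg_one hbar
  obtain ⟨b, hb0, hb⟩ := exists_trace_zero hbar
  have heig : ∀ i j (h : i ≠ j) (y : F), y * σ y = -1 → ∃ c : F, A *ᵥ iso i j y = c • iso i j y := by
    intro i j hij y hy
    have h1 := congrArg (fun X : M => X *ᵥ (Pi.single i 1 : ι → F)) (hA _ (stdH_iso_self hij hy) b hb)
    simp only [← Matrix.mulVec_mulVec] at h1
    rw [root_mulVec, root_mulVec, Matrix.mulVec_add, Matrix.mulVec_smul, add_right_inj, stdH_iso, Pi.single_eq_same,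
      Pi.single_eq_of_ne (Ne.symm hij), mul_zero, add_zero, mul_one] at h1
    have h2 := congrArg (fun u : ι → F => b⁻¹ • u) h1
    simp only [smul_smul, inv_mul_cancel₀ hb0, one_smul] at h2
    exact ⟨_, h2⟩
  have hrest : ∀ i j (h : i ≠ j) k, k ≠ i → k ≠ j → (A *ᵥ Pi.single i 1) k = 0 := by
    intro i j hij k hki hkj
    obtain ⟨c, hc⟩ := heig i j hij x hx
    obtain ⟨c', hc'⟩ := heig i j hij x' hx'
    have h1 := congrFun hc k
    have h2 := congrFun hc' k
    rw [iso, Matrix.mulVec_add, Matrix.mulVec_smul] at h1 h2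
    simp [hki, hkj] at h1 h2
    simp only [Matrix.mulVec_single_one, Matrix.col_apply]
    have h4 : (x - x') * A k j = 0 := by linear_combination h1 - h2
    rw [(mul_eq_zero.1 h4).resolve_left (sub_ne_zero.2 hxx), mul_zero, add_zero] at h1
    exact h1
  have hoff : ∀ k i, k ≠ i → A k i = 0 := by
    intro k i hki
    obtain ⟨j, hjk, hji⟩ : ∃ j, j ≠ k ∧ j ≠ i := by
      obtain ⟨j, -, hj⟩ := Finset.exists_mem_notMem_of_card_lt_card (s := ({k, i} : Finset ι)) (t := Finset.univ)
        (lt_of_le_of_lt Finset.card_le_two (by simpa using h3))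
      simp at hj
      exact ⟨j, hj.1, hj.2⟩
    have := hrest i j (Ne.symm hji) k hki (Ne.symm hjk)
    rwa [Matrix.mulVec_single_one, Matrix.col_apply] at this
  haveI : Nonempty ι := Fintype.card_pos_iff.1 (by omega)
  let i₀ := Classical.arbitrary ι
  refine ⟨A i₀ i₀, Matrix.ext fun k i => ?_⟩
  by_cases hki : k = i
  · subst hki
    simp only [Matrix.smul_apply, Matrix.one_apply_eq, smul_eq_mul, mul_one]
    by_cases hk : k = i₀
    · rw [hk]
    obtain ⟨c, hc⟩ := heig k i₀ hk x hx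
    have h1 := congrFun hc k
    have h2 := congrFun hc i₀
    rw [iso, Matrix.mulVec_add, Matrix.mulVec_smul] at h1 h2
    simp [hk, Ne.symm hk, hoff _ _ hk, hoff _ _ (Ne.symm hk)] at h1 h2
    have hx0 : x ≠ 0 := by intro e0; rw [e0, zero_mul] at hx; simp at hx
    rw [h1]
    exact mul_left_cancel₀ hx0 (by linear_combination -h2)
  · simp [hki, hoff k i hki]

theorem su_not_stab (hbar : IsBar σ) (hG : HasRoots σ G) (h3 : 2 < Fintype.card ι) {W : Submodule F (ι → F)}
    (hb : W ≠ ⊥) (ht : W ≠ ⊤) : ¬ G ≤ subspaceStabilizer W := by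
  intro hle
  rcases su_irr hbar hG h3 W (fun g hg v hv => ((hle hg : _) v).1 hv) with h | h
  · exact hb h
  · exact ht h

theorem su_not_field (hbar : IsBar σ) (hG : HasRoots σ G) {r : ℕ} (hr : 1 < r) (h3 : 2 < Fintype.card ι)
    {K : Subalgebra F M} (hK : IsFieldSubalgebra r K) : ¬ G ≤ subalgebraNormalizer K := by
  intro hle
  haveI : Nonempty ι := Fintype.card_pos_iff.1 (by omega)
  have hscal : ∀ k ∈ K, ∃ c : F, k = c • (1 : M) := by
    intro k hk
    refine scalar_of_commute_root hbar hG h3 fun v hv b hb => ?_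
    set t := root hv b with ht
    have hD : mat t * k * mat t⁻¹ - k ∈ K := sub_mem ((hle (hG v hv b hb) k).1 hk) hk
    have h0 : mat t * k * mat t⁻¹ - k = 0 := by
      by_contra hne
      obtain ⟨y, -, hy⟩ := hK.inv _ hD hne
      refine not_isUnit_of_two h3 (x := v) (y := k *ᵥ v) (fun u => ?_) (.of_mul_eq_one y hy)
      have e : (mat t * k * mat t⁻¹ - k) *ᵥ u = (b * stdH σ (k *ᵥ (mat t⁻¹ *ᵥ u)) v) • v +
          (-b * stdH σ u v) • (k *ᵥ v) := by
        rw [Matrix.sub_mulVec, ← Matrix.mulVec_mulVec, ← Matrix.mulVec_mulVec, ht, root_mulVec hv b, root_inv,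
          root_mulVec hv (-b), Matrix.mulVec_add, Matrix.mulVec_smul]
        abel
      rw [e]
      exact add_mem (Submodule.smul_mem _ _ (Submodule.subset_span (by simp)))
        (Submodule.smul_mem _ _ (Submodule.subset_span (by simp)))
    calc k * mat t = mat t * k * mat t⁻¹ * mat t := by rw [sub_eq_zero.1 h0]
      _ = mat t * k := by rw [mul_assoc, mat_inv_mul, mul_one]
  have h1 : Module.finrank F K ≤ 1 := by
    refine finrank_le_one (⟨1, one_mem K⟩ : K) fun w => ?_
    obtain ⟨c, hc⟩ := hscal w.1 w.2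
    exact ⟨c, Subtype.ext hc.symm⟩
  rw [hK.finrank_eq] at h1
  omega

theorem unipotent_entries [Finite F] (hr : (Fintype.card ι).Prime) {F₁ : Subfield F} {P g : GL ι F}
    (hg : g ∈ subfieldSubgroup F₁ P) (htr : (mat g).trace = (Fintype.card ι : F)) (hdet : (mat g).det = 1) :
    Entries F₁ (mat (P⁻¹ * g * P)) := by
  obtain ⟨c, X, hX, h⟩ := exists_of_mem_subfieldSubgroup hg
  have hsim : mat (P⁻¹ * g * P) = mat P⁻¹ * mat g * mat P := by simp [mat]
  have htr' : (Fintype.card ι : F) = c * X.trace := by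
    rw [← htr, show (mat g).trace = (mat (P⁻¹ * g * P)).trace by
      rw [hsim, Matrix.trace_mul_cycle, mat_mul_inv, one_mul], h, Matrix.trace_smul, smul_eq_mul]
  have hdet' : 1 = c ^ Fintype.card ι * X.det := by
    rw [← Matrix.det_smul, ← h, hsim, Matrix.det_mul, Matrix.det_mul, hdet, mul_one, ← Matrix.det_mul, mat_inv_mul,
      Matrix.det_one]
  have hXtr : X.trace ∈ F₁ := Subfield.sum_mem _ fun i _ => hX i i
  have hXdet : X.det ∈ F₁ := by
    let X₀ : Matrix ι ι F₁ := Matrix.of fun a b => ⟨X a b, hX a b⟩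
    rw [show X = (F₁.subtype : F₁ →+* F).mapMatrix X₀ from rfl, ← RingHom.map_det]
    exact X₀.det.2
  have hcF : c ∈ F₁ := by
    by_cases hn : (Fintype.card ι : F) = 0
    · obtain ⟨p, n, hp, hc, -, -⟩ := prime_card_pow (F := F)
      haveI := Fact.mk hp
      obtain ⟨τ, hτ, -⟩ := exists_powHom F₁
      have hcard : Fintype.card ι = p :=
        ((Nat.prime_dvd_prime_iff_eq hp hr).1 ((CharP.cast_eq_zero_iff F p _).1 hn)).symm
      have hcp : c ^ p ∈ F₁ := by
        rw [← hcard, show c ^ Fintype.card ι = X.det⁻¹ from (inv_eq_of_mul_eq_one_left hdet'.symm).symm]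
        exact inv_mem hXdet
      rw [hτ] at hcp ⊢
      rw [map_pow] at hcp
      exact frobenius_inj F p hcp
    · have hX0 : X.trace ≠ 0 := fun e => hn (by rw [htr', e, mul_zero])
      rw [show c = (Fintype.card ι : F) / X.trace by rw [htr', mul_div_assoc, div_self hX0, mul_one]]
      exact div_mem (natCast_mem _ _) hXtr
  intro i j
  rw [h, Matrix.smul_apply, smul_eq_mul]
  exact mul_mem hcF (hX i j)

theorem su_not_subfield [Finite F] (hbar : IsBar σ) (hG : HasRoots σ G) (hr : (Fintype.card ι).Prime)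
    (h3 : 2 < Fintype.card ι) {F₁ : Subfield F} (hF₁ : F₁ ≠ ⊤) (P : GL ι F) : ¬ G ≤ subfieldSubgroup F₁ P := by
  intro hle
  obtain ⟨x, x', hxx, hx, hx'⟩ := exists_norm_neg_one hbar
  obtain ⟨i, j, k, hij, hik, hjk⟩ := Fintype.two_lt_card_iff.1 h3
  let N : (ι → F) → M := fun v => Matrix.vecMulVec v (fun a => σ (v a))
  have hNtr : ∀ v, (N v).trace = stdH σ v v := fun v => by
    rw [stdH_eq]; simp [N, Matrix.trace_vecMulVec, dotProduct]
  have hNmul : ∀ u v, N u * N v = stdH σ v u • Matrix.vecMulVec u (fun a => σ (v a)) := fun u v => by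
    rw [Matrix.vecMulVec_mul_vecMulVec, stdH_eq, Matrix.vecMulVec_smul]
    congr 1
    exact Finset.sum_congr rfl fun a _ => mul_comm _ _
  have hent : ∀ v (hv : stdH σ v v = 0) (b : F), b + σ b = 0 → Entries F₁ (mat (P⁻¹ * root hv b * P)) := by
    intro v hv b hb
    refine unipotent_entries hr (hle (hG v hv b hb)) ?_ (det_root hv b)
    rw [mat_root, rootMat, Matrix.trace_add, Matrix.trace_one, Matrix.trace_smul, hNtr v, hv, smul_zero, add_zero]
  have htr : ∀ g : GL ι F, Entries F₁ (mat (P⁻¹ * g * P)) → (mat g).trace ∈ F₁ := by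
    intro g hg
    have : (mat g).trace = (mat (P⁻¹ * g * P)).trace := by
      rw [show mat (P⁻¹ * g * P) = mat P⁻¹ * mat g * mat P by simp [mat], Matrix.trace_mul_cycle, mat_mul_inv, one_mul]
    rw [this]
    exact Subfield.sum_mem _ fun a _ => hg a a
  have hmul : ∀ g g' : GL ι F, Entries F₁ (mat (P⁻¹ * g * P)) → Entries F₁ (mat (P⁻¹ * g' * P)) →
      Entries F₁ (mat (P⁻¹ * (g * g') * P)) := by
    intro g g' h h'
    rw [show P⁻¹ * (g * g') * P = (P⁻¹ * g * P) * (P⁻¹ * g' * P) by group, mat, Units.val_mul]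
    exact h.mul h'
  set v₁ := iso i j x with hv₁
  set v₂ := iso i j x' with hv₂
  set v₃ := iso i k x with hv₃
  have h₁ : stdH σ v₁ v₁ = 0 := stdH_iso_self hij hx
  have h₂ : stdH σ v₂ v₂ = 0 := stdH_iso_self hij hx'
  have h₃ : stdH σ v₃ v₃ = 0 := stdH_iso_self hik hx
  have f13 : stdH σ v₁ v₃ = 1 := by
    rw [hv₃, stdH_iso, hv₁, iso_apply_left hij, iso_apply_ne (Ne.symm hik) (Ne.symm hjk), mul_zero, add_zero]
  have f32 : stdH σ v₃ v₂ = 1 := by
    rw [hv₂, stdH_iso, hv₃, iso_apply_left hik, iso_apply_ne (Ne.symm hij) hjk, mul_zero, add_zero]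
  have f31 : stdH σ v₃ v₁ = 1 := by rw [stdH_comm hbar, f13, map_one]
  have f23 : stdH σ v₂ v₃ = 1 := by rw [stdH_comm hbar, f32, map_one]
  have f21 : stdH σ v₂ v₁ = 1 + σ x * x' := by
    rw [hv₁, stdH_iso, hv₂, iso_apply_left hij, iso_apply_right hij]
  have hn : (Fintype.card ι : F) ∈ F₁ := natCast_mem _ _
  have h2p : ∀ (u v : ι → F) (hu : stdH σ u u = 0) (hv : stdH σ v v = 0) (b c : F), b + σ b = 0 → c + σ c = 0 →
      b * c * (stdH σ v u * stdH σ u v) ∈ F₁ := by
    intro u v hu hv b c hb hc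
    have h1 := htr _ (hmul _ _ (hent u hu b hb) (hent v hv c hc))
    rw [mat, Units.val_mul, show ((root hu b : GL ι F) : M) = rootMat σ b u from rfl,
      show ((root hv c : GL ι F) : M) = rootMat σ c v from rfl] at h1
    simp only [rootMat, add_mul, mul_add, one_mul, mul_one, Matrix.smul_mul, Matrix.mul_smul, smul_smul] at h1
    rw [show Matrix.vecMulVec u (fun a => σ (u a)) = N u from rfl,
      show Matrix.vecMulVec v (fun a => σ (v a)) = N v from rfl, hNmul] at h1
    simp only [Matrix.trace_add, Matrix.trace_one, Matrix.trace_smul, hNtr, hu, hv, Matrix.trace_vecMulVec,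
      smul_zero, zero_add, add_zero, smul_eq_mul] at h1
    have e : (u ⬝ᵥ fun a => σ (v a)) = stdH σ u v := by rw [stdH_eq]; rfl
    rw [e] at h1
    have := sub_mem h1 hn
    convert this using 1
    ring
  have hfix : ∀ a b : F, σ a = a → b + σ b = 0 → a * b + σ (a * b) = 0 := fun a b ha hb => by
    rw [map_mul, ha]; linear_combination a * hb
  have hF₀ : ∀ a : F, σ a = a → ∀ b, b + σ b = 0 → a * b * b ∈ F₁ := fun a ha b hb => by
    have := h2p v₁ v₃ h₁ h₃ (a * b) b (hfix a b ha hb) hb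
    rwa [f13, f31, one_mul, mul_one] at this
  have h3p : ∀ b : F, b + σ b = 0 → b * b * b * (1 + σ x * x') ∈ F₁ := by
    intro b hb
    have h1 := htr _ (hmul _ _ (hmul _ _ (hent v₁ h₁ b hb) (hent v₂ h₂ b hb)) (hent v₃ h₃ b hb))
    rw [mat, Units.val_mul, Units.val_mul, show ((root h₁ b : GL ι F) : M) = rootMat σ b v₁ from rfl,
      show ((root h₂ b : GL ι F) : M) = rootMat σ b v₂ from rfl,
      show ((root h₃ b : GL ι F) : M) = rootMat σ b v₃ from rfl] at h1
    simp only [rootMat, add_mul, mul_add, one_mul, mul_one, Matrix.smul_mul, Matrix.mul_smul, smul_smul] at h1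
    simp only [show ∀ v : ι → F, Matrix.vecMulVec v (fun a => σ (v a)) = N v from fun _ => rfl, hNmul,
      Matrix.smul_mul] at h1
    simp only [N, Matrix.vecMulVec_mul_vecMulVec, Matrix.vecMulVec_smul] at h1
    have e : ∀ u v : ι → F, ((fun a => σ (v a)) ⬝ᵥ u) = stdH σ u v := fun u v => by
      rw [stdH_eq]; exact Finset.sum_congr rfl fun a _ => mul_comm _ _
    have e' : ∀ u v : ι → F, (u ⬝ᵥ fun a => σ (v a)) = stdH σ u v := fun u v => by
      rw [stdH_eq]; rfl
    simp only [Matrix.trace_add, Matrix.trace_one, Matrix.trace_smul, Matrix.trace_vecMulVec, e, e', h₁, h₂, h₃,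
      smul_zero, zero_add, add_zero, smul_eq_mul] at h1
    have q12 := h2p v₁ v₂ h₁ h₂ b b hb hb
    have q13 := h2p v₁ v₃ h₁ h₃ b b hb hb
    have q23 := h2p v₂ v₃ h₂ h₃ b b hb hb
    have := sub_mem (sub_mem (sub_mem (sub_mem h1 hn) q12) q13) q23
    rw [f13, f31, f23, f32, f21] at this
    convert this using 1
    ring
  obtain ⟨b, hb0, hb⟩ := exists_trace_zero hbar
  have hbb : σ (b * b) = b * b := by rw [map_mul]; linear_combination (σ b - b) * hb
  have hF₀' : ∀ a : F, σ a = a → a ∈ F₁ := fun a ha => by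
    have h1 := hF₀ a ha b hb
    have h4 := hF₀ 1 (map_one σ) b hb
    rw [one_mul] at h4
    have h5 := div_mem h1 h4
    rwa [mul_assoc, mul_div_assoc, div_self (mul_ne_zero hb0 hb0), mul_one] at h5
  -- one element outside the fixed field
  have hw : b * (1 + σ x * x') ∈ F₁ := by
    have h1 := div_mem (h3p b hb) (hF₀' _ hbb)
    have e : b * (1 + σ x * x') = b * b * b * (1 + σ x * x') / (b * b) := by field_simp
    rwa [e]
  set w := b * (1 + σ x * x') with hwdef
  have hwσ : σ w ≠ w := by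
    intro e
    rw [hwdef, map_mul, map_add, map_one, map_mul, hbar.involutive] at e
    have h1 : b * (2 + σ x * x' + x * σ x') = 0 := by linear_combination (x * σ x' + 1) * hb - e
    have h2 := (mul_eq_zero.1 h1).resolve_left hb0
    set δ := σ x * x' with hδ
    have h4 : δ * (x * σ x') = 1 := by rw [hδ]; linear_combination (x' * σ x') * hx - hx'
    have h5 : (δ + 1) * (δ + 1) = 0 := by linear_combination δ * h2 - h4
    have h6 : δ + 1 = 0 := mul_self_eq_zero.1 h5
    refine hxx ?_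
    have hσx : σ x ≠ 0 := by intro e0; rw [e0, mul_zero] at hx; simp at hx
    apply mul_left_cancel₀ hσx
    rw [mul_comm (σ x) x, hx]
    linear_combination -h6
  apply hF₁
  rw [eq_top_iff]
  intro a _
  -- `a = u + t * w` with `u`, `t` fixed
  have hne : w - σ w ≠ 0 := sub_ne_zero.2 (Ne.symm hwσ)
  set t := (a - σ a) / (w - σ w) with ht
  have htσ : σ t = t := by
    rw [ht, map_div₀, map_sub, map_sub, hbar.involutive, hbar.involutive, ← neg_sub a, ← neg_sub w, neg_div_neg_eq]
  have hu : σ (a - t * w) = a - t * w := by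
    rw [map_sub, map_mul, htσ, ht]
    field_simp
    ring
  have h1 := add_mem (hF₀' _ hu) (mul_mem (hF₀' _ htσ) hw)
  rwa [sub_add_cancel] at h1

theorem su_not_decomp (hbar : IsBar σ) (hG : HasRoots σ G) (h4 : 4 ≤ Fintype.card ι) {t : ℕ}
    {D : Fin t → Submodule F (ι → F)} (b : Module.Basis ι F (ι → F)) (e : Fin t ≃ ι)
    (hD : ∀ k, D k = Submodule.span F {b (e k)})
    (horth : ∀ i j, stdH σ (b i) (b j) = if i = j then 1 else 0) : ¬ G ≤ decompositionStabilizer D := by
  intro hle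
  obtain ⟨x, -, -, hx, -⟩ := exists_norm_neg_one hbar
  obtain ⟨s, hs⟩ := Function.Embedding.nonempty_of_card_le (α := Fin 4) (β := ι) (by simpa using h4)
  have hi : ∀ a c, a ≠ c → s a ≠ s c := fun a c h e => h (hs e)
  let v₀ : ι → F := iso (s 0) (s 1) x + iso (s 2) (s 3) x
  let v : ι → F := mat (ofBasis b) *ᵥ v₀
  have hpair : ∀ u w : ι → F, stdH σ (mat (ofBasis b) *ᵥ u) (mat (ofBasis b) *ᵥ w) = stdH σ u w := by
    intro u w
    have e : act σ (1 : M) (mat (ofBasis b)) = 1 := by
      ext i j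
      rw [← formG_single σ (act σ (1 : M) (mat (ofBasis b))) i j, ← formG_mulVec, ofBasis_single, ofBasis_single,
        Matrix.one_apply]
      exact horth i j
    show formG σ 1 _ _ = _
    rw [formG_mulVec, e]
  have hv : stdH σ v v = 0 := by
    rw [hpair]
    have hf := isSesq_formG σ (1 : M)
    show formG σ 1 (iso (s 0) (s 1) x + iso (s 2) (s 3) x) (iso (s 0) (s 1) x + iso (s 2) (s 3) x) = 0
    rw [hf.add_left, hf.add_right, hf.add_right]
    show stdH σ _ _ + stdH σ _ _ + (stdH σ _ _ + stdH σ _ _) = 0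
    rw [stdH_iso_self (hi _ _ (by decide)) hx, stdH_iso_self (hi _ _ (by decide)) hx, stdH_iso, stdH_iso,
      iso_apply_ne (hi 2 0 (by decide)) (hi 2 1 (by decide)), iso_apply_ne (hi 3 0 (by decide)) (hi 3 1 (by decide)),
      iso_apply_ne (hi 0 2 (by decide)) (hi 0 3 (by decide)), iso_apply_ne (hi 1 2 (by decide)) (hi 1 3 (by decide))]
    ring
  obtain ⟨c, hc0, hc⟩ := exists_trace_zero hbar
  obtain ⟨k, hk⟩ := e.surjective (s 0)
  obtain ⟨π, hπ⟩ := hle (hG v hv c hc)
  have hmem : mat (root hv c) *ᵥ b (s 0) ∈ D (π k) := by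
    rw [← hπ k]
    exact ⟨b (s 0), by rw [hD, hk]; exact Submodule.subset_span rfl, Matrix.toLin'_apply _ _⟩
  rw [hD, Submodule.mem_span_singleton] at hmem
  obtain ⟨a, ha⟩ := hmem
  have h1 := congrArg (fun w => mat (ofBasis b)⁻¹ *ᵥ w) ha
  simp only [Matrix.mulVec_smul, root_mulVec, Matrix.mulVec_add] at h1
  rw [← ofBasis_single b (e (π k)), ← ofBasis_single b (s 0), inv_mulVec_cancel, inv_mulVec_cancel,
    show v = mat (ofBasis b) *ᵥ v₀ from rfl, inv_mulVec_cancel] at h1
  rw [hpair] at h1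
  have hco : stdH σ (Pi.single (s 0) 1) v₀ = 1 := by
    have hf := isSesq_formG σ (1 : M)
    show formG σ 1 _ (iso (s 0) (s 1) x + iso (s 2) (s 3) x) = _
    rw [hf.add_right]
    show stdH σ _ _ + stdH σ _ _ = _
    rw [stdH_iso, stdH_iso, Pi.single_eq_same, Pi.single_eq_of_ne (hi 1 0 (by decide)),
      Pi.single_eq_of_ne (hi 2 0 (by decide)), Pi.single_eq_of_ne (hi 3 0 (by decide))]
    ring
  rw [hco, mul_one] at h1
  have h2 := congrFun h1 (s 2)
  have h3 := congrFun h1 (s 3)
  have hv2 : v₀ (s 2) = 1 := by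
    simp [v₀, iso_apply_ne (hi 2 0 (by decide)) (hi 2 1 (by decide)), iso_apply_left (hi 2 3 (by decide))]
  have hv3 : v₀ (s 3) = x := by
    simp [v₀, iso_apply_ne (hi 3 0 (by decide)) (hi 3 1 (by decide)), iso_apply_right (hi 2 3 (by decide))]
  have hx0 : x ≠ 0 := by intro e0; rw [e0, zero_mul] at hx; simp at hx
  simp [Pi.single_apply, hi 2 0 (by decide), hi 3 0 (by decide), hv2, hv3] at h2 h3
  by_cases h : e (π k) = s 2
  · simp [h, hi 3 2 (by decide), hc0, hx0] at h3
  · simp [Ne.symm h] at h2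
    exact hc0 h2.symm

end

end Cfsg.Agent.PrimeDim
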