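import Cfsg.Agent.PrimeDim.Perp
import Cfsg.Agent.PrimeDim.SUProper
import Cfsg.Agent.NotMax.Basic

/-!
Odd-dimensional orthogonal groups: irreducibility, and `Ω` lies neither in a monomial group nor in a subfield group.
-/

set_option autoImplicit false

namespace Cfsg.Agent.PrimeDim

open Matrix Cfsg.Geo QuadraticMap
open scoped MatrixGroups

variable {ι : Type} [Fintype ι] [DecidableEq ι] {F : Type*} [Field F]

local notation "M" => Matrix ι ι F

/-- The bilinear form of a Gram matrix. -/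
abbrev bf (G : Matrix ι ι F) (u v : ι → F) : F := formG (RingEquiv.refl F) G u v

theorem bf_symm {G : M} (hs : Gᵀ = G) (u v : ι → F) : bf G u v = bf G v u := by
  show u ⬝ᵥ (G *ᵥ v) = v ⬝ᵥ (G *ᵥ u)
  rw [Matrix.dotProduct_mulVec, ← Matrix.mulVec_transpose, hs, dotProduct_comm]

/-- The Siegel transformation attached to a singular `p` and `w ⊥ p`, as a matrix. -/
def siegelMat (G : Matrix ι ι F) (c : F) (p w : ι → F) : Matrix ι ι F :=
  1 + Matrix.vecMulVec p (G *ᵥ w) - Matrix.vecMulVec w (G *ᵥ p) - c • Matrix.vecMulVec p (G *ᵥ p)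

theorem siegelMat_mulVec {G : M} (hs : Gᵀ = G) (c : F) (p w x : ι → F) :
    siegelMat G c p w *ᵥ x = x + bf G x w • p - bf G x p • w - (c * bf G x p) • p := by
  have h : ∀ a b : ι → F, Matrix.vecMulVec a (G *ᵥ b) *ᵥ x = bf G x b • a := fun a b => by
    rw [Matrix.vecMulVec_mulVec, dotProduct_comm]
    simp only [op_smul_eq_smul]
    rfl
  rw [siegelMat, Matrix.sub_mulVec, Matrix.sub_mulVec, Matrix.add_mulVec, Matrix.one_mulVec, Matrix.smul_mulVec,
    h, h, h, smul_smul]

/-- `A` contains all Siegel transformations. -/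
def HasSiegel (G : Matrix ι ι F) (A : Subgroup (GL ι F)) : Prop :=
  ∀ p w : ι → F, bf G p p = 0 → bf G p w = 0 → ∃ g ∈ A, mat g = siegelMat G ((2 : F)⁻¹ * bf G w w) p w

theorem bilin_perp_le {G : M} (hG : G.det ≠ 0) (hs : Gᵀ = G) (W : Submodule F (ι → F)) :
    Module.finrank F (perpG (RingEquiv.refl F) G W) + Module.finrank F W ≤ Fintype.card ι := by
  set P := perpG (RingEquiv.refl F) G W with hP
  obtain ⟨C, hC⟩ := Submodule.exists_isCompl P
  have hf := isSesq_formG (RingEquiv.refl F) G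
  let φ : W →ₗ[F] (C →ₗ[F] F) :=
    { toFun := fun w =>
        { toFun := fun c => bf G c.1 w.1
          map_add' := fun a b => hf.add_left _ _ _
          map_smul' := fun a b => by
            show bf G (a • b.1) w.1 = a * bf G b.1 w.1
            exact hf.smul_left _ _ _ }
      map_add' := fun a b => LinearMap.ext fun c => hf.add_right _ _ _
      map_smul' := fun a b => LinearMap.ext fun c => by
        show bf G c.1 (a • b.1) = a * bf G c.1 b.1
        exact hf.smul_right _ _ _ }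
  have hφ : Function.Injective φ := by
    refine (injective_iff_map_eq_zero φ).2 fun w hw => ?_
    refine Subtype.ext (nondeg_left (σ := RingEquiv.refl F) hG fun u => ?_)
    show bf G w.1 u = 0
    rw [bf_symm hs]
    obtain ⟨a, ha, c, hc, rfl⟩ := Submodule.mem_sup.1 (hC.sup_eq_top ▸ Submodule.mem_top : u ∈ P ⊔ C)
    rw [bf, hf.add_left, ha w.1 w.2, show formG (RingEquiv.refl F) G c w.1 = 0 from
      LinearMap.congr_fun hw ⟨c, hc⟩, add_zero]
  have h1 := LinearMap.finrank_le_finrank_of_injective hφ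
  rw [Module.finrank_linearMap_self] at h1
  have h2 := Submodule.finrank_add_eq_of_isCompl hC
  rw [Module.finrank_fintype_fun_eq_card] at h2
  omega

section

variable {G : Matrix ι ι F} {A : Subgroup (GL ι F)}

theorem omega_irr (hG : G.det ≠ 0) (hs : Gᵀ = G) (h2 : (2 : F) ≠ 0) (hA : HasSiegel G A) (h5 : 5 ≤ Fintype.card ι)
    (hspan : ∀ v : ι → F, v ≠ 0 → ∃ p, bf G p p = 0 ∧ bf G v p ≠ 0) : Irr A := by
  intro W hW
  by_cases hb : W = ⊥
  · exact Or.inl hb
  right
  obtain ⟨v, hv, hv0⟩ := W.exists_mem_ne_zero_of_ne_bot hb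
  obtain ⟨p, hp, hvp⟩ := hspan v hv0
  have hf := isSesq_formG (RingEquiv.refl F) G
  set P := perpG (RingEquiv.refl F) G (Submodule.span F {p}) with hP
  have hmemP : ∀ w, w ∈ P ↔ bf G w p = 0 := fun w => by
    refine ⟨fun h => h p (Submodule.subset_span rfl), fun h x hx => ?_⟩
    obtain ⟨a, rfl⟩ := Submodule.mem_span_singleton.1 hx
    rw [hf.smul_right, show formG (RingEquiv.refl F) G w p = 0 from h, mul_zero]
  have hPdim : Fintype.card ι ≤ Module.finrank F P + 1 := by
    have h1 := finrank_perp (RingEquiv.refl F) G (Submodule.span F {p})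
    have h3 : Module.finrank F (Submodule.span F ({p} : Set (ι → F))) ≤ 1 := by
      simpa using finrank_span_le_card (R := F) ({p} : Set (ι → F))
    rw [← hP] at h1
    omega
  have hmove : ∀ w ∈ P, (bf G v w • p - bf G v p • w - ((2 : F)⁻¹ * bf G w w * bf G v p) • p) ∈ W := by
    intro w hw
    obtain ⟨g, hg, hgm⟩ := hA p w hp (by rw [bf_symm hs]; exact (hmemP w).1 hw)
    have h1 := sub_mem (hW g hg v hv) hv
    rw [hgm, siegelMat_mulVec hs] at h1
    convert h1 using 1
    abel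
  -- an anisotropic vector of the hyperplane
  obtain ⟨w₀, hw₀, hw₀a⟩ : ∃ w ∈ P, bf G w w ≠ 0 := by
    by_contra hcon
    push Not at hcon
    have hle : P ≤ perpG (RingEquiv.refl F) G P := fun x hx y hy => by
      have h1 := hcon _ (add_mem hx hy)
      simp only [bf, hf.add_left, hf.add_right] at h1
      have e : formG (RingEquiv.refl F) G y x = formG (RingEquiv.refl F) G x y := bf_symm hs y x
      rw [show formG (RingEquiv.refl F) G x x = 0 from hcon x hx, show formG (RingEquiv.refl F) G y y = 0 from hcon y hy,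
        e] at h1
      exact (mul_eq_zero.1 (show (2 : F) * formG (RingEquiv.refl F) G x y = 0 by linear_combination h1)).resolve_left h2
    have h1 := Submodule.finrank_mono hle
    have h3 := bilin_perp_le hG hs P
    omega
  have hpW : p ∈ W := by
    have h1 := hmove w₀ hw₀
    have h3 := hmove (-w₀) (neg_mem hw₀)
    have e1 : bf G v (-w₀) = - bf G v w₀ := by
      rw [show -w₀ = (-1 : F) • w₀ from (neg_one_smul F w₀).symm]; simp only [bf, hf.smul_right, RingEquiv.refl_apply]; ring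
    have e2 : bf G (-w₀) (-w₀) = bf G w₀ w₀ := by
      rw [show -w₀ = (-1 : F) • w₀ from (neg_one_smul F w₀).symm]; simp only [bf, hf.smul_right, hf.smul_left, RingEquiv.refl_apply]; ring
    rw [e1, e2] at h3
    have h4 := add_mem h1 h3
    have e : bf G v w₀ • p - bf G v p • w₀ - ((2 : F)⁻¹ * bf G w₀ w₀ * bf G v p) • p +
        ((-bf G v w₀) • p - bf G v p • -w₀ - ((2 : F)⁻¹ * bf G w₀ w₀ * bf G v p) • p) =
        (-(bf G w₀ w₀ * bf G v p)) • p := by
      match_scalars <;> field_simp <;> ring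
    rw [e] at h4
    have h5 := W.smul_mem (-(bf G w₀ w₀ * bf G v p))⁻¹ h4
    rwa [smul_smul, inv_mul_cancel₀ (neg_ne_zero.2 (mul_ne_zero hw₀a hvp)), one_smul] at h5
  have hPW : P ≤ W := by
    intro w hw
    have h1 := hmove w hw
    have h3 : bf G v p • w ∈ W := by
      have h4 := sub_mem (sub_mem (W.smul_mem (bf G v w) hpW) h1)
        (W.smul_mem ((2 : F)⁻¹ * bf G w w * bf G v p) hpW)
      convert h4 using 1
      abel
    have h4 := W.smul_mem (bf G v p)⁻¹ h3
    rwa [smul_smul, inv_mul_cancel₀ hvp, one_smul] at h4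
  have hlt : P < W := lt_of_le_of_ne hPW fun e => hvp ((hmemP v).1 (e ▸ hv))
  refine Submodule.eq_top_of_finrank_eq (le_antisymm (Submodule.finrank_le W) ?_)
  have h1 := Submodule.finrank_lt_finrank_of_lt hlt
  rw [Module.finrank_fintype_fun_eq_card]
  omega

theorem siegel_trace (hs : Gᵀ = G) (c : F) {p w : ι → F} (hp : bf G p p = 0) (hpw : bf G p w = 0) :
    (siegelMat G c p w).trace = (Fintype.card ι : F) := by
  have e : ∀ a b : ι → F, (Matrix.vecMulVec a (G *ᵥ b)).trace = bf G a b := fun a b => by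
    rw [Matrix.trace_vecMulVec]; rfl
  rw [siegelMat, Matrix.trace_sub, Matrix.trace_sub, Matrix.trace_add, Matrix.trace_one, Matrix.trace_smul, e, e, e,
    hp, hpw, bf_symm hs w p, hpw, smul_zero]
  ring

theorem omega_not_subfield [Finite F] (hs : Gᵀ = G) (h2 : (2 : F) ≠ 0) (hA : HasSiegel G A)
    (hdet : ∀ g ∈ A, (mat g).det = 1) (hr : (Fintype.card ι).Prime) {e₁ e₂ f₁ f₂ : ι → F}
    (h11 : bf G e₁ e₁ = 0) (h22 : bf G e₂ e₂ = 0) (h12 : bf G e₁ e₂ = 0) (g11 : bf G f₁ f₁ = 0) (g22 : bf G f₂ f₂ = 0)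
    (g12 : bf G f₁ f₂ = 0) (k11 : bf G e₁ f₁ = 1) (k22 : bf G e₂ f₂ = 1) (k12 : bf G e₁ f₂ = 0) (k21 : bf G e₂ f₁ = 0)
    {F₁ : Subfield F} (hF₁ : F₁ ≠ ⊤) (P : GL ι F) : ¬ A ≤ subfieldSubgroup F₁ P := by
  intro hle
  refine hF₁ (eq_top_iff.2 fun a _ => ?_)
  have hf := isSesq_formG (RingEquiv.refl F) G
  have hsc : ∀ (c : F) (x y : ι → F), bf G x (c • y) = c * bf G x y := fun c x y => hf.smul_right _ _ _
  have hscl : ∀ (c : F) (x y : ι → F), bf G (c • x) y = c * bf G x y := fun c x y => hf.smul_left _ _ _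
  obtain ⟨g, hg, hgm⟩ := hA e₁ (a • e₂) h11 (by rw [hsc, h12, mul_zero])
  obtain ⟨h, hh, hhm⟩ := hA f₁ f₂ g11 g12
  rw [hsc, hscl, h22, mul_zero, mul_zero, mul_zero] at hgm
  rw [g22, mul_zero] at hhm
  have hE : ∀ x ∈ A, ∀ (c : F) (p w : ι → F), bf G p p = 0 → bf G p w = 0 → mat x = siegelMat G c p w →
      Entries F₁ (mat (P⁻¹ * x * P)) := fun x hx c p w hp hpw hm =>
    unipotent_entries hr (hle hx) (by rw [hm, siegel_trace hs c hp hpw]) (hdet x hx)
  have hEgh : Entries F₁ (mat (P⁻¹ * (g * h) * P)) := by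
    rw [show P⁻¹ * (g * h) * P = (P⁻¹ * g * P) * (P⁻¹ * h * P) by group, mat, Units.val_mul]
    exact (hE g hg _ e₁ _ h11 (by rw [hsc, h12, mul_zero]) hgm).mul (hE h hh _ f₁ f₂ g11 g12 hhm)
  have htr : (mat (g * h)).trace ∈ F₁ := by
    have e : (mat (g * h)).trace = (mat (P⁻¹ * (g * h) * P)).trace := by
      rw [show mat (P⁻¹ * (g * h) * P) = mat P⁻¹ * mat (g * h) * mat P by simp [mat], Matrix.trace_mul_cycle,
        mat_mul_inv, one_mul]
    rw [e]
    exact Subfield.sum_mem _ fun i _ => hEgh i i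
  have e : ∀ a b : ι → F, (Matrix.vecMulVec a (G *ᵥ b)).trace = bf G a b := fun a b => by
    rw [Matrix.trace_vecMulVec]; rfl
  have e' : ∀ a b : ι → F, ((G *ᵥ a) ⬝ᵥ b) = bf G b a := fun a b => by rw [dotProduct_comm]; rfl
  have key : (mat (g * h)).trace = (Fintype.card ι : F) + (-2) * a := by
    rw [mat, Units.val_mul]
    show (mat g * mat h).trace = _
    rw [hgm, hhm]
    simp only [siegelMat, zero_smul, sub_zero, mul_add, add_mul, mul_sub, sub_mul, one_mul, mul_one,
      Matrix.vecMulVec_mul_vecMulVec, Matrix.vecMulVec_smul, Matrix.trace_add, Matrix.trace_sub, Matrix.trace_smul,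
      Matrix.trace_one, e, e', smul_eq_mul, hsc, hscl]
    simp only [h12, g12, k12, k21, k11, k22, bf_symm hs e₂ e₁, bf_symm hs f₂ f₁, bf_symm hs f₁ e₁, bf_symm hs f₂ e₁,
      bf_symm hs f₁ e₂, bf_symm hs f₂ e₂]
    ring
  rw [key] at htr
  have h3 := sub_mem htr (natCast_mem F₁ (Fintype.card ι))
  rw [add_sub_cancel_left] at h3
  have h4 := div_mem h3 (neg_mem (natCast_mem F₁ 2))
  rwa [Nat.cast_ofNat, mul_div_assoc, mul_comm, div_mul_cancel₀ _ (neg_ne_zero.2 h2)] at h4

theorem omega_not_decomp [Finite F] (hG : G.det ≠ 0) (hs : Gᵀ = G) (h2 : (2 : F) ≠ 0) (hA : HasSiegel G A)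
    (hAfix : Fixes (RingEquiv.refl F) A G)
    {p : ℕ} (hp : p.Prime) [CharP F p] (hp2 : p ≠ 2) (hq : Nat.card F = p)
    (hn : ¬ p ^ (Fintype.card ι - 2) ∣ (Fintype.card ι).factorial) {t : ℕ}
    {D : Fin t → Submodule F (ι → F)} (b : Module.Basis ι F (ι → F)) (e : Fin t ≃ ι)
    (hD : ∀ k, D k = Submodule.span F {b (e k)}) (hne : ∀ i, bf G (b i) (b i) ≠ 0)
    {q₀ q₁ : ι → F} (hq₀ : bf G q₀ q₀ = 0) (hq01 : bf G q₀ q₁ = 1) : ¬ A ≤ decompositionStabilizer D := by
  classical
  intro hle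
  haveI := Fact.mk hp
  have hf := isSesq_formG (RingEquiv.refl F) G
  let U : Submodule F (ι → F) := perpG (RingEquiv.refl F) G (Submodule.span F {q₀, q₁})
  have hU : ∀ w ∈ U, bf G w q₀ = 0 ∧ bf G w q₁ = 0 := fun w hw =>
    ⟨hw q₀ (Submodule.subset_span (by simp)), hw q₁ (Submodule.subset_span (by simp))⟩
  have hUdim : Fintype.card ι - 2 ≤ Module.finrank F U := by
    have h1 := finrank_perp (RingEquiv.refl F) G (Submodule.span F ({q₀, q₁} : Set (ι → F)))
    have h3 := finrank_span_le_card (R := F) ({q₀, q₁} : Set (ι → F))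
    have h4 : ({q₀, q₁} : Set (ι → F)).toFinset.card ≤ 2 := by simpa using Finset.card_le_two (a := q₀) (b := q₁)
    show Fintype.card ι - 2 ≤ Module.finrank F (perpG (RingEquiv.refl F) G (Submodule.span F {q₀, q₁}))
    omega
  have hex : ∀ w : U, ∃ g ∈ A, mat g = siegelMat G ((2 : F)⁻¹ * bf G w.1 w.1) q₀ w.1 := fun w =>
    hA q₀ w.1 hq₀ (by rw [bf_symm hs]; exact (hU _ w.2).1)
  choose S hSA hS using hex
  have hSmul : ∀ w w' : U, S (w + w') = S w * S w' := by
    intro w w'
    ext1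
    refine Matrix.toLin'.injective (LinearMap.ext fun x => ?_)
    rw [Units.val_mul, Matrix.toLin'_apply, Matrix.toLin'_apply, ← Matrix.mulVec_mulVec]
    show mat (S (w + w')) *ᵥ x = mat (S w) *ᵥ (mat (S w') *ᵥ x)
    rw [hS, hS, hS, siegelMat_mulVec hs, siegelMat_mulVec hs, siegelMat_mulVec hs, Submodule.coe_add]
    have z1 := (hU _ w.2).1
    have z2 := (hU _ w'.2).1
    have z1' : bf G q₀ w.1 = 0 := by rw [bf_symm hs]; exact z1
    simp only [bf] at z1 z2 z1' hq₀ ⊢
    simp only [sub_eq_add_neg, ← neg_smul, hf.add_left, hf.add_right, hf.smul_left, z1, z2, z1', hq₀]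
    have e : formG (RingEquiv.refl F) G w'.1 w.1 = formG (RingEquiv.refl F) G w.1 w'.1 := bf_symm hs _ _
    rw [e]
    match_scalars <;> field_simp <;> ring
  let φ : Multiplicative U →* GL ι F := MonoidHom.mk' (fun w => S w.toAdd) fun w w' => hSmul _ _
  have hperm : ∀ g ∈ A, ∀ i, ∃ (j : ι) (c : F), mat g *ᵥ b i = c • b j := by
    intro g hg i
    obtain ⟨π, hπ⟩ := hle hg
    obtain ⟨k, rfl⟩ := e.surjective i
    have h1 : mat g *ᵥ b (e k) ∈ D (π k) := by
      rw [← hπ k]
      exact ⟨b (e k), by rw [hD]; exact Submodule.subset_span rfl, Matrix.toLin'_apply _ _⟩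
    rw [hD, Submodule.mem_span_singleton] at h1
    obtain ⟨c, hc⟩ := h1
    exact ⟨e (π k), c, hc.symm⟩
  have hperm' : ∀ w : Multiplicative U, ∃ (π : Equiv.Perm ι) (c : ι → F), (∀ i, c i ≠ 0) ∧
      ∀ i, mat (φ w) *ᵥ b i = c i • b (π i) := fun w => exists_perm (hperm _ (hSA w.toAdd))
  choose π c hc hπ using hperm'
  have huni : ∀ w i j (d : F), mat (φ w) *ᵥ b i = d • b j → π w i = j := by
    intro w i j d hd
    by_contra hne
    have h1 := congrArg (fun v => b.repr v (π w i)) ((hπ w i).symm.trans hd)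
    simp [Ne.symm hne] at h1
    exact hc w i h1
  let ψ : Multiplicative U →* Equiv.Perm ι := MonoidHom.mk' π fun w w' => by
    refine Equiv.ext fun i => huni _ _ _ (c w (π w' i) * c w' i) ?_
    rw [map_mul, ← mulVec_mul, hπ w' i, Matrix.mulVec_smul, hπ w, smul_smul, mul_comm]
    rfl
  have hψ : Function.Injective ψ := by
    refine (injective_iff_map_eq_one ψ).2 fun w hw => ?_
    have hdiag : ∀ i, mat (φ w) *ᵥ b i = c w i • b i := fun i => by
      have h := hπ w i
      rwa [show π w i = i from Equiv.Perm.ext_iff.1 hw i] at h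
    have hsq : φ (w * w) = 1 := by
      rw [map_mul]
      refine Units.ext (Matrix.toLin'.injective (b.ext fun i => ?_))
      rw [Units.val_one, Matrix.toLin'_one, LinearMap.id_apply, Matrix.toLin'_apply]
      show mat (φ w * φ w) *ᵥ b i = b i
      rw [← mulVec_mul, hdiag, Matrix.mulVec_smul, hdiag, smul_smul]
      have h1 := congrArg (fun X => formG (RingEquiv.refl F) X (b i) (b i)) (hAfix _ (hSA w.toAdd))
      simp only [← formG_mulVec] at h1
      rw [show mat (S w.toAdd) *ᵥ b i = c w i • b i from hdiag i, hf.smul_left, hf.smul_right, ← mul_assoc] at h1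
      have h3 : c w i * c w i = 1 := by
        have h4 := (mul_left_eq_self₀.1 h1).resolve_right (hne i)
        simpa using h4
      rw [h3, one_smul]
    have hzero : (w.toAdd + w.toAdd).1 = 0 := by
      set u := (w.toAdd + w.toAdd) with hu
      have h1 : siegelMat G ((2 : F)⁻¹ * bf G u.1 u.1) q₀ u.1 *ᵥ q₁ = q₁ := by
        rw [← hS, show S u = φ (w * w) from rfl, hsq]
        simp [mat]
      rw [siegelMat_mulVec hs, bf_symm hs q₁, (hU _ u.2).2, bf_symm hs q₁ q₀, hq01] at h1
      simp only [zero_smul, add_zero, one_smul, mul_one] at h1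
      have h3 : u.1 + ((2 : F)⁻¹ * bf G u.1 u.1) • q₀ = 0 := by
        rw [sub_sub] at h1
        exact sub_eq_self.1 h1
      have h5 : (2 : F)⁻¹ * bf G u.1 u.1 = 0 := by
        have h6 := congrArg (fun x => bf G x q₁) h3
        simp only [bf, hf.add_left, hf.smul_left] at h6
        rw [show formG (RingEquiv.refl F) G u.1 q₁ = 0 from (hU _ u.2).2,
          show formG (RingEquiv.refl F) G q₀ q₁ = 1 from hq01, zero_add, mul_one] at h6
        simpa [formG] using h6
      rwa [h5, zero_smul, add_zero] at h3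
    rw [Submodule.coe_add, ← two_smul F] at hzero
    exact Multiplicative.toAdd.injective (Subtype.ext ((smul_eq_zero.1 hzero).resolve_left h2))
  have h1 := Subgroup.card_dvd_of_injective ψ hψ
  rw [Nat.card_congr Multiplicative.toAdd, Module.natCard_eq_pow_finrank (K := F), hq, Nat.card_eq_fintype_card,
    Fintype.card_perm] at h1
  exact hn ((pow_dvd_pow p hUdim).trans h1)

end

end Cfsg.Agent.PrimeDim
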