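import Cfsg.Agent.PrimeDim.OmegaProper
import Cfsg.Agent.PrimeDim.SLCases
import Cfsg.Agent.Classical.QuadStd
import Cfsg.Agent.Classical.QuadTypes

/-!
The maximal subgroups of odd-dimensional orthogonal groups of prime degree at least seven.
-/

set_option autoImplicit false

namespace Cfsg.Agent.PrimeDim

open Matrix Cfsg.Geo QuadraticMap
open scoped MatrixGroups
open Cfsg.Agent.Classical

variable {F : Type*} [Field F]

local notation "I" m => Unit ⊕ (Fin m ⊕ Fin m)

theorem exists_pow_of_involution [Fintype F] {σ : F ≃+* F} (hinv : ∀ a, σ (σ a) = a) (hne : σ ≠ RingEquiv.refl F) :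
    ∃ q, Fintype.card F = q ^ 2 ∧ (∀ x, σ x = x ^ q) ∧ IsBar σ := by
  classical
  let K : Subfield F := RingHom.eqLocusField σ.toRingHom (RingHom.id F)
  have hK : ∀ x, x ∈ K ↔ σ x = x := fun x => Iff.rfl
  obtain ⟨θ, hθ⟩ : ∃ a, σ a ≠ a := by
    by_contra hcon
    push Not at hcon
    exact hne (RingEquiv.ext hcon)
  have hd : θ - σ θ ≠ 0 := sub_ne_zero.2 (Ne.symm hθ)
  have hdec : ∀ a, ∃ u t, u ∈ K ∧ t ∈ K ∧ a = u + t * θ := by
    intro a
    set t := (a - σ a) / (θ - σ θ) with ht
    have htσ : σ t = t := by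
      rw [ht, map_div₀, map_sub, map_sub, hinv, hinv, ← neg_sub a, ← neg_sub θ, neg_div_neg_eq]
    refine ⟨a - t * θ, t, (hK _).2 ?_, (hK _).2 htσ, by ring⟩
    rw [map_sub, map_mul, htσ, ht]
    field_simp
    ring
  have hbij : Function.Bijective fun p : K × K => p.1.1 + p.2.1 * θ := by
    refine ⟨fun p p' h => ?_, fun a => ?_⟩
    · simp only at h
      by_cases h2 : p.2.1 = p'.2.1
      · exact Prod.ext (Subtype.ext (by rw [h2] at h; exact add_right_cancel h)) (Subtype.ext h2)
      · exfalso
        refine hθ ?_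
        have e : θ = (p'.1.1 - p.1.1) / (p.2.1 - p'.2.1) := by
          rw [eq_div_iff (sub_ne_zero.2 h2)]; linear_combination h
        rw [e, map_div₀, map_sub, map_sub, (hK _).1 p.1.2, (hK _).1 p'.1.2, (hK _).1 p.2.2, (hK _).1 p'.2.2]
    · obtain ⟨u, t, hu, ht, h⟩ := hdec a
      exact ⟨(⟨u, hu⟩, ⟨t, ht⟩), h.symm⟩
  set q := Nat.card K with hq
  have hcard : Fintype.card F = q ^ 2 := by
    rw [pow_two, ← Nat.card_eq_fintype_card, ← Nat.card_eq_of_bijective _ hbij, Nat.card_prod]
  obtain ⟨τ, hτ, hbar⟩ := exists_bar hcard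
  have hτK : ∀ x, x ∈ K → τ x = x := fun x hx => by rw [hτ]; exact (mem_iff_pow_card K x).1 hx
  have hs : θ + σ θ ∈ K := (hK _).2 (by rw [map_add, hinv, add_comm])
  have hn : θ * σ θ ∈ K := (hK _).2 (by rw [map_mul, hinv, mul_comm])
  have h1 : τ θ * τ θ - (θ + σ θ) * τ θ + θ * σ θ = 0 := by
    have h2 := congrArg τ (show θ * θ - (θ + σ θ) * θ + θ * σ θ = 0 by ring)
    rwa [map_add τ, map_sub τ, map_mul τ θ θ, map_mul τ (θ + σ θ), map_zero, hτK _ hs, hτK _ hn] at h2
  have hτθ : τ θ = σ θ := by
    rcases mul_eq_zero.1 (show (τ θ - θ) * (τ θ - σ θ) = 0 by linear_combination h1) with e | e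
    · exfalso
      rw [sub_eq_zero, hτ, ← mem_iff_pow_card K θ] at e
      exact hθ ((hK θ).1 e)
    · exact sub_eq_zero.1 e
  have hστ : σ = τ := RingEquiv.ext fun a => by
    obtain ⟨u, t, hu, ht, rfl⟩ := hdec a
    rw [map_add, map_add, map_mul, map_mul, hτθ, hτK u hu, hτK t ht, (hK u).1 hu, (hK t).1 ht]
  exact ⟨q, hcard, fun x => by rw [hστ, hτ], hστ ▸ hbar⟩

theorem isBar_of_involution [Fintype F] {σ : F ≃+* F} (hinv : ∀ a, σ (σ a) = a) (hne : σ ≠ RingEquiv.refl F) :
    IsBar σ := (exists_pow_of_involution hinv hne).choose_spec.2.2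

theorem not_pow_dvd_factorial {p n : ℕ} (hp : p.Prime) (hp3 : 3 ≤ p) (hn : 5 ≤ n) : ¬ p ^ (n - 2) ∣ n.factorial := by
  haveI := Fact.mk hp
  intro h
  have h1 : n - 2 ≤ padicValNat p n.factorial := (padicValNat_dvd_iff_le (Nat.factorial_pos n).ne').1 h
  have h2 := sub_one_mul_padicValNat_factorial (p := p) n
  have h3 : 2 * padicValNat p n.factorial ≤ (p - 1) * padicValNat p n.factorial := Nat.mul_le_mul_right _ (by omega)
  omega

/-- An element of determinant one of a form of odd degree fixes a vector. -/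
theorem det_sub_one {ι : Type} [Fintype ι] [DecidableEq ι] (h2 : (2 : F) ≠ 0) (hodd : Odd (Fintype.card ι))
    {G g : Matrix ι ι F} (hG : G.det ≠ 0) (hg : act (RingEquiv.refl F) G g = G) (hd : g.det = 1) :
    (g - 1).det = 0 := by
  have hg' : gᵀ * G * g = G := by
    have h := hg
    rw [act, show g.map (RingEquiv.refl F) = g from Matrix.map_id g] at h
    exact h
  have e : (g - 1)ᵀ * G * g = - (G * (g - 1)) := by
    rw [Matrix.transpose_sub, Matrix.transpose_one, sub_mul, sub_mul, hg', one_mul, mul_sub, mul_one, neg_sub]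
  have h1 := congrArg Matrix.det e
  rw [Matrix.det_mul, Matrix.det_mul, Matrix.det_transpose, hd, mul_one, Matrix.det_neg, Matrix.det_mul,
    hodd.neg_one_pow] at h1
  have h3 : (2 * G.det) * (g - 1).det = 0 := by linear_combination h1
  exact (mul_eq_zero.1 h3).resolve_left (mul_ne_zero h2 hG)

theorem quadOdd_mem {m : ℕ} {F₁ : Subfield F} {u : (I m) → F} (hu : ∀ i, u i ∈ F₁) : quadFormOdd m F u ∈ F₁ :=
  add_mem (pow_mem (hu _) 2) (Subfield.sum_mem _ fun _ _ => mul_mem (hu _) (hu _))

theorem quadOdd_polar {m : ℕ} (x y : (I m) → F) : QuadraticMap.polar (quadFormOdd m F) x y =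
    2 * x (.inl ()) * y (.inl ()) +
      ∑ i, (x (.inr (.inl i)) * y (.inr (.inr i)) + y (.inr (.inl i)) * x (.inr (.inr i))) := by
  have h3 : ∑ i : Fin m, (x (.inr (.inl i)) + y (.inr (.inl i))) * (x (.inr (.inr i)) + y (.inr (.inr i))) =
      (∑ i, x (.inr (.inl i)) * x (.inr (.inr i))) + (∑ i, y (.inr (.inl i)) * y (.inr (.inr i))) +
        ∑ i, (x (.inr (.inl i)) * y (.inr (.inr i)) + y (.inr (.inl i)) * x (.inr (.inr i))) := by
    rw [← Finset.sum_add_distrib, ← Finset.sum_add_distrib]
    exact Finset.sum_congr rfl fun i _ => by ring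
  simp only [QuadraticMap.polar, quadFormOdd, Pi.add_apply, h3]
  ring

/-- The list for `Ω_(2m+1)(q)`, `2m+1` prime. -/
theorem omega_cases [Fintype F] {m : ℕ} (hm : 3 ≤ m) (hr : (2 * m + 1).Prime) (hqodd : Odd (Fintype.card F))
    {H : Subgroup (GL (I m) F)} (hH : IsMaximalIn (omegaGL (quadFormOdd m F)) H) :
    (∃ W : Submodule F ((I m) → F), W ≠ ⊥ ∧ IsTotallySingularQuad (quadFormOdd m F) W ∧
      H = subspaceStabilizer W ⊓ omegaGL (quadFormOdd m F)) ∨
    (∃ W : Submodule F ((I m) → F), W ≠ ⊥ ∧ Even (Module.finrank F W) ∧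
      IsNondegenerateOn (QuadraticMap.polar (quadFormOdd m F)) W ∧
      ¬ (Fintype.card F = 3 ∧ Module.finrank F W = 2 ∧ IsPlusTypeOn (quadFormOdd m F) W) ∧
      H = subspaceStabilizer W ⊓ omegaGL (quadFormOdd m F)) ∨
    ((Fintype.card F).Prime ∧ ∃ D : Fin (2 * m + 1) → Submodule F ((I m) → F),
      IsOrthogonalMDecomposition (quadFormOdd m F) 1 D ∧ H = decompositionStabilizer D ⊓ omegaGL (quadFormOdd m F)) ∨
    (∃ (F₀ : Subfield F) (r : ℕ) (P : GL (I m) F), r.Prime ∧ Fintype.card F = Nat.card F₀ ^ r ∧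
      IsQuadFormRationalStructure (quadFormOdd m F) F₀ P ∧
      H = subfieldSubgroup F₀ P ⊓ omegaGL (quadFormOdd m F)) ∨
    InOrthogonalResidualClass H := by
  classical
  have h2 := two_ne_zero_of_odd hqodd
  have hcard : Fintype.card (I m) = 2 * m + 1 := by simp; omega
  have hodd : Odd (Fintype.card (I m)) := by rw [hcard]; exact odd_two_mul_add_one m
  haveI : Nonempty (I m) := ⟨.inl ()⟩
  -- the standard form
  let QF : QuadraticForm F ((I m) → F) := (Quad.hyp (Quad.sqForm F) m).comp (Quad.oddCoord m).toLinearMap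
  have hQe : ⇑QF = quadFormOdd m F := funext fun x => by simp [QF, Quad.oddCoord_map]
  have hQnd : (QuadraticMap.polarBilin QF).Nondegenerate :=
    Quad.Iso.nondeg (Quad.Iso.symm ⟨Quad.oddCoord m, fun x => by simp [QF]⟩) (Quad.nondeg_hyp (Quad.nondeg_sqForm h2) m)
  set Q := quadFormOdd m F with hQdef
  have hQ : IsNondegenerateQuadraticForm Q := by
    rw [← hQe]
    refine ⟨fun c v => by rw [QuadraticMap.map_smul, smul_eq_mul, pow_two], ⟨?_, ?_, ?_, ?_⟩, fun v hv => ⟨?_, ?_⟩⟩
    · exact fun x y v => QuadraticMap.polar_add_left _ _ _ _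
    · exact fun c x v => by rw [QuadraticMap.polar_smul_left, smul_eq_mul]
    · exact fun v x y => QuadraticMap.polar_add_right _ _ _ _
    · exact fun c v x => by rw [QuadraticMap.polar_smul_right, smul_eq_mul]
    · by_contra hcon
      push Not at hcon
      exact hv (hQnd.2 v hcon)
    · by_contra hcon
      push Not at hcon
      exact hv (hQnd.1 v hcon)
  have hfp := isSesq_of_bilinear hQ.polar_bilinear
  set G := gramMatrix (QuadraticMap.polar Q) with hGdef
  have hpol : ∀ u v, QuadraticMap.polar Q u v = bf G u v := fun u v => hfp.eq_formG u v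
  have hpolf : QuadraticMap.polar Q = bf G := by funext u v; exact hpol u v
  have hG : G.det ≠ 0 := hfp.det_ne_zero hQ.nondegenerate
  have hs : Gᵀ = G := by
    ext i j
    rw [Matrix.transpose_apply, hGdef, gramMatrix, gramMatrix, QuadraticMap.polar_comm]
  have hrefl : Reflexive' (RingEquiv.refl F) G := fun u v => bf_symm hs u v
  have hhalf : ∀ v, bf G v v = 2 * Q v := fun v => by rw [← hpol, quad_eq_half hQ]
  set A := omegaGL Q with hAdef
  have hAQ : ∀ g ∈ A, ∀ v, Q (mat g *ᵥ v) = Q v := by
    intro g hg v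
    obtain ⟨g', -, rfl⟩ := Subgroup.mem_map.1 hg
    exact g'.2 v v
  have hAfix : Fixes (RingEquiv.refl F) A G := fun g hg => (hfp.fixes_iff g).1 fun u v => by
    simp only [QuadraticMap.polar, ← Matrix.mulVec_add, hAQ g hg]
  have hAdet : A ≤ specialLinear (I m) F := by
    rw [hAdef, omegaGL, Subgroup.map_le_iff_le_comap, Omega, _root_.commutator_def, Subgroup.commutator_le]
    intro x _ y _
    show Matrix.GeneralLinearGroup.det ((isometryGroup F Q).subtype (x * y * x⁻¹ * y⁻¹)) = 1
    simp only [map_mul, map_inv]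
    simp [mul_comm]
  have hdet1 : ∀ g ∈ A, (mat g).det = 1 := fun g hg =>
    congrArg Units.val (hAdet hg : Matrix.GeneralLinearGroup.det g = 1)
  have hSie : HasSiegel G A := by
    intro p w hp hw
    have hp0 : QF p = 0 := by
      rw [hQe]
      exact (mul_eq_zero.1 ((hhalf p).symm.trans hp)).resolve_left h2
    have hw0 : QuadraticMap.polar (⇑QF) p w = 0 := by rw [hQe, hpol]; exact hw
    obtain ⟨g, hg, hgx⟩ := NotMax.exists_siegel hQnd (by rw [hcard]; omega) hp0 hw0
    refine ⟨g, by rwa [hQe] at hg, Matrix.toLin'.injective (LinearMap.ext fun x => ?_)⟩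
    rw [Matrix.toLin'_apply, Matrix.toLin'_apply, siegelMat_mulVec hs, hhalf, inv_mul_cancel_left₀ h2]
    rw [hgx x, hQe, hpol, hpol]
    module
  have hfix : Fixes (RingEquiv.refl F) H G := fun g hg => hAfix g (hH.1.le hg)
  -- standard vectors
  let e : Fin m → ((I m) → F) := fun i => Pi.single (.inr (.inl i)) 1
  let f : Fin m → ((I m) → F) := fun i => Pi.single (.inr (.inr i)) 1
  have hpe : ∀ v i, bf G v (e i) = v (.inr (.inr i)) := fun v i => by
    rw [← hpol, quadOdd_polar]; simp [e, Pi.single_apply, Finset.sum_add_distrib]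
  have hpf : ∀ v i, bf G v (f i) = v (.inr (.inl i)) := fun v i => by
    rw [← hpol, quadOdd_polar]; simp [f, Pi.single_apply, Finset.sum_add_distrib]
  have hspan : ∀ v : (I m) → F, v ≠ 0 → ∃ p, bf G p p = 0 ∧ bf G v p ≠ 0 := by
    intro v hv
    by_cases hi : ∃ i, v (.inr (.inr i)) ≠ 0
    · obtain ⟨i, hi⟩ := hi
      exact ⟨e i, by rw [hpe]; simp [e], by rw [hpe]; exact hi⟩
    by_cases hj : ∃ i, v (.inr (.inl i)) ≠ 0
    · obtain ⟨i, hj⟩ := hj
      exact ⟨f i, by rw [hpf]; simp [f], by rw [hpf]; exact hj⟩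
    push Not at hi hj
    have h0 : v (.inl ()) ≠ 0 := by
      intro h0
      refine hv (funext fun k => ?_)
      rcases k with ⟨⟩ | (k | k)
      · exact h0
      · exact hj k
      · exact hi k
    refine ⟨Pi.single (.inl ()) 1 + e ⟨0, by omega⟩ - f ⟨0, by omega⟩, ?_, ?_⟩
    · rw [← hpol, quadOdd_polar]
      simp [e, f, Pi.single_apply, Finset.sum_add_distrib]
      ring
    · rw [← hpol, quadOdd_polar]
      simp [e, f, Pi.single_apply, hi, hj, h0, h2]
  have hirrA : Irr A := omega_irr hG hs h2 hSie (by rw [hcard]; omega) hspan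
  have hstab : ∀ W : Submodule F ((I m) → F), W ≠ ⊥ → W ≠ ⊤ → ¬ A ≤ subspaceStabilizer W := by
    intro W hb ht hle
    rcases hirrA W (fun g hg v hv => ((hle hg : _) v).1 hv) with h | h
    · exact hb h
    · exact ht h
  let i₀ : Fin m := ⟨0, by omega⟩
  let i₁ : Fin m := ⟨1, by omega⟩
  have hi01 : i₀ ≠ i₁ := fun h => absurd (congrArg Fin.val h) (by norm_num [i₀, i₁])
  have hnsub : ∀ (F₁ : Subfield F), F₁ ≠ ⊤ → ∀ P, ¬ A ≤ subfieldSubgroup F₁ P := fun F₁ h P =>
    omega_not_subfield hs h2 hSie hdet1 (by rw [hcard]; exact hr) (e₁ := e i₀) (e₂ := e i₁) (f₁ := f i₀) (f₂ := f i₁)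
      (by rw [hpe]; simp [e]) (by rw [hpe]; simp [e]) (by rw [hpe]; simp [e])
      (by rw [hpf]; simp [f]) (by rw [hpf]; simp [f]) (by rw [hpf]; simp [f])
      (by rw [hpf]; simp [e]) (by rw [hpf]; simp [e]) (by rw [hpf]; simp [e, hi01.symm])
      (by rw [hpf]; simp [e, hi01]) h P
  have hsubfin : ∀ (F₁ : Subfield F) (l : ℕ) (P : GL (I m) F), l.Prime → Fintype.card F = Nat.card F₁ ^ l →
      Entries F₁ (act (RingEquiv.refl F) G (mat P)) → H ≤ subfieldSubgroup F₁ P →
      ∃ (F₀ : Subfield F) (r : ℕ) (P : GL (I m) F), r.Prime ∧ Fintype.card F = Nat.card F₀ ^ r ∧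
        IsQuadFormRationalStructure Q F₀ P ∧ H = subfieldSubgroup F₀ P ⊓ A := by
    intro F₁ l P hl hc hent hle
    have hne : F₁ ≠ ⊤ := by
      intro e
      have h1 : Nat.card F₁ = Fintype.card F := by
        rw [e, ← Nat.card_eq_fintype_card]; exact Nat.card_congr Subfield.topEquiv.toEquiv
      rw [h1] at hc
      exact absurd hc (Nat.ne_of_lt (lt_self_pow₀ Fintype.one_lt_card hl.one_lt))
    refine ⟨F₁, l, P, hl, hc, fun u hu => ?_, eq_inf_of_maximal hH hle (hnsub F₁ hne P)⟩
    have h1 : bf G (mat P *ᵥ u) (mat P *ᵥ u) ∈ F₁ := by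
      show formG (RingEquiv.refl F) G _ _ ∈ F₁
      rw [formG_mulVec]
      simp only [formG, dotProduct, Matrix.mulVec, RingEquiv.refl_apply]
      exact Subfield.sum_mem _ fun a _ => mul_mem (hu a) (Subfield.sum_mem _ fun c _ => mul_mem (hent a c) (hu c))
    rw [hhalf] at h1
    have h3 := div_mem h1 (natCast_mem F₁ 2)
    rwa [Nat.cast_ofNat, mul_div_assoc, mul_comm, div_mul_cancel₀ _ h2] at h3
  have hdetF : ∀ F₁ : Subfield F, G.det ∈ F₁ := fun F₁ => by
    let X₀ : Matrix (I m) (I m) F₁ := Matrix.of fun a b => ⟨G a b, by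
      rw [hGdef, gramMatrix, QuadraticMap.polar]
      refine sub_mem (sub_mem (quadOdd_mem fun k => ?_) (quadOdd_mem fun k => ?_)) (quadOdd_mem fun k => ?_)
      all_goals simp only [Pi.add_apply, Pi.single_apply]
      · exact add_mem (by split_ifs <;> simp [one_mem, zero_mem]) (by split_ifs <;> simp [one_mem, zero_mem])
      · split_ifs <;> simp [one_mem, zero_mem]
      · split_ifs <;> simp [one_mem, zero_mem]⟩
    rw [show G = (F₁.subtype : F₁ →+* F).mapMatrix X₀ from rfl, ← RingHom.map_det]
    exact X₀.det.2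
  have hsub : ∀ (N : Subgroup (GL (I m) F)), N ≤ H → ActsAbsolutelyIrreducibly (matrixSet N) → Normalised H N →
      ∀ (F₀ : Subfield F), F₀ ≠ ⊤ → ∀ B : GL (I m) F, (∀ g ∈ N, Entries F₀ (mat (B * g * B⁻¹))) →
      ∃ (F₀ : Subfield F) (r : ℕ) (P : GL (I m) F), r.Prime ∧ Fintype.card F = Nat.card F₀ ^ r ∧
        IsQuadFormRationalStructure Q F₀ P ∧ H = subfieldSubgroup F₀ P ⊓ A := by
    intro N hNH hN hn F₀ hF₀ B hB
    obtain ⟨F₁, l, hl, hc, hB₁, hle⟩ := le_subfield hN hn hF₀ hB
    obtain ⟨P, hP, hent⟩ := bilinear_rational hodd hN hG (fun g hg => hfix g (hNH hg)) (hdetF F₁) hB₁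
    exact hsubfin F₁ l P hl hc hent (hP ▸ hle)
  by_cases hirr : Irr H
  swap
  · obtain ⟨W, hb, ht, hW⟩ := exists_inv_of_not_irr hirr
    by_cases hI : W ⊓ perpG (RingEquiv.refl F) G W = ⊥
    · obtain ⟨hnd, hnd', hdim⟩ := perp_cases hG hrefl hI
      rw [hcard] at hdim
      obtain ⟨U, hUb, hUt, hUev, hUnd, hUi⟩ : ∃ U : Submodule F ((I m) → F), U ≠ ⊥ ∧ U ≠ ⊤ ∧
          Even (Module.finrank F U) ∧ IsNondegenerateOn (bf G) U ∧ Inv H U := by
        rcases Nat.even_or_odd (Module.finrank F W) with he | ho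
        · exact ⟨W, hb, ht, he, hnd, hW⟩
        · obtain ⟨k, hk⟩ := ho
          refine ⟨_, fun e => ?_, fun e => ?_, ⟨m - k, by omega⟩, hnd', inv_perp hfix hW⟩
          · rw [e, finrank_bot] at hdim
            exact ht (Submodule.eq_top_of_finrank_eq (by rw [Module.finrank_fintype_fun_eq_card, hcard]; omega))
          · rw [e, finrank_top, Module.finrank_fintype_fun_eq_card, hcard] at hdim
            omega
      by_cases hexc : Fintype.card F = 3 ∧ Module.finrank F U = 2 ∧ IsPlusTypeOn Q U
      · obtain ⟨hq3, hU2, U₀, hU₀, hU₀s, hU₀d⟩ := hexc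
        rw [hU2] at hU₀d
        obtain ⟨a, ha, ha0⟩ := U₀.exists_mem_ne_zero_of_ne_bot (fun e => by rw [e, finrank_bot] at hU₀d; omega)
        have hbf := isSesq_formG (RingEquiv.refl F) G
        have haa : bf G a a = 0 := by rw [hhalf, hU₀s a ha, mul_zero]
        obtain ⟨x, hx, hxa⟩ := (hUnd a (hU₀ ha) ha0).2
        obtain ⟨y, hyU, hay⟩ : ∃ y ∈ U, bf G a y = 1 := ⟨(bf G a x)⁻¹ • x, U.smul_mem _ hx, by
          show formG _ G a _ = 1
          rw [hbf.smul_right]; exact inv_mul_cancel₀ hxa⟩
        set z := y - ((2 : F)⁻¹ * bf G y y) • a with hz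
        have hzU : z ∈ U := sub_mem hyU (U.smul_mem _ (hU₀ ha))
        have haz : bf G a z = 1 := by
          show formG (RingEquiv.refl F) G a z = 1
          rw [hz, sub_eq_add_neg, ← neg_smul, hbf.add_right, hbf.smul_right,
            show formG (RingEquiv.refl F) G a y = 1 from hay, show formG (RingEquiv.refl F) G a a = 0 from haa,
            mul_zero, add_zero]
        have hzz : bf G z z = 0 := by
          show formG (RingEquiv.refl F) G z z = 0
          rw [hz, sub_eq_add_neg, ← neg_smul, hbf.add_left, hbf.add_right, hbf.add_right, hbf.smul_left,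
            hbf.smul_right, hbf.smul_right, hbf.smul_left,
            show formG (RingEquiv.refl F) G a y = 1 from hay, show formG (RingEquiv.refl F) G y a = 1 from
              (bf_symm hs y a).trans hay,
            show formG (RingEquiv.refl F) G a a = 0 from haa, RingEquiv.refl_apply]
          simp only [bf]
          field_simp
          ring
        have hza : bf G z a = 1 := (bf_symm hs z a).trans haz
        have hindep : LinearIndependent F ![a, z] := by
          rw [LinearIndependent.pair_iff]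
          intro s t hst
          have h1 := congrArg (fun v => formG (RingEquiv.refl F) G v z) hst
          have h3 := congrArg (fun v => formG (RingEquiv.refl F) G v a) hst
          have h0 : ∀ u, formG (RingEquiv.refl F) G 0 u = 0 := fun u => by simp [formG]
          simp only [hbf.add_left, hbf.smul_left, show formG (RingEquiv.refl F) G a z = 1 from haz,
            show formG (RingEquiv.refl F) G z z = 0 from hzz, show formG (RingEquiv.refl F) G z a = 1 from hza,
            show formG (RingEquiv.refl F) G a a = 0 from haa, h0] at h1 h3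
          exact ⟨by linear_combination h1, by linear_combination h3⟩
        have hspanU : Submodule.span F (Set.range ![a, z]) = U := by
          refine Submodule.eq_of_le_of_finrank_le (Submodule.span_le.2 ?_) ?_
          · rintro _ ⟨k, rfl⟩
            fin_cases k
            · exact hU₀ ha
            · exact hzU
          · rw [hU2, finrank_span_eq_card hindep]; simp
        set d := a + z with hd
        have hdd : bf G d d = 2 := by
          show formG (RingEquiv.refl F) G d d = 2
          rw [hd, hbf.add_left, hbf.add_right, hbf.add_right,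
            show formG (RingEquiv.refl F) G a z = 1 from haz, show formG (RingEquiv.refl F) G z z = 0 from hzz,
            show formG (RingEquiv.refl F) G z a = 1 from hza, show formG (RingEquiv.refl F) G a a = 0 from haa]
          ring
        have hd0 : d ≠ 0 := fun e => h2 (by rw [← hdd, e]; simp [bf, formG])
        let L : Submodule F ((I m) → F) := Submodule.span F {d}
        have hL : Inv H L := by
          intro g hg v hv
          obtain ⟨t, rfl⟩ := Submodule.mem_span_singleton.1 hv
          have h1 : mat g *ᵥ d ∈ U := hUi g hg d (add_mem (hU₀ ha) hzU)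
          have h3 : bf G (mat g *ᵥ d) (mat g *ᵥ d) = 2 := by
            show formG _ G _ _ = 2
            rw [formG_mulVec, hfix g hg]; exact hdd
          rw [← hspanU, Submodule.mem_span_range_iff_exists_fun] at h1
          obtain ⟨co, hco⟩ := h1
          simp [Fin.sum_univ_two] at hco
          rw [← hco] at h3
          simp only [bf, hbf.add_left, hbf.add_right, hbf.smul_left, hbf.smul_right, RingEquiv.refl_apply,
            show formG (RingEquiv.refl F) G a z = 1 from haz, show formG (RingEquiv.refl F) G z z = 0 from hzz,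
            show formG (RingEquiv.refl F) G z a = 1 from hza, show formG (RingEquiv.refl F) G a a = 0 from haa] at h3
          have h4 : co 0 * co 1 = 1 := mul_left_cancel₀ h2 (by linear_combination h3)
          have h5 := FiniteField.pow_card_sub_one_eq_one (co 0) (left_ne_zero_of_mul_eq_one h4)
          rw [hq3] at h5
          have h6 : co 1 = co 0 := by
            calc co 1 = co 0 ^ 2 * co 1 := by rw [show co 0 ^ 2 = (1 : F) from h5, one_mul]
              _ = co 0 := by rw [pow_two, mul_assoc, h4, mul_one]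
          rw [Matrix.mulVec_smul, ← hco, h6, ← smul_add, ← hd]
          exact L.smul_mem _ (L.smul_mem _ (Submodule.subset_span rfl))
        have hLI : L ⊓ perpG (RingEquiv.refl F) G L = ⊥ := by
          rw [eq_bot_iff]
          rintro v ⟨hv, hv'⟩
          obtain ⟨t, rfl⟩ := Submodule.mem_span_singleton.1 hv
          have h1 := hv' d (Submodule.subset_span rfl)
          rw [hbf.smul_left, show formG (RingEquiv.refl F) G d d = 2 from hdd] at h1
          rw [(mul_eq_zero.1 h1).resolve_right h2, zero_smul]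
          exact zero_mem _
        obtain ⟨-, hLnd, hLdim⟩ := perp_cases hG hrefl hLI
        have hL1 : Module.finrank F L = 1 := finrank_span_singleton hd0
        rw [hL1, hcard] at hLdim
        refine Or.inr (Or.inl ⟨_, fun e => ?_, ⟨m, by omega⟩, hpolf ▸ hLnd, fun h => ?_,
          eq_inf_of_maximal hH (le_stab (inv_perp hfix hL)) (hstab _ (fun e => ?_) fun e => ?_)⟩)
        · rw [e, finrank_bot] at hLdim; omega
        · omega
        · rw [e, finrank_bot] at hLdim; omega
        · rw [e, finrank_top, Module.finrank_fintype_fun_eq_card, hcard] at hLdim; omega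
      · exact Or.inr (Or.inl ⟨U, hUb, hUev, hpolf ▸ hUnd, hexc,
          eq_inf_of_maximal hH (le_stab hUi) (hstab U hUb hUt)⟩)
    · refine Or.inl ⟨_, hI, fun v hv => ?_, eq_inf_of_maximal hH ?_ (hstab _ hI fun e => ht ?_)⟩
      · exact (mul_eq_zero.1 ((hhalf v).symm.trans
          ((Submodule.mem_inf.1 hv).2 v (Submodule.mem_inf.1 hv).1))).resolve_left h2
      · exact le_stab fun g hg v hv => Submodule.mem_inf.2
          ⟨hW g hg v (Submodule.mem_inf.1 hv).1, inv_perp hfix hW g hg v (Submodule.mem_inf.1 hv).2⟩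
      · exact top_le_iff.1 (e ▸ inf_le_left)
  obtain ⟨p, n, hp, hcp, hn0, hn⟩ := prime_card_pow (F := F)
  haveI := Fact.mk hp
  rw [Nat.card_eq_fintype_card] at hn
  have hp3 : 3 ≤ p := by
    have h2' : p ≠ 2 := by
      rintro rfl
      exact h2 (by exact_mod_cast CharP.cast_eq_zero F 2)
    have := hp.two_le
    omega
  rcases four_cases hr (by omega) hcard (hH.1.le.trans hAdet) hirr with hL | hS | ⟨R, hR⟩ | ⟨P, hP⟩
  · obtain ⟨b, hperm, horth, hne, hsim⟩ := lines_orth hG hrefl (fun _ => rfl) hodd hirr hfix hL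
    have hbf := isSesq_formG (RingEquiv.refl F) G
    let i₀' : (I m) := .inl ()
    set a := formG (RingEquiv.refl F) G (b i₀') (b i₀') with ha
    choose c hc0 hc using fun i => hsim i i₀'
    let b' : Module.Basis (I m) F ((I m) → F) := b.unitsSMul fun i => Units.mk0 (c i)⁻¹ (inv_ne_zero (hc0 i))
    have hb' : ∀ i, b' i = (c i)⁻¹ • b i := fun i => by simp [b', Module.Basis.unitsSMul_apply]
    have hdiag : ∀ i, formG (RingEquiv.refl F) G (b' i) (b' i) = a := fun i => by
      rw [hb', hbf.smul_left, hbf.smul_right, hc i, RingEquiv.refl_apply, RingEquiv.refl_apply, ← ha]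
      have := hc0 i
      field_simp
    have hoff : ∀ i j, i ≠ j → formG (RingEquiv.refl F) G (b' i) (b' j) = 0 := fun i j hij => by
      rw [hb', hb', hbf.smul_left, hbf.smul_right, horth i j hij, mul_zero, mul_zero]
    have hperm' : ∀ h ∈ H, ∀ i, ∃ (j : I m) (d : F), mat h *ᵥ b' i = d • b' j := by
      intro h hh i
      obtain ⟨j, d, hd⟩ := hperm h hh i
      refine ⟨j, (c i)⁻¹ * d * c j, ?_⟩
      rw [hb', hb', Matrix.mulVec_smul, hd, smul_smul, smul_smul, mul_assoc _ (c j), mul_inv_cancel₀ (hc0 j), mul_one]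
    have ha0 : a ≠ 0 := hne i₀'
    let ee : Fin (2 * m + 1) ≃ (I m) := Fintype.equivOfCardEq (by rw [Fintype.card_fin, hcard])
    by_cases hqp : (Fintype.card F).Prime
    · have hn1 : n = 1 := by
        rw [hn] at hqp
        exact Nat.Prime.eq_one_of_pow hqp
      refine Or.inr (Or.inr (Or.inl ⟨hqp, fun k => Submodule.span F {b' (ee k)}, ⟨⟨lines_decomposition (by omega) b' ee,
        fun k w hw hw0 => ?_, fun i j hij u hu v hv => ?_⟩, fun i j => ?_⟩, eq_inf_of_maximal hH
          (le_decomposition b' ee hperm') ?_⟩))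
      · obtain ⟨t, rfl⟩ := Submodule.mem_span_singleton.1 hw
        have ht : t ≠ 0 := fun e0 => hw0 (by rw [e0, zero_smul])
        rw [hpolf]
        refine ⟨⟨b' (ee k), Submodule.subset_span rfl, ?_⟩, ⟨b' (ee k), Submodule.subset_span rfl, ?_⟩⟩
        · show formG _ G _ _ ≠ 0
          rw [hbf.smul_right, hdiag]; exact mul_ne_zero ht ha0
        · show formG _ G _ _ ≠ 0
          rw [hbf.smul_left, hdiag]; exact mul_ne_zero ht ha0
      · obtain ⟨t, rfl⟩ := Submodule.mem_span_singleton.1 hu
        obtain ⟨t', rfl⟩ := Submodule.mem_span_singleton.1 hv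
        rw [hpol]
        show formG _ G _ _ = 0
        rw [hbf.smul_left, hbf.smul_right, hoff _ _ (fun e0 => hij (ee.injective e0)), mul_zero, mul_zero]
      · refine ⟨(LinearEquiv.toSpanNonzeroSingleton F _ _ (b'.ne_zero (ee i))).symm.trans
          (LinearEquiv.toSpanNonzeroSingleton F _ _ (b'.ne_zero (ee j))), fun w => ?_⟩
        obtain ⟨t, rfl⟩ := (LinearEquiv.toSpanNonzeroSingleton F _ _ (b'.ne_zero (ee i))).surjective w
        rw [LinearEquiv.trans_apply, LinearEquiv.symm_apply_apply]
        show Q (t • b' (ee j)) = Q (t • b' (ee i))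
        apply mul_left_cancel₀ h2
        rw [← hhalf, ← hhalf]
        show formG _ G _ _ = formG _ G _ _
        rw [hbf.smul_left, hbf.smul_right, hbf.smul_left, hbf.smul_right, hdiag, hdiag]
      · refine omega_not_decomp hG hs h2 hSie hAfix hp (by omega) ?_ ?_ b' ee (fun _ => rfl)
          (fun i => by show formG _ G _ _ ≠ 0; rw [hdiag]; exact ha0) (q₀ := e i₀) (q₁ := f i₀)
          (by rw [hpe]; simp [e]) (by rw [hpf]; simp [e])
        · rw [Nat.card_eq_fintype_card, hn, hn1, pow_one]
        · exact not_pow_dvd_factorial hp hp3 (by rw [hcard]; omega)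
    · -- defined over the prime field
      let F₀ : Subfield F := RingHom.eqLocusField (powHom p 1) (RingHom.id F)
      have hmem : ∀ x, x ∈ F₀ ↔ x ^ p = x := fun x => by
        show powHom p 1 x = x ↔ _
        rw [powHom_apply, pow_one]
      have hn2 : 1 < n := by
        by_contra hle
        exact hqp (by rw [hn, show n = 1 by omega, pow_one]; exact hp)
      have hF₀ : F₀ ≠ ⊤ := by
        intro htop
        have h1 := card_fixed_le (E := F) p hp.one_lt
        rw [Nat.card_congr (Equiv.subtypeUnivEquiv fun x => (hmem x).1 (htop ▸ Subfield.mem_top x)),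
          Nat.card_eq_fintype_card, hn] at h1
        have h3 := Nat.pow_lt_pow_right hp.one_lt hn2
        rw [pow_one] at h3
        omega
      obtain ⟨F₁, l, hl, hcl, hle01⟩ := exists_prime_index hF₀
      set P₀ := ofBasis b' with hP₀
      have hgram : act (RingEquiv.refl F) G (mat P₀) = a • (1 : Matrix (I m) (I m) F) := by
        ext i j
        rw [← formG_single (RingEquiv.refl F) (act (RingEquiv.refl F) G (mat P₀)) i j, ← formG_mulVec, ofBasis_single,
          ofBasis_single, Matrix.smul_apply, smul_eq_mul, Matrix.one_apply]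
        by_cases hij : i = j
        · subst hij; rw [if_pos rfl, mul_one, hdiag]
        · rw [if_neg hij, mul_zero, hoff i j hij]
      set δ := (mat P₀).det with hδ
      have hδ0 : δ ≠ 0 := ((Matrix.isUnit_iff_isUnit_det _).1 P₀.isUnit).ne_zero
      have hdeteq : a ^ (2 * m + 1) = δ * G.det * δ := by
        have h1 := congrArg Matrix.det hgram
        rw [det_act, RingEquiv.refl_apply, Matrix.det_smul, Matrix.det_one, mul_one, hcard] at h1
        exact h1.symm
      have hc0' : a ^ m / δ ≠ 0 := div_ne_zero (pow_ne_zero _ ha0) hδ0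
      refine Or.inr (Or.inr (Or.inr (Or.inl (hsubfin F₁ l (sc _ hc0' * P₀) hl hcl ?_ ?_))))
      · rw [show mat (sc _ hc0' * P₀) = (a ^ m / δ) • mat P₀ by
          rw [mat, Units.val_mul, show ((sc _ hc0' : GL (I m) F) : Matrix (I m) (I m) F) = (a ^ m / δ) • 1 from mat_sc _,
            Matrix.smul_mul, one_mul], act_sc, hgram, smul_smul, RingEquiv.refl_apply,
          show a ^ m / δ * (a ^ m / δ) * a = G.det by field_simp; linear_combination hdeteq]
        intro i j
        rw [Matrix.smul_apply, smul_eq_mul, Matrix.one_apply]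
        exact mul_mem (hdetF F₁) (by split_ifs <;> simp [one_mem, zero_mem])
      · rw [subfieldSubgroup_scalar_mul (sc_mem _)]
        intro g hg
        refine mem_subfieldSubgroup (c := 1) (X := mat (P₀⁻¹ * g * P₀)) ?_ (one_smul _ _).symm
        refine entries_of_mono b' fun i => ?_
        obtain ⟨j, d, hd⟩ := hperm' g hg i
        refine ⟨j, d, hle01 ?_, hd⟩
        have h1 : formG (RingEquiv.refl F) G (mat g *ᵥ b' i) (mat g *ᵥ b' i) = a := by
          rw [formG_mulVec, hfix g hg, hdiag]
        rw [hd, hbf.smul_left, hbf.smul_right, hdiag, RingEquiv.refl_apply, ← mul_assoc] at h1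
        have h3 : d * d = 1 := (mul_left_eq_self₀.1 h1).resolve_right ha0
        rcases mul_self_eq_one_iff.1 h3 with rfl | rfl
        · exact one_mem _
        · exact neg_mem (one_mem _)
  · -- no field
    exfalso
    obtain ⟨K, N, hNH, -, hK, -, -, hNK, hns⟩ := hS
    refine hns fun g hg => ?_
    have h1 := det_sub_one h2 hodd hG (hfix g (hNH hg)) (hdet1 g (hH.1.le (hNH hg)))
    have h3 : mat g - 1 = 0 := by
      by_contra hne
      obtain ⟨y, -, hy⟩ := hK.inv _ (sub_mem (hNK g hg) (one_mem K)) hne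
      have h4 := congrArg Matrix.det hy
      rw [Matrix.det_mul, h1, zero_mul, Matrix.det_one] at h4
      exact zero_ne_one h4
    rw [show g = 1 from Units.ext (sub_eq_zero.1 h3)]
    exact one_mem _
  · exfalso
    obtain ⟨ζ, hζ, z, hz, hzmat⟩ := hR.root
    have h1 := det_sub_one h2 hodd hG (hfix z (hR.le hz)) (hdet1 z (hH.1.le (hR.le hz)))
    rw [hzmat, ← one_smul F (1 : Matrix (I m) (I m) F), smul_smul, mul_one, ← sub_smul, Matrix.det_smul,
      Matrix.det_one, mul_one] at h1
    exact hζ.ne_one hr.one_lt (sub_eq_zero.1 ((pow_eq_zero_iff (by rw [hcard]; omega)).1 h1))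
  · by_cases hsubf : ∃ F₀ : Subfield F, F₀ ≠ ⊤ ∧ RealisableOver F₀ (matrixSet P)
    · obtain ⟨F₀, hF₀, hreal⟩ := hsubf
      obtain ⟨B, hB⟩ := realisable_mat.1 hreal
      exact Or.inr (Or.inr (Or.inr (Or.inl (hsub P hP.le hP.abs hP.normalised F₀ hF₀ B hB))))
    refine Or.inr (Or.inr (Or.inr (Or.inr ⟨P, hP.residual fun F₀ h0 h1 => hsubf ⟨F₀, h0, h1⟩, ?_⟩)))
    rintro ⟨σ, f', hf', hfix'⟩
    have hs' := isSesq_of_unitary hf'
    exact hsubf (realisable_of_two (isBar_of_involution hf'.involutive hf'.ne_refl) hP.abs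
      (hs'.det_ne_zero hf'.nondegenerate) hG (fun g hg => (hs'.fixes_iff g).1 (hfix' _ ⟨g, hg, rfl⟩))
      fun g hg => hfix g (hP.le hg))

end Cfsg.Agent.PrimeDim
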