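import Cfsg.Agent.PrimeDim.Gram

/-!
Groups normalising an absolutely irreducible group that is realised over a proper subfield, and rational
structures for the forms they fix.
-/

set_option autoImplicit false

namespace Cfsg.Agent.PrimeDim

open Matrix Cfsg.Geo
open scoped MatrixGroups

variable {ι : Type} [Fintype ι] [DecidableEq ι] {F : Type*} [Field F]

local notation "M" => Matrix ι ι F

/-- All entries lie in the subfield. -/
def Entries (F₀ : Subfield F) (A : Matrix ι ι F) : Prop := ∀ i j, A i j ∈ F₀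

theorem Entries.mul {F₀ : Subfield F} {A B : M} (hA : Entries F₀ A) (hB : Entries F₀ B) : Entries F₀ (A * B) :=
  fun i j => by
    rw [Matrix.mul_apply]
    exact Subfield.sum_mem _ fun k _ => mul_mem (hA i k) (hB k j)

theorem realisable_mat {F₀ : Subfield F} {N : Subgroup (GL ι F)} :
    RealisableOver F₀ (matrixSet N) ↔ ∃ B : GL ι F, ∀ g ∈ N, Entries F₀ (mat (B * g * B⁻¹)) := by
  constructor
  · rintro ⟨B, hB⟩
    refine ⟨B, fun g hg i j => ?_⟩
    simpa [mat] using hB _ ⟨g, hg, rfl⟩ i j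
  · rintro ⟨B, hB⟩
    refine ⟨B, ?_⟩
    rintro _ ⟨g, hg, rfl⟩ i j
    simpa [mat] using hB g hg i j

theorem mem_subfieldSubgroup {F₀ : Subfield F} {P g : GL ι F} {c : F} {X : M} (hX : Entries F₀ X)
    (h : mat (P⁻¹ * g * P) = c • X) : g ∈ subfieldSubgroup F₀ P := by
  refine ⟨P⁻¹ * g * P, ?_, by simp [mul_assoc]⟩
  cases isEmpty_or_nonempty ι
  · rw [show P⁻¹ * g * P = 1 from Subsingleton.elim _ _]; exact one_mem _
  have hc : c ≠ 0 := by
    intro e
    rw [e, zero_smul] at h
    exact Units.ne_zero _ h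
  let X₀ : Matrix ι ι F₀ := Matrix.of fun i j => ⟨X i j, hX i j⟩
  have hmap : (F₀.subtype : F₀ →+* F).mapMatrix X₀ = X := by ext i j; rfl
  have hd : X₀.det ≠ 0 := by
    intro e
    have h1 := (F₀.subtype : F₀ →+* F).map_det X₀
    rw [hmap, e, map_zero] at h1
    have h2 := ((Matrix.isUnit_iff_isUnit_det _).1 (P⁻¹ * g * P).isUnit).ne_zero
    rw [show ((P⁻¹ * g * P : GL ι F) : M) = c • X from h, Matrix.det_smul, ← h1, mul_zero] at h2
    exact h2 rfl
  let u : GL ι F₀ := Matrix.GeneralLinearGroup.mkOfDetNeZero X₀ hd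
  let s : GL ι F := Units.map (Matrix.scalar ι : F →+* M).toMonoidHom (Units.mk0 c hc)
  have e : P⁻¹ * g * P = Matrix.GeneralLinearGroup.map (F₀.subtype : F₀ →+* F) u * s := by
    ext1
    rw [show ((P⁻¹ * g * P : GL ι F) : M) = c • X from h, Units.val_mul,
      show (s : M) = c • (1 : M) by simp [s, Matrix.smul_one_eq_diagonal], Matrix.mul_smul, mul_one]
    congr 1
  rw [e]
  exact Subgroup.mul_mem_sup ⟨u, rfl⟩ ⟨_, rfl⟩

theorem exists_of_mem_subfieldSubgroup {F₀ : Subfield F} {P g : GL ι F} (h : g ∈ subfieldSubgroup F₀ P) :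
    ∃ (c : F) (X : M), Entries F₀ X ∧ mat (P⁻¹ * g * P) = c • X := by
  obtain ⟨y, hy, rfl⟩ := h
  obtain ⟨_, ⟨u, rfl⟩, z, hz, rfl⟩ := Subgroup.mem_sup_of_normal_right.1 hy
  obtain ⟨c, hc⟩ := (Cfsg.Geo.mem_scalars_iff z).1 hz
  refine ⟨(c : F), mat (Matrix.GeneralLinearGroup.map (F₀.subtype : F₀ →+* F) u), fun i j => ?_, ?_⟩
  swap
  · rw [show P⁻¹ * (MulAut.conj P).toMonoidHom (Matrix.GeneralLinearGroup.map (F₀.subtype : F₀ →+* F) u * z) * P =
      Matrix.GeneralLinearGroup.map (F₀.subtype : F₀ →+* F) u * z by simp [mul_assoc]]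
    rw [mat, Units.val_mul, hc, Matrix.mul_smul, mul_one]
  · exact ((u : Matrix ι ι F₀) i j).2

theorem mem_iff_pow_card [Finite F] (F₀ : Subfield F) (x : F) : x ∈ F₀ ↔ x ^ Nat.card F₀ = x := by
  classical
  haveI : Fintype F₀ := Fintype.ofFinite _
  haveI : Fintype F := Fintype.ofFinite _
  constructor
  · intro hx
    rw [Nat.card_eq_fintype_card]
    exact congrArg Subtype.val (FiniteField.pow_card (⟨x, hx⟩ : F₀))
  · intro hx
    by_contra hcon
    let p : Polynomial F := Polynomial.X ^ Nat.card F₀ - Polynomial.X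
    have h1 : 1 < Nat.card F₀ := Finite.one_lt_card
    have hp : p ≠ 0 := FiniteField.X_pow_card_sub_X_ne_zero F h1
    have hdeg : p.natDegree = Nat.card F₀ := FiniteField.X_pow_card_sub_X_natDegree_eq F h1
    have hsub : insert x ((Finset.univ : Finset F₀).image (Subtype.val : F₀ → F)) ⊆ p.roots.toFinset := by
      intro y hy
      rw [Multiset.mem_toFinset, Polynomial.mem_roots hp]
      rcases Finset.mem_insert.1 hy with rfl | hy
      · simp [p]; rw [sub_eq_zero, ← Nat.card_eq_fintype_card]; exact hx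
      · obtain ⟨z, -, rfl⟩ := Finset.mem_image.1 hy
        have := congrArg Subtype.val (FiniteField.pow_card z)
        rw [SubmonoidClass.coe_pow] at this
        simp [p]
        rw [sub_eq_zero]
        exact this
    have h2 := (Finset.card_le_card hsub).trans ((Multiset.toFinset_card_le _).trans (Polynomial.card_roots' p))
    rw [Finset.card_insert_of_notMem (by simp [hcon]), Finset.card_image_of_injective _ Subtype.val_injective,
      Finset.card_univ, hdeg, Nat.card_eq_fintype_card] at h2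
    omega

theorem prime_card_pow [Finite F] : ∃ p n : ℕ, p.Prime ∧ CharP F p ∧ 0 < n ∧ Nat.card F = p ^ n := by
  haveI : Fintype F := Fintype.ofFinite _
  obtain ⟨p, hp⟩ := CharP.exists F
  obtain ⟨n, hpp, hn⟩ := FiniteField.card F p
  exact ⟨p, n, hpp, hp, n.2, by rw [Nat.card_eq_fintype_card, hn]⟩

/-- The `p ^ d`-th power map. -/
noncomputable def powHom (p d : ℕ) [Fact p.Prime] [CharP F p] : F →+* F := iterateFrobenius F p d

theorem powHom_apply (p d : ℕ) [Fact p.Prime] [CharP F p] (x : F) : powHom p d x = x ^ p ^ d :=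
  iterateFrobenius_def (R := F) p d x

theorem exists_powHom [Finite F] (F₀ : Subfield F) : ∃ τ : F →+* F, (∀ x, x ∈ F₀ ↔ τ x = x) ∧ ∀ x, τ x = x ^ Nat.card F₀ := by
  obtain ⟨p, n, hp, hc, -, -⟩ := prime_card_pow (F := F)
  haveI := Fact.mk hp
  haveI : CharP F₀ p := (RingHom.charP_iff F₀.subtype F₀.subtype.injective p).2 hc
  haveI : Fintype F₀ := Fintype.ofFinite _
  obtain ⟨d, -, hd⟩ := FiniteField.card F₀ p
  have h : ∀ x : F, powHom p d x = x ^ Nat.card F₀ := fun x => by rw [powHom_apply, Nat.card_eq_fintype_card, hd]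
  exact ⟨_, fun x => by rw [h, mem_iff_pow_card], h⟩

theorem pow_pow_of_fix {x : F} {a : ℕ} (h : x ^ a = x) (k : ℕ) : x ^ a ^ k = x := by
  induction k with
  | zero => rw [pow_zero, pow_one]
  | succ k ih => rw [pow_succ, pow_mul, ih, h]

/-- A proper subfield lies in one of prime index. -/
theorem exists_prime_index [Fintype F] {F₀ : Subfield F} (h : F₀ ≠ ⊤) :
    ∃ (F₁ : Subfield F) (l : ℕ), l.Prime ∧ Fintype.card F = Nat.card F₁ ^ l ∧ F₀ ≤ F₁ := by
  classical
  obtain ⟨p, n, hp, hc, hn0, hn⟩ := prime_card_pow (F := F)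
  haveI := Fact.mk hp
  haveI : CharP F₀ p := (RingHom.charP_iff F₀.subtype F₀.subtype.injective p).2 hc
  haveI : Fintype F₀ := Fintype.ofFinite _
  obtain ⟨d, -, hd⟩ := FiniteField.card F₀ p
  have hpow : Nat.card F = Nat.card F₀ ^ Module.finrank F₀ F := Module.natCard_eq_pow_finrank
  rw [hn, Nat.card_eq_fintype_card, hd, ← pow_mul] at hpow
  have hndm : n = d * Module.finrank F₀ F := Nat.pow_right_injective hp.two_le hpow
  have hm1 : Module.finrank F₀ F ≠ 1 := by
    intro e
    apply h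
    rw [eq_top_iff]
    intro x _
    obtain ⟨c, hc⟩ := (finrank_eq_one_iff_of_nonzero' (1 : F) one_ne_zero).1 e x
    rw [← hc]
    show (c : F) * 1 ∈ F₀
    rw [mul_one]; exact c.2
  obtain ⟨l, hl, m, hm⟩ := Nat.exists_prime_and_dvd hm1
  set k := (d : ℕ) * m with hk
  have hnk : n = k * l := by rw [hndm, hm, hk]; ring
  have hk0 : 0 < k := Nat.pos_of_ne_zero fun e => by rw [e, zero_mul] at hnk; omega
  have hF : Fintype.card F = p ^ n := by rw [← hn, Nat.card_eq_fintype_card]
  let τ : F →+* F := powHom p k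
  let F₁ : Subfield F := RingHom.eqLocusField τ (RingHom.id F)
  have hmem : ∀ x : F, x ∈ F₁ ↔ x ^ p ^ k = x := fun x => by
    show τ x = x ↔ _
    rw [powHom_apply]
  refine ⟨F₁, l, hl, ?_, fun x hx => (hmem x).2 ?_⟩
  · haveI : CharP F₁ p := (RingHom.charP_iff F₁.subtype F₁.subtype.injective p).2 hc
    haveI : Fintype F₁ := Fintype.ofFinite _
    have hdvd : p ^ k - 1 ∣ p ^ n - 1 := by
      rw [hnk, pow_mul p k l]
      have h1 := Nat.sub_dvd_pow_sub_pow (p ^ k) 1 l
      rwa [one_pow] at h1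
    -- the fixed field has `p ^ k` elements
    obtain ⟨g, hg⟩ := IsCyclic.exists_generator (α := Fˣ)
    have hcardU : Nat.card Fˣ = p ^ n - 1 := by rw [Nat.card_units, hn]
    have hordg : orderOf g = p ^ n - 1 := by rw [orderOf_eq_card_of_forall_mem_zpowers hg, hcardU]
    obtain ⟨q, hq⟩ := hdvd
    have hpk : 1 < p ^ k := Nat.one_lt_pow hk0.ne' hp.one_lt
    have hq0 : q ≠ 0 := by
      intro e
      rw [e, mul_zero] at hq
      have : 1 < p ^ n := Nat.one_lt_pow hn0.ne' hp.one_lt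
      omega
    have hordy : orderOf (g ^ q) = p ^ k - 1 := by
      rw [orderOf_pow' g hq0, hordg, hq, Nat.gcd_mul_left_left, Nat.mul_div_cancel _ (Nat.pos_of_ne_zero hq0)]
    have hy : ((g ^ q : Fˣ) : F) ∈ F₁ := by
      rw [hmem]
      have h1 := pow_orderOf_eq_one (g ^ q)
      rw [hordy] at h1
      rw [← Units.val_pow_eq_pow_val, show p ^ k = p ^ k - 1 + 1 by omega, pow_succ, h1, one_mul]
    let y : F₁ˣ := Units.mk0 ⟨_, hy⟩ (fun e => Units.ne_zero (g ^ q) (congrArg Subtype.val e))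
    have hordy' : orderOf y = p ^ k - 1 := by
      rw [← hordy, ← orderOf_injective (Units.map (F₁.subtype : F₁ →+* F).toMonoidHom)
        (Units.map_injective F₁.subtype.injective) y]
      congr 1
      exact Units.ext rfl
    have hlow : p ^ k ≤ Fintype.card F₁ := by
      have h1 := orderOf_le_card (G := F₁ˣ) (x := y)
      rw [hordy', Nat.card_units, Nat.card_eq_fintype_card] at h1
      omega
    have hup : Fintype.card F₁ ≤ p ^ k := by
      let P : Polynomial F := Polynomial.X ^ (p ^ k) - Polynomial.X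
      have hP : P ≠ 0 := FiniteField.X_pow_card_sub_X_ne_zero F hpk
      have hdeg : P.natDegree = p ^ k := FiniteField.X_pow_card_sub_X_natDegree_eq F hpk
      have hsub : (Finset.univ : Finset F₁).image (Subtype.val : F₁ → F) ⊆ P.roots.toFinset := by
        intro x hx
        obtain ⟨z, -, rfl⟩ := Finset.mem_image.1 hx
        rw [Multiset.mem_toFinset, Polynomial.mem_roots hP]
        simp [P, (hmem z.1).1 z.2]
      have h2 := (Finset.card_le_card hsub).trans ((Multiset.toFinset_card_le _).trans (Polynomial.card_roots' P))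
      rwa [Finset.card_image_of_injective _ Subtype.val_injective, Finset.card_univ, hdeg] at h2
    rw [hF, Nat.card_eq_fintype_card, le_antisymm hup hlow, ← pow_mul, ← hnk]
  · have h1 := (mem_iff_pow_card F₀ x).1 hx
    rw [Nat.card_eq_fintype_card, hd] at h1
    rw [hk, pow_mul]
    exact pow_pow_of_fix h1 m

theorem conj_conj (B h g : GL ι F) : B * (h * g * h⁻¹) * B⁻¹ = (B * h * B⁻¹) * (B * g * B⁻¹) * (B * h * B⁻¹)⁻¹ := by
  group

/-- The normaliser of an absolutely irreducible group realised over a proper subfield lies in a subfield group. -/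
theorem le_subfield [Fintype F] [Nonempty ι] {N H : Subgroup (GL ι F)} (hN : ActsAbsolutelyIrreducibly (matrixSet N))
    (hn : Normalised H N) {F₀ : Subfield F} (h₀ : F₀ ≠ ⊤) {B : GL ι F}
    (hB : ∀ g ∈ N, Entries F₀ (mat (B * g * B⁻¹))) :
    ∃ (F₁ : Subfield F) (l : ℕ), l.Prime ∧ Fintype.card F = Nat.card F₁ ^ l ∧
      (∀ g ∈ N, Entries F₁ (mat (B * g * B⁻¹))) ∧ H ≤ subfieldSubgroup F₁ B⁻¹ := by
  obtain ⟨F₁, l, hl, hcard, hle⟩ := exists_prime_index h₀
  refine ⟨F₁, l, hl, hcard, fun g hg i j => hle (hB g hg i j), fun h hh => ?_⟩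
  obtain ⟨τ, hτ, -⟩ := exists_powHom F₀
  set k : GL ι F := B * h * B⁻¹ with hk
  have hfix : ∀ g ∈ N, (mat (B * g * B⁻¹)).map τ = mat (B * g * B⁻¹) := fun g hg => by
    ext i j; exact (hτ _).1 (hB g hg i j)
  set k' : GL ι F := Matrix.GeneralLinearGroup.map τ k with hk'
  have hk'mat : mat k' = (mat k).map τ := rfl
  have hcomm : ∀ g ∈ conjGrp B N, mat (k⁻¹ * k') * mat g = mat g * mat (k⁻¹ * k') := by
    rintro _ ⟨g, hg, rfl⟩
    show mat (k⁻¹ * k') * mat (B * g * B⁻¹) = mat (B * g * B⁻¹) * mat (k⁻¹ * k')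
    set y := B * g * B⁻¹ with hy
    have e1 : Matrix.GeneralLinearGroup.map τ y = y := Units.ext (hfix g hg)
    have e2 : Matrix.GeneralLinearGroup.map τ (k * y * k⁻¹) = k * y * k⁻¹ := by
      rw [hk, hy, ← conj_conj]
      exact Units.ext (hfix _ (hn h hh g hg))
    rw [map_mul, map_mul, map_inv, e1, ← hk'] at e2
    have e3 : k⁻¹ * k' * y = y * (k⁻¹ * k') := by
      calc k⁻¹ * k' * y = k⁻¹ * (k' * y * k'⁻¹) * k' := by group
        _ = y * (k⁻¹ * k') := by rw [e2]; group
    simp only [mat, ← Units.val_mul, e3]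
  obtain ⟨c, hc⟩ := (abs_iff.1 (abs_conj hN B)).2 _ hcomm
  have hkk : (mat k).map τ = c • mat k := by
    have h1 : mat k' = mat k * mat (k⁻¹ * k') := by simp [mat]
    rw [← hk'mat, h1, hc, Matrix.mul_smul, mul_one]
  obtain ⟨i, j, hij⟩ : ∃ i j, mat k i j ≠ 0 := by
    by_contra hcon
    push Not at hcon
    exact Units.ne_zero k (Matrix.ext hcon)
  refine mem_subfieldSubgroup (c := mat k i j) (X := (mat k i j)⁻¹ • mat k) (fun a b => hle ?_) ?_
  · rw [hτ, Matrix.smul_apply, smul_eq_mul, map_mul, map_inv₀]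
    have h1 := congrFun (congrFun hkk i) j
    have h2 := congrFun (congrFun hkk a) b
    simp only [Matrix.map_apply, Matrix.smul_apply, smul_eq_mul] at h1 h2
    rw [h1, h2]
    have hc0 : c ≠ 0 := by
      intro e
      rw [e, zero_mul] at h1
      exact hij ((map_eq_zero τ).1 h1)
    field_simp
  · rw [smul_smul, mul_inv_cancel₀ hij, one_smul, inv_inv, ← hk]

end Cfsg.Agent.PrimeDim
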