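import Cfsg.Agent.PrimeDim.Tools

/-!
In `SL₃(4)` the normaliser of a cubic subfield lies in a subfield group.
-/

set_option autoImplicit false

namespace Cfsg.Agent.PrimeDim

open Matrix Cfsg.Geo
open scoped MatrixGroups

theorem quad_root {E : Type*} [Field E] (h2 : (2 : E) = 0) {k α β : E} (hα : α ^ 4 = α) (hβ : β ^ 4 = β)
    (h : k ^ 2 = α * k + β) : k ^ 16 = k := by
  haveI : CharP E 2 := CharTwo.of_one_ne_zero_of_two_eq_zero one_ne_zero h2
  have hy : ∀ x y : E, (x + y) ^ 4 = x ^ 4 + y ^ 4 := fun x y => add_pow_char_pow (p := 2) (n := 2) x y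
  have h1 : (k ^ 4) ^ 2 = α * k ^ 4 + β := by
    rw [← pow_mul, show (4 * 2 : ℕ) = 2 * 4 by norm_num, pow_mul, h, hy, mul_pow, hα, hβ]
  rcases mul_eq_zero.1 (show (k ^ 4 - k) * (k ^ 4 + k - α) = 0 by linear_combination h1 - h) with e | e
  · rw [sub_eq_zero] at e
    rw [show (16 : ℕ) = 4 * 4 by norm_num, pow_mul, e, e]
  · have e' : k ^ 4 = α + k := by linear_combination e - k * h2
    rw [show (16 : ℕ) = 4 * 4 by norm_num, pow_mul, e', hy, hα, e']
    linear_combination α * h2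

theorem card_fixed_le {E : Type*} [Field E] [Finite E] (n : ℕ) (hn : 1 < n) :
    Nat.card {z : E // z ^ n = z} ≤ n := by
  classical
  haveI : Fintype E := Fintype.ofFinite E
  let P : Polynomial E := Polynomial.X ^ n - Polynomial.X
  have hP : P ≠ 0 := FiniteField.X_pow_card_sub_X_ne_zero E hn
  have hdeg : P.natDegree = n := FiniteField.X_pow_card_sub_X_natDegree_eq E hn
  rw [Nat.card_eq_fintype_card, Fintype.card_subtype]
  refine le_trans (Finset.card_le_card fun x hx => ?_)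
    ((Multiset.toFinset_card_le _).trans ((Polynomial.card_roots' P).trans hdeg.le))
  rw [Multiset.mem_toFinset, Polynomial.mem_roots hP]
  simp at hx
  simp [P, hx]

variable {F : Type*} [Field F]

local notation "M3" => Matrix (Fin 3) (Fin 3) F

theorem sl34 [Fintype F] (hq : Fintype.card F = 4) {K : Subalgebra F M3} (hK : IsFieldSubalgebra 3 K) :
    ∃ (F₀ : Subfield F) (P : GL (Fin 3) F), Fintype.card F = Nat.card F₀ ^ 2 ∧
      subalgebraNormalizer K ⊓ specialLinear (Fin 3) F ≤ subfieldSubgroup F₀ P := by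
  classical
  obtain ⟨σ, hσ, hbar⟩ := exists_bar (F := F) (q := 2) (by rw [hq]; rfl)
  have h2 : (2 : F) = 0 := by
    by_contra hne
    exact absurd (odd_of_two_ne_zero hne) (by rw [hq]; decide)
  let F₀ : Subfield F := RingHom.eqLocusField σ.toRingHom (RingHom.id F)
  have hF₀ : ∀ a, a ∈ F₀ ↔ a ^ 2 = a := fun a => by
    show σ a = a ↔ _
    rw [hσ]
  have hsq : ∀ a : F, a ∈ F₀ → a = 0 ∨ a = 1 := fun a ha => by
    rcases mul_eq_zero.1 (show a * (a - 1) = 0 by linear_combination (hF₀ a).1 ha) with e | e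
    · exact Or.inl e
    · exact Or.inr (sub_eq_zero.1 e)
  have hcard₀ : Nat.card F₀ = 2 := by
    refine Nat.card_eq_two_iff.2 ⟨0, 1, zero_ne_one, Set.eq_univ_of_forall fun a => ?_⟩
    rcases hsq a.1 a.2 with e | e
    · exact Or.inl (Subtype.ext e)
    · exact Or.inr (Subtype.ext e)
  letI : CommRing K := { (inferInstance : Ring K) with
    mul_comm := fun a b => Subtype.ext (hK.comm a.1 a.2 b.1 b.2) }
  have hfield : IsField K :=
    { exists_pair_ne := ⟨0, 1, fun e => zero_ne_one (congrArg (fun w : K => (w : M3) 0 0) e |>.trans (by simp))⟩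
      mul_comm := mul_comm
      mul_inv_cancel := fun {a} ha => by
        obtain ⟨b, hb, hab⟩ := hK.inv a.1 a.2 fun e => ha (Subtype.ext e)
        exact ⟨⟨b, hb⟩, Subtype.ext hab⟩ }
  letI : Field K := hfield.toField
  haveI : Finite K := Subtype.finite
  haveI : Fintype K := Fintype.ofFinite K
  have hKcard : Nat.card K = 64 := by
    rw [Module.natCard_eq_pow_finrank (K := F), hK.finrank_eq, Nat.card_eq_fintype_card, hq]; norm_num
  let ι₀ : F → K := fun a => ⟨a • (1 : M3), K.smul_mem (one_mem K) a⟩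
  have hι₀ : ∀ a, ((ι₀ a : K) : M3) = a • (1 : M3) := fun _ => rfl
  have hι4 : ∀ a, ι₀ a ^ 4 = ι₀ a := fun a => Subtype.ext (by
    rw [SubmonoidClass.coe_pow, hι₀, smul_pow, one_pow, ← hq, FiniteField.pow_card])
  have hιinj : Function.Injective ι₀ := fun a b h => by
    have := congrArg (fun w : K => (w : M3) 0 0) h
    simpa [ι₀] using this
  have hι_surj : ∀ z : K, z ^ 4 = z → ∃ a, ι₀ a = z := by
    intro z hz
    let f : F → {z : K // z ^ 4 = z} := fun a => ⟨ι₀ a, hι4 a⟩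
    have hf : Function.Injective f := fun a b h => hιinj (congrArg Subtype.val h)
    have hb := hf.bijective_of_nat_card_le (by
      rw [Nat.card_eq_fintype_card (α := F), hq]; exact card_fixed_le 4 (by norm_num))
    obtain ⟨a, ha⟩ := hb.2 ⟨z, hz⟩
    exact ⟨a, congrArg Subtype.val ha⟩
  have h2K : (2 : K) = 0 := Subtype.ext (by
    show ((2 : K) : M3) = 0
    rw [show (2 : K) = 1 + 1 by norm_num, AddMemClass.coe_add, OneMemClass.coe_one, ← one_smul F (1 : M3), ← add_smul,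
      one_add_one_eq_two, h2, zero_smul])
  obtain ⟨v, hv⟩ : ∃ v : Fin 3 → F, v ≠ 0 := exists_ne 0
  have hann : ∀ x : K, (x : M3) *ᵥ v = 0 → x = 0 := by
    intro x hx
    by_contra hne
    obtain ⟨y, hy⟩ := hfield.mul_inv_cancel hne
    refine hv ?_
    have h1 : ((y * x : K) : M3) *ᵥ v = 0 := by
      rw [MulMemClass.coe_mul, ← Matrix.mulVec_mulVec, hx, Matrix.mulVec_zero]
    rwa [mul_comm, hy, OneMemClass.coe_one, Matrix.one_mulVec] at h1
  have hindep : ∀ k : K, k ^ 16 ≠ k →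
      LinearIndependent F (fun i : Fin 3 => ((k ^ (i : ℕ) : K) : M3) *ᵥ v) := by
    intro k hk
    rw [Fintype.linearIndependent_iff]
    intro c hc
    let X : K := ι₀ (c 0) + ι₀ (c 1) * k + ι₀ (c 2) * k ^ 2
    have hX : X = 0 := hann X (by
      rw [← hc, Fin.sum_univ_three]
      simp [X, hι₀, Matrix.add_mulVec, Matrix.smul_mulVec])
    have hc2 : c 2 = 0 := by
      by_contra hne
      refine hk (quad_root h2K (hι4 (-(c 1) / c 2)) (hι4 (-(c 0) / c 2)) ?_)
      have e : ∀ a, ι₀ (a / c 2) * ι₀ (c 2) = ι₀ a := fun a => Subtype.ext (by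
        rw [MulMemClass.coe_mul, hι₀, hι₀, hι₀, Matrix.smul_mul, one_mul, smul_smul, div_mul_cancel₀ _ hne])
      have hneg : ∀ a, ι₀ (-a) = -ι₀ a := fun a => Subtype.ext (by simp [ι₀])
      have hne' : ι₀ (c 2) ≠ 0 := fun e0 => hne (hιinj (e0.trans (Subtype.ext (by simp [ι₀]))))
      apply mul_left_cancel₀ hne'
      rw [mul_add, ← mul_assoc, mul_comm (ι₀ (c 2)) (ι₀ (-c 1 / c 2)), e, mul_comm (ι₀ (c 2)) (ι₀ (-c 0 / c 2)), e,
        hneg, hneg]
      have hX' : X = 0 := hX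
      simp only [X] at hX'
      linear_combination hX' 
    have hzero : ι₀ 0 = 0 := Subtype.ext (by simp [ι₀])
    have hc1 : c 1 = 0 := by
      by_contra hne
      refine hk ?_
      have hk' : k = ι₀ (-(c 0) / c 1) := by
        have e : ι₀ (-(c 0) / c 1) * ι₀ (c 1) = -ι₀ (c 0) := Subtype.ext (by
          rw [MulMemClass.coe_mul, hι₀, hι₀, NegMemClass.coe_neg, hι₀, Matrix.smul_mul, one_mul, smul_smul,
            div_mul_cancel₀ _ hne, neg_smul])
        have hne' : ι₀ (c 1) ≠ 0 := fun e0 => hne (hιinj (e0.trans hzero.symm))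
        apply mul_right_cancel₀ hne'
        rw [e]
        have hX' : X = 0 := hX
        simp only [X, hc2, hzero, zero_mul, add_zero] at hX'
        linear_combination hX'
      rw [hk', show (16 : ℕ) = 4 * 4 by norm_num, pow_mul, hι4, hι4]
    have hc0 : c 0 = 0 := by
      have hX' : X = 0 := hX
      simp only [X, hc1, hc2, hzero, zero_mul, add_zero] at hX'
      exact hιinj (hX'.trans hzero.symm)
    intro i
    fin_cases i <;> assumption
  obtain ⟨g, hg⟩ := IsCyclic.exists_generator (α := Kˣ)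
  have hord : orderOf g = 63 := by rw [orderOf_eq_card_of_forall_mem_zpowers hg, Nat.card_units, hKcard]
  have hne16 : ∀ m : ℕ, ¬ 63 ∣ 15 * m → ((g : K) ^ m) ^ 16 ≠ (g : K) ^ m := by
    intro m hm e
    refine hm (hord ▸ orderOf_dvd_of_pow_eq_one (Units.ext ?_))
    rw [Units.val_pow_eq_pow_val, Units.val_one]
    refine mul_right_cancel₀ (pow_ne_zero m g.ne_zero) ?_
    rw [one_mul, ← pow_add, show 15 * m + m = m * 16 by ring, pow_mul]
    exact e
  have hg63 : (g : K) ^ 63 = 1 := by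
    rw [← Units.val_pow_eq_pow_val, ← hord, pow_orderOf_eq_one, Units.val_one]
  -- the determinant is not trivial on the field
  have hdet : ∃ k : K, k ≠ 0 ∧ (k : M3).det ≠ 1 := by
    set k := (g : K) ^ 7 with hk
    refine ⟨k, pow_ne_zero 7 g.ne_zero, fun hd => ?_⟩
    obtain ⟨w, hw⟩ := hι_surj (k ^ 3) (by rw [hk, ← pow_mul, ← pow_mul, show 7 * 3 * 4 = 63 + 7 * 3 by norm_num,
      pow_add, hg63, one_mul, pow_mul])
    let b := basisOfLinearIndependentOfCardEqFinrank (hindep k (hne16 7 (by decide))) (by simp)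
    have hb : ∀ i, b i = ((k ^ (i : ℕ) : K) : M3) *ᵥ v := fun i => by simp [b]
    have hC : mat (ofBasis b)⁻¹ * (k : M3) * mat (ofBasis b) = !![0, 0, w; 1, 0, 0; 0, 1, 0] := by
      ext i j
      have e : (mat (ofBasis b)⁻¹ * (k : M3) * mat (ofBasis b)) i j = b.repr ((k : M3) *ᵥ b j) i := by
        rw [← ofBasis_inv, ← ofBasis_single b j, Matrix.mulVec_mulVec, Matrix.mulVec_mulVec, Matrix.mulVec_single_one,
          Matrix.col_apply, mul_assoc]
      rw [e]
      have h0 : (k : M3) *ᵥ b 0 = b 1 := by simp [hb]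
      have h1 : (k : M3) *ᵥ b 1 = b 2 := by
        rw [hb, hb, Matrix.mulVec_mulVec, ← MulMemClass.coe_mul, ← pow_succ']; rfl
      have h3 : (k : M3) *ᵥ b 2 = w • b 0 := by
        rw [hb, hb, Matrix.mulVec_mulVec, ← MulMemClass.coe_mul, ← pow_succ']
        show ((k ^ 3 : K) : M3) *ᵥ v = w • (((k ^ 0 : K) : M3) *ᵥ v)
        rw [← hw, pow_zero, OneMemClass.coe_one, Matrix.one_mulVec, hι₀, Matrix.smul_mulVec, Matrix.one_mulVec]
      fin_cases j
      · show b.repr ((k : M3) *ᵥ b 0) i = _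
        rw [h0]; fin_cases i <;> simp
      · show b.repr ((k : M3) *ᵥ b 1) i = _
        rw [h1]; fin_cases i <;> simp
      · show b.repr ((k : M3) *ᵥ b 2) i = _
        rw [h3]; fin_cases i <;> simp
    have h1 := congrArg Matrix.det hC
    rw [Matrix.det_mul, Matrix.det_mul, hd, mul_one, ← Matrix.det_mul, mat_inv_mul, Matrix.det_one,
      Matrix.det_fin_three] at h1
    simp at h1
    have h21 : (g : K) ^ 21 = 1 := by
      rw [show (g : K) ^ 21 = k ^ 3 by rw [hk]; exact pow_mul (g : K) 7 3, ← hw, ← h1]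
      exact Subtype.ext (by rw [hι₀, one_smul, OneMemClass.coe_one])
    have h63 := hord ▸ orderOf_dvd_of_pow_eq_one (show g ^ 21 = 1 from Units.ext h21)
    norm_num at h63
  have hker : ∀ k : K, k ≠ 0 → (k : M3).det = 1 → k ^ 21 = 1 := by
    intro k hk0 hd
    let δ : K →* F := Matrix.detMonoidHom.comp (K.val.toMonoidHom)
    have hδ : ∀ x : K, δ x = (x : M3).det := fun _ => rfl
    obtain ⟨m, hm⟩ := (mem_powers_iff_mem_zpowers).2 (hg (Units.mk0 k hk0))
    have hkm : k = (g : K) ^ m := by rw [← Units.val_pow_eq_pow_val]; exact (congrArg Units.val hm).symm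
    have hδ0 : δ (g : K) ≠ 0 := by
      intro e
      have h1 := congrArg δ hg63
      rw [map_pow, e, map_one, zero_pow (by norm_num)] at h1
      exact zero_ne_one h1
    have hδ3 : δ (g : K) ^ 3 = 1 := by
      have h4 := FiniteField.pow_card (δ (g : K))
      rw [hq] at h4
      refine mul_left_cancel₀ hδ0 ?_
      rw [mul_one, ← pow_succ']
      exact h4
    have hδ1 : δ (g : K) ≠ 1 := by
      intro e
      obtain ⟨x, hx0, hx⟩ := hdet
      obtain ⟨n, hn⟩ := (mem_powers_iff_mem_zpowers).2 (hg (Units.mk0 x hx0))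
      refine hx ?_
      rw [← hδ, show x = (g : K) ^ n by rw [← Units.val_pow_eq_pow_val]; exact (congrArg Units.val hn).symm, map_pow, e,
        one_pow]
    have h3 : 3 ∣ m := by
      have h1 : δ (g : K) ^ m = 1 := by rw [← map_pow, ← hkm, hδ, hd]
      rw [← orderOf_eq_prime hδ3 hδ1]
      exact orderOf_dvd_of_pow_eq_one h1
    obtain ⟨m', rfl⟩ := h3
    rw [hkm, ← pow_mul, show 3 * m' * 21 = 63 * m' by ring, pow_mul, hg63, one_pow]
  -- the basis from the field with eight elements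
  set β := (g : K) ^ 9 with hβ
  have hβ8 : β ^ 8 = β := by rw [hβ, ← pow_mul, show 9 * 8 = 63 + 9 by norm_num, pow_add, hg63, one_mul]
  let b := basisOfLinearIndependentOfCardEqFinrank (hindep β (hne16 9 (by decide))) (by simp)
  have hb : ∀ i, b i = ((β ^ (i : ℕ) : K) : M3) *ᵥ v := fun i => by simp [b]
  haveI : CharP K 2 := CharTwo.of_one_ne_zero_of_two_eq_zero one_ne_zero h2K
  have hι8 : ∀ a, a ∈ F₀ → ι₀ a ^ 8 = ι₀ a := fun a ha => Subtype.ext (by
    rw [SubmonoidClass.coe_pow, hι₀, smul_pow, one_pow]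
    rcases hsq a ha with rfl | rfl <;> simp)
  have hcomb : ∀ y : K, y ^ 8 = y → ∀ i, b.repr ((y : M3) *ᵥ v) i ∈ F₀ := by
    intro y hy
    let f : (Fin 3 → F₀) → {z : K // z ^ 8 = z} := fun c => ⟨∑ i, ι₀ (c i).1 * β ^ (i : ℕ), by
      have e : ∀ x : K, x ^ 8 = iterateFrobenius K 2 3 x := fun x => by rw [iterateFrobenius_def]; norm_num
      rw [e, map_sum]
      refine Finset.sum_congr rfl fun i _ => ?_
      rw [← e, mul_pow, hι8 _ (c i).2, ← pow_mul, mul_comm (i : ℕ) 8, pow_mul, hβ8]⟩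
    have hfv : ∀ c, ((f c).1 : M3) *ᵥ v = ∑ i, (c i).1 • b i := fun c => by
      simp only [f, AddSubmonoidClass.coe_finset_sum, Matrix.sum_mulVec]
      refine Finset.sum_congr rfl fun i _ => ?_
      rw [MulMemClass.coe_mul, hι₀, Matrix.smul_mul, one_mul, Matrix.smul_mulVec, hb]
    have hf : Function.Injective f := fun c c' h => by
      funext i
      apply Subtype.ext
      have h1 := congrArg (fun z : {z : K // z ^ 8 = z} => b.repr ((z.1 : M3) *ᵥ v) i) h
      simp only [hfv, b.repr_sum_self] at h1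
      exact h1
    have hsur := hf.bijective_of_nat_card_le (by
      rw [Nat.card_fun, Nat.card_fin, hcard₀]; exact card_fixed_le 8 (by norm_num))
    obtain ⟨c, hc⟩ := hsur.2 ⟨y, hy⟩
    intro i
    rw [show (y : M3) *ᵥ v = ∑ i, (c i).1 • b i by rw [← hfv c, hc], b.repr_sum_self]
    exact (c i).2
  refine ⟨F₀, ofBasis b, by rw [hq, hcard₀]; rfl, fun h hh => ?_⟩
  obtain ⟨hn, hd⟩ := Subgroup.mem_inf.1 hh
  have hd' : (mat h).det = 1 := congrArg Units.val (hd : Matrix.GeneralLinearGroup.det h = 1)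
  let φ : K → K := fun x => ⟨mat h * (x : M3) * mat h⁻¹, (hn x.1).1 x.2⟩
  have hφm : ∀ x y, φ (x * y) = φ x * φ y := fun x y => Subtype.ext (by
    show mat h * ((x : M3) * (y : M3)) * mat h⁻¹ = (mat h * (x : M3) * mat h⁻¹) * (mat h * (y : M3) * mat h⁻¹)
    simp only [← mul_assoc]
    rw [mul_assoc (mat h * (x : M3)) (mat h⁻¹) (mat h), mat_inv_mul, mul_one])
  have hφ1 : φ 1 = 1 := Subtype.ext (by
    show mat h * ((1 : K) : M3) * mat h⁻¹ = ((1 : K) : M3)
    rw [OneMemClass.coe_one, mul_one, mat_mul_inv])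
  have hφp : ∀ (x : K) (n : ℕ), φ (x ^ n) = φ x ^ n := fun x n => by
    induction n with
    | zero => simp [hφ1]
    | succ n ih => rw [pow_succ, hφm, ih, pow_succ]
  obtain ⟨k, hk⟩ : ∃ k : K, mat h *ᵥ v = (k : M3) *ᵥ v := by
    refine ⟨∑ i, ι₀ (b.repr (mat h *ᵥ v) i) * β ^ (i : ℕ), ?_⟩
    simp only [AddSubmonoidClass.coe_finset_sum, Matrix.sum_mulVec, MulMemClass.coe_mul, hι₀, Matrix.smul_mul, one_mul,
      Matrix.smul_mulVec, ← hb]
    exact (b.sum_repr _).symm
  have hcol : ∀ i : Fin 3, mat h *ᵥ b i = ((k * φ β ^ (i : ℕ) : K) : M3) *ᵥ v := by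
    intro i
    rw [hb, ← hφp, mul_comm, MulMemClass.coe_mul, ← Matrix.mulVec_mulVec, ← hk]
    show mat h *ᵥ (((β ^ (i : ℕ) : K) : M3) *ᵥ v) = (mat h * ((β ^ (i : ℕ) : K) : M3) * mat h⁻¹) *ᵥ (mat h *ᵥ v)
    rw [Matrix.mulVec_mulVec, Matrix.mulVec_mulVec, mul_assoc (mat h * _), mat_inv_mul, mul_one]
  have hφ8 : ∀ i : ℕ, (φ β ^ i) ^ 8 = φ β ^ i := fun i => by rw [← pow_mul, mul_comm, pow_mul, ← hφp, hβ8]
  let X : M3 := Matrix.of fun r i => b.repr (((φ β ^ (i : ℕ) : K) : M3) *ᵥ v) r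
  have hXdet : X.det = 0 ∨ X.det = 1 := by
    refine hsq _ ?_
    let X₀ : Matrix (Fin 3) (Fin 3) F₀ := Matrix.of fun r i => ⟨X r i, hcomb _ (hφ8 i) r⟩
    rw [show X = (F₀.subtype : F₀ →+* F).mapMatrix X₀ from rfl, ← RingHom.map_det]
    exact X₀.det.2
  have hPX : ∀ i : Fin 3, (mat (ofBasis b) * X) *ᵥ Pi.single i 1 = ((φ β ^ (i : ℕ) : K) : M3) *ᵥ v := by
    intro i
    rw [← Matrix.mulVec_mulVec, show X *ᵥ Pi.single i 1 = b.repr (((φ β ^ (i : ℕ) : K) : M3) *ᵥ v) by
      rw [Matrix.mulVec_single_one]; rfl, ← ofBasis_inv, mulVec_inv_cancel]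
  have hfac : mat h * mat (ofBasis b) = (k : M3) * (mat (ofBasis b) * X) := by
    refine Matrix.toLin'.injective ((Pi.basisFun F (Fin 3)).ext fun i => ?_)
    rw [Pi.basisFun_apply, Matrix.toLin'_apply, Matrix.toLin'_apply, ← Matrix.mulVec_mulVec, ofBasis_single, hcol,
      ← Matrix.mulVec_mulVec, hPX, MulMemClass.coe_mul, Matrix.mulVec_mulVec]
  have hdk : (k : M3).det = 1 := by
    have h1 := congrArg Matrix.det hfac
    rw [Matrix.det_mul, Matrix.det_mul, Matrix.det_mul, hd', one_mul] at h1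
    have hP0 : (mat (ofBasis b)).det ≠ 0 := ((Matrix.isUnit_iff_isUnit_det _).1 (ofBasis b).isUnit).ne_zero
    rcases hXdet with e | e
    · rw [e, mul_zero, mul_zero] at h1; exact absurd h1 hP0
    · rw [e, mul_one] at h1
      exact mul_right_cancel₀ hP0 (by rw [one_mul]; exact h1.symm)
  have hk21 := hker k (fun e => by rw [e, ZeroMemClass.coe_zero, Matrix.det_zero] at hdk; exact zero_ne_one hdk) hdk
  obtain ⟨a, ha⟩ := hι_surj (k ^ 7) (by
    rw [← pow_mul, show 7 * 4 = 21 + 7 by norm_num, pow_add, hk21, one_mul])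
  have hy8 : ∀ i : ℕ, (k ^ 15 * φ β ^ i) ^ 8 = k ^ 15 * φ β ^ i := fun i => by
    rw [mul_pow, hφ8, ← pow_mul, show 15 * 8 = 21 * 5 + 15 by norm_num, pow_add, pow_mul, hk21, one_pow, one_mul]
  refine mem_subfieldSubgroup (c := a)
    (X := Matrix.of fun r (i : Fin 3) => b.repr (((k ^ 15 * φ β ^ (i : ℕ) : K) : M3) *ᵥ v) r)
    (fun r i => hcomb _ (hy8 i) r) ?_
  ext r i
  have e : mat ((ofBasis b)⁻¹ * h * ofBasis b) r i = b.repr (mat h *ᵥ b i) r := by
    rw [← ofBasis_inv, ← ofBasis_single b i, mulVec_mul, mulVec_mul, Matrix.mulVec_single_one, Matrix.col_apply, mul_assoc]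
  rw [e, hcol, show k * φ β ^ (i : ℕ) = ι₀ a * (k ^ 15 * φ β ^ (i : ℕ)) by
    rw [ha, ← mul_assoc, ← pow_add, show 7 + 15 = 21 + 1 by norm_num, pow_add, hk21, one_mul, pow_one],
    MulMemClass.coe_mul, hι₀, Matrix.smul_mul, one_mul, Matrix.smul_mulVec, map_smul]
  rfl

end Cfsg.Agent.PrimeDim
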