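import Cfsg.Agent.PrimeDim.Tools

/-!
Orthogonal complements, orthogonal bases and rank-one arguments, for forms given by Gram matrices.
-/

set_option autoImplicit false

namespace Cfsg.Agent.PrimeDim

open Matrix Cfsg.Geo
open scoped MatrixGroups

variable {ι : Type} [Fintype ι] [DecidableEq ι] {F : Type*} [Field F]

local notation "M" => Matrix ι ι F

/-- The orthogonal complement. -/
def perpG (σ : F ≃+* F) (G : Matrix ι ι F) (W : Submodule F (ι → F)) : Submodule F (ι → F) where
  carrier := {v | ∀ w ∈ W, formG σ G v w = 0}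
  add_mem' := fun {a b} ha hb w hw => by rw [(isSesq_formG σ G).add_left, ha w hw, hb w hw, add_zero]
  zero_mem' := fun w _ => by simp [formG]
  smul_mem' := fun c a ha w hw => by rw [(isSesq_formG σ G).smul_left, ha w hw, mul_zero]

theorem inv_perp {σ : F ≃+* F} {G : M} {H : Subgroup (GL ι F)} (hH : Fixes σ H G) {W : Submodule F (ι → F)}
    (hW : Inv H W) : Inv H (perpG σ G W) := by
  intro g hg v hv w hw
  have h1 := hv _ (hW _ (inv_mem hg) w hw)
  rw [← hH g hg, ← formG_mulVec, mulVec_inv_cancel] at h1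
  exact h1

theorem nondeg_left {σ : F ≃+* F} {G : M} (hG : G.det ≠ 0) {v : ι → F} (h : ∀ u, formG σ G v u = 0) : v = 0 := by
  by_contra hv
  refine hG (Matrix.exists_vecMul_eq_zero_iff.1 ⟨v, hv, funext fun j => ?_⟩)
  have h1 := h (Pi.single j 1)
  rwa [formG, single_comp, Matrix.dotProduct_mulVec, dotProduct_single, mul_one] at h1

theorem finrank_perp (σ : F ≃+* F) (G : M) (W : Submodule F (ι → F)) :
    Fintype.card ι ≤ Module.finrank F (perpG σ G W) + Module.finrank F W := by
  classical
  let b := Module.finBasis F W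
  let L : (ι → F) →ₗ[F] (Fin (Module.finrank F W) → F) :=
    { toFun := fun v k => formG σ G v (b k).1
      map_add' := fun u v => funext fun k => (isSesq_formG σ G).add_left _ _ _
      map_smul' := fun c v => funext fun k => by
        show formG σ G (c • v) (b k).1 = c * formG σ G v (b k).1
        exact (isSesq_formG σ G).smul_left _ _ _ }
  have hker : LinearMap.ker L ≤ perpG σ G W := by
    intro v hv w hw
    rw [LinearMap.mem_ker] at hv
    have hw' : w = ∑ k, b.repr ⟨w, hw⟩ k • (b k).1 := by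
      have h0 := congrArg Subtype.val (b.sum_repr ⟨w, hw⟩)
      simp only [AddSubmonoidClass.coe_finset_sum, SetLike.val_smul] at h0
      exact h0.symm
    let R : (ι → F) →+ F := AddMonoidHom.mk' (fun x => formG σ G v x) ((isSesq_formG σ G).add_right v)
    show R w = 0
    rw [hw', map_sum]
    refine Finset.sum_eq_zero fun k _ => ?_
    show formG σ G v (_ • (b k).1) = 0
    rw [(isSesq_formG σ G).smul_right, show formG σ G v (b k).1 = 0 from congrFun hv k, mul_zero]
  have h1 := LinearMap.finrank_range_add_finrank_ker L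
  have h2 := Submodule.finrank_le (LinearMap.range L)
  have h3 := Submodule.finrank_mono hker
  rw [Module.finrank_fintype_fun_eq_card] at h1
  rw [Module.finrank_fintype_fun_eq_card, Fintype.card_fin] at h2
  omega

/-- A symmetric or hermitian form. -/
def Reflexive' (σ : F ≃+* F) (G : Matrix ι ι F) : Prop := ∀ u v, formG σ G u v = σ (formG σ G v u)

theorem perp_cases {σ : F ≃+* F} {G : M} (hG : G.det ≠ 0) (hr : Reflexive' σ G) {W : Submodule F (ι → F)}
    (h : W ⊓ perpG σ G W = ⊥) :
    IsNondegenerateOn (formG σ G) W ∧ IsNondegenerateOn (formG σ G) (perpG σ G W) ∧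
      Module.finrank F W + Module.finrank F (perpG σ G W) = Fintype.card ι := by
  have hdim : Module.finrank F W + Module.finrank F (perpG σ G W) = Fintype.card ι := by
    have h1 := Submodule.finrank_sup_add_finrank_inf_eq W (perpG σ G W)
    rw [h, finrank_bot, add_zero] at h1
    have h2 := Submodule.finrank_le (W ⊔ perpG σ G W)
    rw [Module.finrank_fintype_fun_eq_card] at h2
    have := finrank_perp σ G W
    omega
  have htop : W ⊔ perpG σ G W = ⊤ := by
    refine Submodule.eq_top_of_finrank_eq ?_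
    have h1 := Submodule.finrank_sup_add_finrank_inf_eq W (perpG σ G W)
    rw [h, finrank_bot, add_zero, hdim] at h1
    rw [h1, Module.finrank_fintype_fun_eq_card]
  have key : ∀ w : ι → F, ∀ X : Submodule F (ι → F), (∀ x ∈ X, formG σ G w x = 0) →
      ∀ x ∈ X, formG σ G x w = 0 := fun w X hX x hx => by rw [hr, hX x hx, map_zero]
  refine ⟨fun w hw hw0 => ?_, fun w hw hw0 => ?_, hdim⟩
  · have : ∃ x ∈ W, formG σ G w x ≠ 0 := by
      by_contra hcon
      push Not at hcon
      exact hw0 ((Submodule.mem_bot F).1 (h ▸ Submodule.mem_inf.2 ⟨hw, hcon⟩))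
    obtain ⟨x, hx, hne⟩ := this
    exact ⟨⟨x, hx, fun e => hne (by rw [hr, e, map_zero])⟩, ⟨x, hx, hne⟩⟩
  · have : ∃ x ∈ perpG σ G W, formG σ G w x ≠ 0 := by
      by_contra hcon
      push Not at hcon
      refine hw0 (nondeg_left (σ := σ) hG fun u => ?_)
      obtain ⟨a, ha, c, hc, rfl⟩ := Submodule.mem_sup.1 (htop ▸ Submodule.mem_top : u ∈ W ⊔ perpG σ G W)
      rw [(isSesq_formG σ G).add_right, hw a ha, hcon c hc, add_zero]
    obtain ⟨x, hx, hne⟩ := this
    exact ⟨⟨x, hx, fun e => hne (by rw [hr, e, map_zero])⟩, ⟨x, hx, hne⟩⟩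

theorem two_dvd_of_fixfree {α : Type*} [Fintype α] (π : α → α) (h : ∀ a, π (π a) = a) (h' : ∀ a, π a ≠ a) :
    2 ∣ Fintype.card α := by
  have h1 : (∑ _a : α, (1 : ZMod 2)) = 0 :=
    Finset.sum_involution (fun a _ => π a) (fun _ _ => by decide) (fun a _ _ => h' a) (fun a _ => Finset.mem_univ _)
      (fun a _ => h a)
  rw [Finset.sum_const, Finset.card_univ, nsmul_one] at h1
  exact (ZMod.natCast_eq_zero_iff _ 2).1 h1

/-- A monomial irreducible group of isometries in odd degree has an orthogonal basis. -/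
theorem lines_orth {σ : F ≃+* F} {G : M} (hG : G.det ≠ 0) (hr : Reflexive' σ G) (hσ : ∀ a, σ (σ a) = a)
    (hodd : Odd (Fintype.card ι)) {H : Subgroup (GL ι F)} (hH : Irr H) (hfix : Fixes σ H G) (hL : Lines H) :
    ∃ b : Module.Basis ι F (ι → F), (∀ h ∈ H, ∀ i, ∃ (j : ι) (c : F), mat h *ᵥ b i = c • b j) ∧
      (∀ i j, i ≠ j → formG σ G (b i) (b j) = 0) ∧ (∀ i, formG σ G (b i) (b i) ≠ 0) ∧
      ∀ i j, ∃ c : F, c ≠ 0 ∧ formG σ G (b i) (b i) = c * σ c * formG σ G (b j) (b j) := by
  classical
  obtain ⟨N, b, χ, hle, -, hact, hinj, hperm⟩ := hL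
  have hf := isSesq_formG σ G
  have hiso : ∀ g ∈ H, ∀ u v, formG σ G (mat g *ᵥ u) (mat g *ᵥ v) = formG σ G u v := fun g hg u v => by
    rw [formG_mulVec, hfix g hg]
  have huniq : ∀ i j k, formG σ G (b i) (b j) ≠ 0 → formG σ G (b i) (b k) ≠ 0 → j = k := by
    intro i j k hj hk
    refine hinj j k fun g hg => ?_
    have key : ∀ m, formG σ G (b i) (b m) ≠ 0 → χ i g * σ (χ m g) = 1 := by
      intro m hm
      have h1 := hiso g (hle hg) (b i) (b m)
      rw [hact g hg, hact g hg, hf.smul_left, hf.smul_right, ← mul_assoc] at h1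
      exact (mul_left_eq_self₀.1 h1).resolve_right hm
    have h1 := key j hj
    exact σ.injective (mul_left_cancel₀ (left_ne_zero_of_mul_eq_one h1) (h1.trans (key k hk).symm))
  have hex : ∀ i, ∃ j, formG σ G (b i) (b j) ≠ 0 := by
    intro i
    by_contra hcon
    push Not at hcon
    refine b.ne_zero i (nondeg_left (σ := σ) hG fun u => ?_)
    let R : (ι → F) →+ F := AddMonoidHom.mk' (fun x => formG σ G (b i) x) (hf.add_right _)
    show R u = 0
    rw [← b.sum_repr u, map_sum]
    refine Finset.sum_eq_zero fun j _ => ?_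
    show formG σ G (b i) (_ • b j) = 0
    rw [hf.smul_right, hcon, mul_zero]
  choose π hπ using hex
  have hπsymm : ∀ i, π (π i) = i := fun i => huniq _ _ _ (hπ (π i)) (by
    rw [hr]; exact (map_ne_zero σ).2 (hπ i))
  obtain ⟨i₀, hi₀⟩ : ∃ i, π i = i := by
    by_contra hcon
    push Not at hcon
    exact (Nat.not_even_iff_odd.2 hodd) (even_iff_two_dvd.2 (two_dvd_of_fixfree π hπsymm hcon))
  let S : Set ι := {i | formG σ G (b i) (b i) ≠ 0 ∧
    ∃ c : F, c ≠ 0 ∧ formG σ G (b i₀) (b i₀) = c * σ c * formG σ G (b i) (b i)}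
  have hi₀S : i₀ ∈ S := ⟨by have := hπ i₀; rwa [hi₀] at this, 1, one_ne_zero, by rw [map_one, one_mul, one_mul]⟩
  have hmove : ∀ h ∈ H, ∀ i ∈ S, ∀ j (c : F), mat h *ᵥ b i = c • b j → j ∈ S := by
    intro h hh i hi j c hc
    have h1 := hiso h hh (b i) (b i)
    rw [hc, hf.smul_left, hf.smul_right, ← mul_assoc] at h1
    obtain ⟨hne, d, hd0, hd⟩ := hi
    have hc0 : c ≠ 0 := fun e => hne (by rw [← h1, e, zero_mul, zero_mul])
    refine ⟨fun e => hne (by rw [← h1, e, mul_zero]), d * c, mul_ne_zero hd0 hc0, ?_⟩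
    rw [hd, ← h1, map_mul]; ring
  have hall : ∀ i, i ∈ S := by
    intro i
    let W : Submodule F (ι → F) := Submodule.span F (b '' S)
    have hW : Inv H W := by
      intro g hg v hv
      induction hv using Submodule.span_induction with
      | mem x hx =>
        obtain ⟨k, hk, rfl⟩ := hx
        obtain ⟨j, c, hjc⟩ := hperm g hg k
        rw [hjc]
        exact W.smul_mem c (Submodule.subset_span ⟨j, hmove g hg k hk j c hjc, rfl⟩)
      | zero => rw [Matrix.mulVec_zero]; exact zero_mem _
      | add x y _ _ h1 h2 => rw [Matrix.mulVec_add]; exact add_mem h1 h2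
      | smul c x _ h1 => rw [Matrix.mulVec_smul]; exact W.smul_mem _ h1
    rcases hH W hW with e | e
    · exact absurd ((Submodule.mem_bot F).1 (e ▸ Submodule.subset_span ⟨i₀, hi₀S, rfl⟩)) (b.ne_zero i₀)
    · by_contra hi
      exact b.linearIndependent.notMem_span_image hi (show b i ∈ W from e ▸ Submodule.mem_top)
  refine ⟨b, hperm, fun i j hij => ?_, fun i => (hall i).1, fun i j => ?_⟩
  · by_contra hne
    exact hij (huniq i i j (hall i).1 hne)
  · obtain ⟨hne, c, hc0, hc⟩ := hall i
    obtain ⟨hne', d, hd0, hd⟩ := hall j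
    refine ⟨d / c, div_ne_zero hd0 hc0, ?_⟩
    have hσc : σ c ≠ 0 := (map_ne_zero σ).2 hc0
    rw [map_div₀]
    field_simp
    linear_combination hd - hc

/-- An element with rank-one action commutes with an extraspecial group it normalises. -/
theorem commute_of_rank_one {r : ℕ} (hr : r.Prime) (h5 : 5 ≤ r) (hcard : Fintype.card ι = r) {H R : Subgroup (GL ι F)}
    (hR : IsExtra r H R) {t : GL ι F} {v : ι → F} (φ ψ : (ι → F) → F) (ht : ∀ u, mat t *ᵥ u = u + φ u • v)
    (ht' : ∀ u, mat t⁻¹ *ᵥ u = u + ψ u • v) {x : GL ι F} (hx : x ∈ R) (htR : t * x * t⁻¹ ∈ R) : t * x = x * t := by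
  classical
  haveI : Nonempty ι := Fintype.card_pos_iff.1 (hcard ▸ hr.pos)
  set g := t * x * t⁻¹ * x⁻¹ with hg
  have hgR : g ∈ R := mul_mem htR (inv_mem hx)
  have himg : ∀ u, (mat g - 1) *ᵥ u ∈ Submodule.span F ({v, mat x *ᵥ v} : Set (ι → F)) := by
    intro u
    have e : (mat g - 1) *ᵥ u = φ (mat x *ᵥ (mat t⁻¹ *ᵥ (mat x⁻¹ *ᵥ u))) • v +
        ψ (mat x⁻¹ *ᵥ u) • (mat x *ᵥ v) := by
      rw [Matrix.sub_mulVec, Matrix.one_mulVec, hg, ← mulVec_mul, ← mulVec_mul, ← mulVec_mul, ht, ht',
        Matrix.mulVec_add, Matrix.mulVec_smul, mulVec_inv_cancel]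
      abel
    rw [e]
    exact add_mem (Submodule.smul_mem _ _ (Submodule.subset_span (by simp)))
      (Submodule.smul_mem _ _ (Submodule.subset_span (by simp)))
  have hg1 : g = 1 := by
    by_contra hne
    by_cases hgs : g ∈ scalars ι F
    · obtain ⟨c, hc⟩ := (Cfsg.Geo.mem_scalars_iff g).1 hgs
      refine not_isUnit_of_two (by omega) himg (isUnit_of_det ?_)
      rw [mat, hc, ← one_smul F (1 : M), smul_smul, mul_one, ← sub_smul, Matrix.det_smul, Matrix.det_one, mul_one]
      exact pow_ne_zero _ (sub_ne_zero.2 fun e => hne (Units.ext (by rw [hc, e, one_smul, Units.val_one])))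
    · obtain ⟨b, ⟨l, hl, hgl⟩, -⟩ := hR.basis g hgR hgs
      let S := (Finset.univ.filter fun i => l i ≠ 1)
      have hS : r - 1 ≤ S.card := by
        have h1 : (Finset.univ.filter fun i => ¬ l i ≠ 1).card ≤ 1 := Finset.card_le_one.2 fun a ha c hc => by
          simp at ha hc
          exact hl (ha.trans hc.symm)
        have h2 := Finset.card_filter_add_card_filter_not (s := (Finset.univ : Finset ι)) (fun i => l i ≠ 1)
        rw [Finset.card_univ, hcard] at h2
        show r - 1 ≤ (Finset.univ.filter fun i => l i ≠ 1).card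
        omega
      have hsub : Submodule.span F (Set.range fun s : S => b s.1) ≤
          Submodule.span F ({v, mat x *ᵥ v} : Set (ι → F)) := by
        rw [Submodule.span_le]
        rintro _ ⟨s, rfl⟩
        have hs : l s.1 - 1 ≠ 0 := sub_ne_zero.2 (Finset.mem_filter.1 s.2).2
        have h1 := himg ((l s.1 - 1)⁻¹ • b s.1)
        rw [Matrix.mulVec_smul, Matrix.sub_mulVec, Matrix.one_mulVec, hgl, ← one_smul F (b s.1), smul_smul,
          mul_one, ← sub_smul, smul_smul, inv_mul_cancel₀ hs, one_smul] at h1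
        exact h1
      have h1 := Submodule.finrank_mono hsub
      rw [finrank_span_eq_card (R := F) (b := fun s : S => b s.1)
        (b.linearIndependent.comp (fun s : S => s.1) Subtype.val_injective), Fintype.card_coe] at h1
      have h2 := finrank_span_le_card (R := F) ({v, mat x *ᵥ v} : Set (ι → F))
      have h3' : ({v, mat x *ᵥ v} : Set (ι → F)).toFinset.card ≤ 2 := by
        simpa using Finset.card_le_two (a := v) (b := mat x *ᵥ v)
      omega
  rwa [hg, mul_inv_eq_one, mul_inv_eq_iff_eq_mul] at hg1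

end Cfsg.Agent.PrimeDim
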