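import Cfsg.Agent.PrimeDim.Clifford

/-!
A non-scalar normal subgroup of class two gives a normal extraspecial group of order `r ^ 3`.
-/

set_option autoImplicit false

namespace Cfsg.Agent.PrimeDim

open Matrix Cfsg.Geo
open scoped MatrixGroups

variable {ι : Type} [Fintype ι] [DecidableEq ι] {F : Type*} [Field F]

local notation "M" => Matrix ι ι F

/-- Joint eigenvectors with distinct eigenfunctions are independent. -/
theorem linearIndependent_of_eigen {κ α V : Type*} [AddCommGroup V] [Module F V] (T : α → V →ₗ[F] V) (v : κ → V)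
    (χ : κ → α → F) (hv : ∀ k, v k ≠ 0) (h : ∀ k a, T a (v k) = χ k a • v k) (hinj : Function.Injective χ) :
    LinearIndependent F v := by
  classical
  rw [linearIndependent_iff']
  intro s
  induction s using Finset.induction_on with
  | empty => simp
  | @insert k₀ t hk ih =>
    intro g hg
    have h1 : ∀ a, ∀ k ∈ t, g k * (χ k a - χ k₀ a) = 0 := by
      intro a
      refine ih (fun k => g k * (χ k a - χ k₀ a)) ?_
      have h2 := congrArg (T a) hg
      rw [map_zero, map_sum] at h2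
      have h3 := congrArg (χ k₀ a • ·) hg
      simp only [smul_zero, Finset.smul_sum] at h3
      rw [Finset.sum_insert hk] at h2 h3
      simp only [map_smul, h, smul_smul] at h2 h3
      have : ∀ k, (g k * (χ k a - χ k₀ a)) • v k = (g k * χ k a) • v k - (χ k₀ a * g k) • v k := fun k => by
        rw [← sub_smul]; congr 1; ring
      rw [Finset.sum_congr rfl fun k _ => this k, Finset.sum_sub_distrib]
      rw [mul_comm (g k₀) (χ k₀ a)] at h2
      rw [eq_neg_of_add_eq_zero_right h2, eq_neg_of_add_eq_zero_right h3, sub_self]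
    have h2 : ∀ k ∈ t, g k = 0 := by
      intro k hkt
      obtain ⟨a, ha⟩ : ∃ a, χ k a ≠ χ k₀ a := by
        by_contra hcon
        push Not at hcon
        exact hk (hinj (funext hcon) ▸ hkt)
      exact (mul_eq_zero.1 (h1 a k hkt)).resolve_right (sub_ne_zero.2 ha)
    intro k hk'
    rcases Finset.mem_insert.1 hk' with rfl | hkt
    · rw [Finset.sum_insert hk, Finset.sum_eq_zero (fun j hj => by rw [h2 j hj, zero_smul]), add_zero] at hg
      exact (smul_eq_zero.1 hg).resolve_right (hv k)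
    · exact h2 k hkt

theorem comm_of_abs {N : Subgroup (GL ι F)} (hN : ActsAbsolutelyIrreducibly (matrixSet N)) [Nonempty ι] {g : GL ι F}
    (hg : ∀ x ∈ N, g * x = x * g) : g ∈ scalars ι F := by
  obtain ⟨c, hc⟩ := (abs_iff.1 hN).2 (mat g) fun x hx => by
    rw [mat, mat, ← Units.val_mul, hg x hx, Units.val_mul]
  exact mem_scalars_of_smul hc

theorem not_comm_of_abs {N : Subgroup (GL ι F)} (hN : ActsAbsolutelyIrreducibly (matrixSet N)) [Nonempty ι]
    (hns : ¬ N ≤ scalars ι F) : ¬ Comm N := fun hc => hns fun x hx => comm_of_abs hN fun y hy => hc x hx y hy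

theorem scalar_comm {z : GL ι F} (hz : z ∈ scalars ι F) (g : GL ι F) : Commute z g := by
  rw [Cfsg.Geo.mem_scalars_iff] at hz
  obtain ⟨c, hc⟩ := hz
  show z * g = g * z
  ext1
  rw [Units.val_mul, Units.val_mul, hc, Matrix.smul_mul, Matrix.one_mul, Matrix.mul_smul, Matrix.mul_one]

theorem scalar_pow_card {z : GL ι F} (hz : z ∈ scalars ι F) (hd : z ∈ specialLinear ι F) :
    z ^ Fintype.card ι = 1 := by
  rw [Cfsg.Geo.mem_scalars_iff] at hz
  obtain ⟨c, hc⟩ := hz
  have h1 : (c : F) ^ Fintype.card ι = 1 := by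
    have h2 : Matrix.det (z : Matrix ι ι F) = 1 := congrArg Units.val (hd : Matrix.GeneralLinearGroup.det z = 1)
    rwa [hc, Matrix.det_smul, Matrix.det_one, mul_one] at h2
  ext1
  rw [Units.val_pow_eq_pow_val, hc, smul_pow, one_pow, h1, one_smul, Units.val_one]

/-- The data of a normal extraspecial group. -/
structure IsExtra (r : ℕ) (H R : Subgroup (GL ι F)) : Prop where
  le : R ≤ H
  normalised : Normalised H R
  nonscalar : ¬ R ≤ scalars ι F
  abs : ActsAbsolutelyIrreducibly (matrixSet R)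
  symp : IsSymplecticTypeGroup r R
  card : Nat.card R = r ^ 3
  card_center : Nat.card (Subgroup.center R) = r
  root : ∃ ζ : F, IsPrimitiveRoot ζ r ∧ ∃ z ∈ R, mat z = ζ • (1 : Matrix ι ι F)
  basis : ∀ a ∈ R, a ∉ scalars ι F → ∃ b : Module.Basis ι F (ι → F),
    (∃ l : ι → F, Function.Injective l ∧ ∀ i, mat a *ᵥ b i = l i • b i) ∧
    ∀ x ∈ R, ∀ i, ∃ (j : ι) (c : F), c ^ r = 1 ∧ mat x *ᵥ b i = c • b j

section

variable [Finite F] {H N : Subgroup (GL ι F)}

theorem mat_pow_mulVec {g : GL ι F} {v : ι → F} {c : F} (h : mat g *ᵥ v = c • v) (n : ℕ) :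
    mat (g ^ n) *ᵥ v = c ^ n • v := by
  induction n with
  | zero => simp [mat]
  | succ n ih => rw [pow_succ', ← mulVec_mul, ih, Matrix.mulVec_smul, h, smul_smul, pow_succ, mul_comm]

/-- A non-scalar normal subgroup with scalar commutators gives an extraspecial normal subgroup. -/
theorem exists_extra {r : ℕ} (hr : r.Prime) (hr2 : r ≠ 2) (hcard : Fintype.card ι = r) (hSL : H ≤ specialLinear ι F)
    (hgood : Good H) (hle : N ≤ H) (hn : Normalised H N) (hns : ¬ N ≤ scalars ι F)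
    (hcomm : ∀ x ∈ N, ∀ y ∈ N, x * y * x⁻¹ * y⁻¹ ∈ scalars ι F) : ∃ R, IsExtra r H R := by
  classical
  haveI : Nonempty ι := Fintype.card_pos_iff.1 (hcard ▸ hr.pos)
  haveI : Finite (GL ι F) := inferInstance
  haveI := Fact.mk hr
  have hNabs := hgood N hle hn hns
  have hscal : ∀ z ∈ scalars ι F, z ∈ N → z ^ r = 1 := fun z hz hzN =>
    hcard ▸ scalar_pow_card hz (hSL (hle hzN))
  have hz_mem : ∀ x ∈ N, ∀ y ∈ N, x * y * x⁻¹ * y⁻¹ ∈ N := fun x hx y hy =>
    mul_mem (mul_mem (mul_mem hx hy) (inv_mem hx)) (inv_mem hy)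
  have hpow_comm : ∀ x ∈ N, ∀ y ∈ N, x ^ r * y = y * x ^ r := by
    intro x hx y hy
    set z := y * x * y⁻¹ * x⁻¹ with hz
    have hzs : z ∈ scalars ι F := hcomm y hy x hx
    have hzr : z ^ r = 1 := hscal z hzs (hz_mem y hy x hx)
    have h1 : y * x ^ r * y⁻¹ = x ^ r := by
      rw [← conj_pow, show y * x * y⁻¹ = z * x by rw [hz]; group, (scalar_comm hzs x).mul_pow, hzr, one_mul]
    calc x ^ r * y = y * x ^ r * y⁻¹ * y := by rw [h1]
      _ = y * x ^ r := by rw [inv_mul_cancel_right]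
  have hpow_scal : ∀ x ∈ N, x ^ r ∈ scalars ι F := fun x hx => comm_of_abs hNabs fun y hy => hpow_comm x hx y hy
  have hpow_mul : ∀ x ∈ N, ∀ y ∈ N, (x * y) ^ r = x ^ r * y ^ r := by
    intro x hx y hy
    set z := y * x * y⁻¹ * x⁻¹ with hz
    have hzs : z ∈ scalars ι F := hcomm y hy x hx
    have hzr : z ^ r = 1 := hscal z hzs (hz_mem y hy x hx)
    have h1 : ∀ n : ℕ, y * x ^ n = z ^ n * x ^ n * y := fun n => by
      have : y * x ^ n * y⁻¹ = z ^ n * x ^ n := by
        rw [← conj_pow, show y * x * y⁻¹ = z * x by rw [hz]; group, (scalar_comm hzs x).mul_pow]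
      rw [← this, inv_mul_cancel_right]
    have hc : ∀ (m : ℕ) (g : GL ι F), g * z ^ m = z ^ m * g := fun m g =>
      ((scalar_comm hzs g).pow_left m).eq.symm
    have hy' : ∀ n : ℕ, y ^ n * x = z ^ n * x * y ^ n := by
      intro n
      induction n with
      | zero => simp
      | succ n ih =>
        rw [pow_succ', mul_assoc, ih]
        calc y * (z ^ n * x * y ^ n) = z ^ n * (y * x ^ 1) * y ^ n := by
              rw [pow_one, ← mul_assoc, ← mul_assoc, hc n y, mul_assoc (z ^ n) y x]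
          _ = z ^ (n + 1) * x * (y * y ^ n) := by rw [h1 1, pow_one, pow_one, pow_succ]; simp only [mul_assoc]
          _ = _ := by rw [← pow_succ']
    have h2 : ∀ n : ℕ, (x * y) ^ n = z ^ (n * (n - 1) / 2) * (x ^ n * y ^ n) := by
      intro n
      induction n with
      | zero => simp
      | succ n ih =>
        have e : (n + 1) * (n + 1 - 1) / 2 = n * (n - 1) / 2 + n := by
          rw [← Finset.sum_range_id, ← Finset.sum_range_id, Finset.sum_range_succ]
        rw [pow_succ, ih, e, pow_add]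
        calc z ^ (n * (n - 1) / 2) * (x ^ n * y ^ n) * (x * y)
            = z ^ (n * (n - 1) / 2) * (x ^ n * (y ^ n * x) * y) := by simp only [mul_assoc]
          _ = z ^ (n * (n - 1) / 2) * (z ^ n * (x ^ n * x * (y ^ n * y))) := by
              rw [hy' n, show x ^ n * (z ^ n * x * y ^ n) = z ^ n * (x ^ n * x * y ^ n) by
                rw [← mul_assoc, ← mul_assoc, hc n (x ^ n)]; simp only [mul_assoc]]
              simp only [mul_assoc]
          _ = _ := by rw [← pow_succ, ← pow_succ, mul_assoc]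
    rw [h2 r]
    obtain ⟨k, hk⟩ := hr.odd_of_ne_two hr2
    have e : r * (r - 1) / 2 = r * k := by
      rw [hk, Nat.add_sub_cancel, show (2 * k + 1) * (2 * k) = 2 * ((2 * k + 1) * k) by ring,
        Nat.mul_div_cancel_left _ two_pos]
    rw [e, pow_mul, hzr, one_pow, one_mul]
  let R : Subgroup (GL ι F) :=
    { carrier := {x | x ∈ N ∧ x ^ r = 1}
      mul_mem' := fun {a b} ha hb => ⟨mul_mem ha.1 hb.1, by rw [hpow_mul a ha.1 b hb.1, ha.2, hb.2, one_mul]⟩
      one_mem' := ⟨one_mem _, one_pow r⟩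
      inv_mem' := fun {a} ha => ⟨inv_mem ha.1, by rw [inv_pow, ha.2, inv_one]⟩ }
  have hRN : R ≤ N := fun x hx => hx.1
  have hRn : Normalised H R := fun h hh x hx => ⟨hn h hh x hx.1, by rw [conj_pow, hx.2, mul_one, mul_inv_cancel]⟩
  have hRns : ¬ R ≤ scalars ι F := by
    intro hR
    refine not_comm_of_abs hNabs hns fun x hx y hy => ?_
    by_cases hx1 : x ^ r = 1
    · exact scalar_comm (hR ⟨hx, hx1⟩) y
    obtain ⟨c, hc⟩ := (Cfsg.Geo.mem_scalars_iff _).1 (hpow_scal x hx)
    obtain ⟨d, hd⟩ := (Cfsg.Geo.mem_scalars_iff _).1 (hpow_scal y hy)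
    have hroot : ∀ {g : GL ι F} {e : Fˣ}, (g : Matrix ι ι F) = (e : F) • (1 : M) → g ^ r = 1 → (e : F) ^ r = 1 := by
      intro g e hg hgr
      obtain ⟨i⟩ := (inferInstance : Nonempty ι)
      have h1 := congrArg (fun m : GL ι F => (m : M) i i) hgr
      simpa [Units.val_pow_eq_pow_val, hg, smul_pow] using h1
    have hc1 : (c : F) ^ r = 1 := hroot hc (hscal _ (hpow_scal x hx) (pow_mem hx r))
    have hd1 : (d : F) ^ r = 1 := hroot hd (hscal _ (hpow_scal y hy) (pow_mem hy r))
    have hprim : IsPrimitiveRoot (c : F) r := by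
      refine IsPrimitiveRoot.iff_orderOf.2 (orderOf_eq_prime hc1 fun e => hx1 ?_)
      ext1; rw [hc, e, one_smul, Units.val_one]
    obtain ⟨k, -, hk⟩ := hprim.eq_pow_of_pow_eq_one hd1
    have hmem : y * x⁻¹ ^ k ∈ R := by
      refine ⟨mul_mem hy (pow_mem (inv_mem hx) k), ?_⟩
      rw [hpow_mul y hy _ (pow_mem (inv_mem hx) k), ← pow_mul, mul_comm k r, pow_mul, inv_pow, inv_pow, mul_inv_eq_one]
      ext1
      rw [Units.val_pow_eq_pow_val (x ^ r), hc, smul_pow, one_pow, hk, hd]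
    have hxy : y = y * x⁻¹ ^ k * x ^ k := by rw [inv_pow, inv_mul_cancel_right]
    rw [hxy]
    exact ((scalar_comm (hR hmem) x).symm.mul_right (Commute.self_pow x k)).eq
  have hRabs := hgood R (hRN.trans hle) hRn hRns
  have hRnc := not_comm_of_abs hRabs hRns
  obtain ⟨ζ, z, hzR, hzmat, hzprim⟩ : ∃ (ζ : F) (z : GL ι F), z ∈ R ∧ mat z = ζ • (1 : M) ∧ IsPrimitiveRoot ζ r := by
    unfold Comm at hRnc
    push Not at hRnc
    obtain ⟨x, hx, y, hy, hxy⟩ := hRnc
    obtain ⟨c, hc⟩ := (Cfsg.Geo.mem_scalars_iff _).1 (hcomm x (hRN hx) y (hRN hy))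
    have hmem : x * y * x⁻¹ * y⁻¹ ∈ R := mul_mem (mul_mem (mul_mem hx hy) (inv_mem hx)) (inv_mem hy)
    refine ⟨c, _, hmem, hc, IsPrimitiveRoot.iff_orderOf.2 (orderOf_eq_prime ?_ fun e => hxy ?_)⟩
    · obtain ⟨i⟩ := (inferInstance : Nonempty ι)
      have h1 := congrArg (fun m : GL ι F => (m : M) i i) hmem.2
      simpa [Units.val_pow_eq_pow_val, hc, smul_pow] using h1
    · have : x * y * x⁻¹ * y⁻¹ = 1 := by ext1; rw [hc, e, one_smul, Units.val_one]
      rwa [mul_inv_eq_one, mul_inv_eq_iff_eq_mul] at this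
  have hzs : z ∈ scalars ι F := mem_scalars_of_smul hzmat
  have hzpow : ∀ k : ℕ, mat (z ^ k) = ζ ^ k • (1 : M) := fun k => by
    rw [mat, Units.val_pow_eq_pow_val, show (z : M) = ζ • (1 : M) from hzmat, smul_pow, one_pow]
  have hscalR : ∀ x, x ∈ R → (x ∈ scalars ι F ↔ x ∈ Subgroup.zpowers z) := by
    intro x hx
    refine ⟨fun hxs => ?_, fun h => (Subgroup.zpowers_le.2 hzs) h⟩
    obtain ⟨c, hc⟩ := (Cfsg.Geo.mem_scalars_iff _).1 hxs
    obtain ⟨i⟩ := (inferInstance : Nonempty ι)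
    have h1 := congrArg (fun m : GL ι F => (m : M) i i) hx.2
    obtain ⟨k, -, hk⟩ := hzprim.eq_pow_of_pow_eq_one (ξ := (c : F)) (by simpa [Units.val_pow_eq_pow_val, hc, smul_pow] using h1)
    refine ⟨k, Units.ext ?_⟩
    show ((z ^ (k : ℤ) : GL ι F) : M) = _
    rw [zpow_natCast, hc, ← hk]
    exact hzpow k
  have hordz : orderOf z = r := by
    refine orderOf_eq_prime hzR.2 fun e => hzprim.ne_one hr.one_lt ?_
    obtain ⟨i⟩ := (inferInstance : Nonempty ι)
    have h1 : mat z i i = 1 := by simp [e, mat]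
    simpa [hzmat] using h1
  have hcenter : (Subgroup.center R).map R.subtype = Subgroup.zpowers z := by
    ext x
    constructor
    · rintro ⟨⟨x, hx⟩, hxc, rfl⟩
      refine (hscalR x hx).1 (comm_of_abs hRabs fun y hy => ?_)
      exact congrArg Subtype.val (Subgroup.mem_center_iff.1 hxc ⟨y, hy⟩).symm
    · intro hx
      have hxR : x ∈ R := (Subgroup.zpowers_le.2 hzR) hx
      exact ⟨⟨x, hxR⟩, Subgroup.mem_center_iff.2 fun y => Subtype.ext (scalar_comm ((hscalR x hxR).2 hx) y.1).symm, rfl⟩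
  have hcc : Nat.card (Subgroup.center R) = r := by
    rw [Nat.card_congr ((Subgroup.center R).equivMapOfInjective _ R.subtype_injective).toEquiv, hcenter,
      Nat.card_zpowers, hordz]
  have hpg : IsPGroup r R := fun x => ⟨1, Subtype.ext (by rw [pow_one]; exact x.2.2)⟩
  haveI : Finite R := inferInstance
  -- the quotient by the centre has order `r ^ 2`
  have hquot : Nat.card (R ⧸ Subgroup.center R) = r ^ 2 := by
    obtain ⟨k, hk⟩ := IsPGroup.iff_card.1 (hpg.to_quotient (Subgroup.center R))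
    haveI : Fintype (R ⧸ Subgroup.center R) := Fintype.ofFinite _
    let v : R ⧸ Subgroup.center R → M := fun x => mat (Quotient.out x : R).1
    let T : R → M →ₗ[F] M := fun y =>
      (LinearMap.mulRight F (mat (y.1)⁻¹)).comp (LinearMap.mulLeft F (mat y.1))
    have hT : ∀ x : R ⧸ Subgroup.center R, ∀ y : R, ∃ c : F,
        T y (v x) = c • v x ∧ y.1 * (Quotient.out x : R).1 * y.1⁻¹ * ((Quotient.out x : R).1)⁻¹ ∈ scalars ι F ∧
        (c = 1 → y * Quotient.out x = Quotient.out x * y) := by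
      intro x y
      set w := (Quotient.out x : R)
      have hzz := hcomm y.1 (hRN y.2) w.1 (hRN w.2)
      obtain ⟨c, hc⟩ := (Cfsg.Geo.mem_scalars_iff _).1 hzz
      refine ⟨c, ?_, hzz, fun e => Subtype.ext ?_⟩
      · show mat y.1 * mat w.1 * mat (y.1)⁻¹ = (c : F) • mat w.1
        rw [show mat y.1 * mat w.1 * mat (y.1)⁻¹ = mat ((y.1 * w.1 * y.1⁻¹ * w.1⁻¹) * w.1) by
          rw [inv_mul_cancel_right]; simp [mat]]
        rw [mat, Units.val_mul, hc, Matrix.smul_mul, Matrix.one_mul]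
      · have h1 : y.1 * w.1 * y.1⁻¹ * w.1⁻¹ = 1 := by ext1; rw [hc, e, one_smul, Units.val_one]
        rwa [mul_inv_eq_one, mul_inv_eq_iff_eq_mul] at h1
    choose c hc1 hc2 hc3 using hT
    have hv : ∀ x, v x ≠ 0 := fun x => Units.ne_zero _
    have hinj : Function.Injective c := by
      intro x x' hxx
      rw [← Quotient.out_eq' x, ← Quotient.out_eq' x', QuotientGroup.eq]
      set w := (Quotient.out x : R)
      set w' := (Quotient.out x' : R)
      refine Subgroup.mem_center_iff.2 fun y => ?_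
      have h1 : ∀ y : R, T y (mat w.1) = c x y • mat w.1 := fun y => hc1 x y
      have h2 : ∀ y : R, T y (mat w'.1) = c x y • mat w'.1 := fun y => hxx ▸ hc1 x' y
      have e1 : mat y.1 * mat w.1 * mat (y.1)⁻¹ = c x y • mat w.1 := h1 y
      have e2 : mat y.1 * mat w'.1 * mat (y.1)⁻¹ = c x y • mat w'.1 := h2 y
      have hcne : c x y ≠ 0 := by
        intro e
        rw [e, zero_smul] at e1
        have : mat (y.1 * w.1 * y.1⁻¹) = 0 := by rw [mat, Units.val_mul, Units.val_mul]; exact e1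
        exact Units.ne_zero _ this
      have e3 : mat y.1 * mat (w.1)⁻¹ * mat (y.1)⁻¹ = (c x y)⁻¹ • mat (w.1)⁻¹ := by
        have h3 : (mat y.1 * mat w.1 * mat (y.1)⁻¹) * (mat y.1 * mat (w.1)⁻¹ * mat (y.1)⁻¹) = 1 := by
          simp only [mul_assoc]
          rw [← mul_assoc (mat (y.1)⁻¹) (mat y.1), mat_inv_mul, one_mul, ← mul_assoc (mat w.1), mat_mul_inv, one_mul,
            mat_mul_inv]
        rw [e1, Matrix.smul_mul] at h3
        have h4 := congrArg (fun X => mat (w.1)⁻¹ * ((c x y)⁻¹ • X)) h3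
        simp only [smul_smul, inv_mul_cancel₀ hcne, one_smul, ← mul_assoc, mat_inv_mul, one_mul] at h4
        rw [h4, Matrix.mul_smul, mul_one]
      apply Subtype.ext
      show y.1 * (w.1⁻¹ * w'.1) = w.1⁻¹ * w'.1 * y.1
      rw [← mul_inv_eq_iff_eq_mul]
      ext1
      show mat (y.1 * (w.1⁻¹ * w'.1) * (y.1)⁻¹) = mat (w.1⁻¹ * w'.1)
      rw [show y.1 * (w.1⁻¹ * w'.1) * (y.1)⁻¹ = (y.1 * w.1⁻¹ * (y.1)⁻¹) * (y.1 * w'.1 * (y.1)⁻¹) by group]
      simp only [mat, Units.val_mul] at e2 e3 ⊢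
      rw [e3, e2, Matrix.smul_mul, Matrix.mul_smul, smul_smul, inv_mul_cancel₀ hcne, one_smul]
    have hli := linearIndependent_of_eigen T v c hv hc1 hinj
    have hle2 := hli.fintype_card_le_finrank
    rw [Module.finrank_matrix, Module.finrank_self, mul_one, hcard, ← Nat.card_eq_fintype_card, hk] at hle2
    have hk2 : k ≤ 2 := (Nat.pow_le_pow_iff_right hr.one_lt).1 (by rw [pow_two]; exact hle2)
    have hnotcyc : ¬ IsCyclic (R ⧸ Subgroup.center R) := fun hcyc => hRnc fun x hx y hy =>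
      congrArg Subtype.val (commutative_of_cyclic_center_quotient (QuotientGroup.mk' (Subgroup.center R))
        (by simp) (⟨x, hx⟩ : R) ⟨y, hy⟩)
    interval_cases k
    · exact absurd (by
        haveI : Subsingleton (R ⧸ Subgroup.center R) := (Nat.card_eq_one_iff_unique.1 (by rw [hk, pow_zero])).1
        infer_instance) hnotcyc
    · exact absurd (isCyclic_of_prime_card (p := r) (by rw [hk, pow_one])) hnotcyc
    · exact hk
  have hR3 : Nat.card R = r ^ 3 := by
    rw [Subgroup.card_eq_card_quotient_mul_card_subgroup (Subgroup.center R), hquot, hcc]; ring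
  have hexp : Monoid.exponent R = r * Nat.gcd 2 r := by
    rw [(Nat.coprime_primes Nat.prime_two hr).2 (Ne.symm hr2), mul_one]
    refine (hr.eq_one_or_self_of_dvd _ (Monoid.exponent_dvd_of_forall_pow_eq_one fun x => Subtype.ext x.2.2)).resolve_left ?_
    intro e
    haveI := Monoid.exp_eq_one_iff.1 e
    exact absurd (by rw [Nat.card_of_subsingleton (1 : R)] at hR3; exact hR3) (Nat.one_lt_pow (by norm_num) hr.one_lt).ne
  refine ⟨R, hRN.trans hle, hRn, hRns, hRabs, ⟨hr, hpg, fun A hA hAc => ?_, hexp⟩, hR3, hcc, ⟨ζ, hzprim, z, hzR, hzmat⟩,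
    fun a ha has => ?_⟩
  · -- characteristic abelian subgroups
    let A' := A.map R.subtype
    have hA'n : Normalised H A' := by
      rintro h hh _ ⟨⟨x, hxR⟩, hxA, rfl⟩
      let φ : R ≃* R :=
        { toFun := fun y => ⟨h * y.1 * h⁻¹, hRn h hh y.1 y.2⟩
          invFun := fun y => ⟨h⁻¹ * y.1 * h, hRn.conj' hh y.2⟩
          left_inv := fun y => Subtype.ext (by group)
          right_inv := fun y => Subtype.ext (by group)
          map_mul' := fun y y' => Subtype.ext (by simp [mul_assoc]) }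
      refine ⟨φ ⟨x, hxR⟩, ?_, rfl⟩
      have := hA.fixed φ
      rw [← this] at hxA
      exact hxA
    have hA'le : A' ≤ scalars ι F := by
      by_contra hcon
      refine not_comm_of_abs (hgood A' ((Subgroup.map_subtype_le A).trans (hRN.trans hle)) hA'n hcon) hcon ?_
      rintro _ ⟨x, hx, rfl⟩ _ ⟨y, hy, rfl⟩
      exact congrArg (fun w : A => (w.1 : GL ι F)) (hAc.is_comm.comm ⟨x, hx⟩ ⟨y, hy⟩)
    have hA'z : A' ≤ Subgroup.zpowers z := fun x hx =>
      (hscalR x (Subgroup.map_subtype_le A hx)).1 (hA'le hx)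
    haveI : IsCyclic A' := Subgroup.isCyclic_of_le hA'z
    exact isCyclic_of_surjective (A.equivMapOfInjective _ R.subtype_injective).symm.toMonoidHom
      (A.equivMapOfInjective _ R.subtype_injective).symm.surjective
  -- a basis
  obtain ⟨t, ht, hta⟩ : ∃ t ∈ R, t * a ≠ a * t := by
    by_contra hcon
    push Not at hcon
    exact has (comm_of_abs hRabs fun x hx => (hcon x hx).symm)
  obtain ⟨ω, hω⟩ := (Cfsg.Geo.mem_scalars_iff _).1 (hcomm t (hRN ht) a (hRN ha))
  have hωmem : t * a * t⁻¹ * a⁻¹ ∈ R := mul_mem (mul_mem (mul_mem ht ha) (inv_mem ht)) (inv_mem ha)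
  obtain ⟨i₀⟩ := (inferInstance : Nonempty ι)
  have hωprim : IsPrimitiveRoot (ω : F) r := by
    refine IsPrimitiveRoot.iff_orderOf.2 (orderOf_eq_prime ?_ fun e => hta ?_)
    · have h1 := congrArg (fun m : GL ι F => (m : M) i₀ i₀) hωmem.2
      simpa [Units.val_pow_eq_pow_val, hω, smul_pow] using h1
    · have : t * a * t⁻¹ * a⁻¹ = 1 := by ext1; rw [hω, e, one_smul, Units.val_one]
      rwa [mul_inv_eq_one, mul_inv_eq_iff_eq_mul] at this
  have hrF : (r : F) ≠ 0 := (hzprim.neZero' (R := F) (n := r)).out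
  -- an eigenvector of `a`
  obtain ⟨v, hv0, lam, hlamr, hlam⟩ : ∃ v : ι → F, v ≠ 0 ∧ ∃ lam : F, lam ^ r = 1 ∧ mat a *ᵥ v = lam • v := by
    let v0 : ι → F := Pi.single i₀ 1
    let w : ℕ → (ι → F) := fun k => ∑ j ∈ Finset.range r, (ζ ^ k) ^ j • (mat (a ^ j) *ᵥ v0)
    have hw : ∀ k, mat a *ᵥ w k = (ζ ^ k)⁻¹ • w k := by
      intro k
      have hζk : ζ ^ k ≠ 0 := pow_ne_zero _ (hzprim.ne_zero hr.ne_zero)
      rw [Matrix.mulVec_sum, Finset.smul_sum]
      have hs : ∀ j ∈ Finset.range r, mat a *ᵥ ((ζ ^ k) ^ j • (mat (a ^ j) *ᵥ v0)) =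
          (ζ ^ k)⁻¹ • ((ζ ^ k) ^ (j + 1) • (mat (a ^ (j + 1)) *ᵥ v0)) := fun j _ => by
        rw [Matrix.mulVec_smul, mulVec_mul, ← pow_succ', smul_smul, pow_succ' (ζ ^ k) j, inv_mul_cancel_left₀ hζk]
      rw [Finset.sum_congr rfl hs]
      have h1 := Finset.sum_range_succ' (fun j => (ζ ^ k)⁻¹ • ((ζ ^ k) ^ j • (mat (a ^ j) *ᵥ v0))) r
      have h2 := Finset.sum_range_succ (fun j => (ζ ^ k)⁻¹ • ((ζ ^ k) ^ j • (mat (a ^ j) *ᵥ v0))) r
      rw [h1] at h2
      have e : (ζ ^ k) ^ r = 1 := by rw [← pow_mul, mul_comm, pow_mul, hzprim.pow_eq_one, one_pow]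
      rw [e, ha.2, ← pow_zero (ζ ^ k), ← pow_zero a] at h2
      exact add_right_cancel h2
    have hsum : ∑ k ∈ Finset.range r, w k = (r : F) • v0 := by
      simp only [w]
      rw [Finset.sum_comm, Finset.sum_eq_single 0]
      · simp [mat, Nat.cast_smul_eq_nsmul]
      · intro j hj hj0
        rw [← Finset.sum_smul]
        have : ∑ k ∈ Finset.range r, (ζ ^ k) ^ j = 0 := by
          rw [Finset.sum_congr rfl fun k _ => show (ζ ^ k) ^ j = (ζ ^ j) ^ k by rw [← pow_mul, ← pow_mul, mul_comm]]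
          have h1 : ζ ^ j ≠ 1 := hzprim.pow_ne_one_of_pos_of_lt hj0 (Finset.mem_range.1 hj)
          rw [geom_sum_eq h1, ← pow_mul, mul_comm, pow_mul, hzprim.pow_eq_one, one_pow, sub_self, zero_div]
        rw [this, zero_smul]
      · simp [hr.ne_zero]
    obtain ⟨k, -, hk⟩ : ∃ k ∈ Finset.range r, w k ≠ 0 := by
      refine Finset.exists_ne_zero_of_sum_ne_zero ?_
      rw [hsum]
      exact smul_ne_zero hrF (by simp [v0])
    exact ⟨w k, hk, _, by rw [inv_pow, ← pow_mul, mul_comm, pow_mul, hzprim.pow_eq_one, one_pow, inv_one], hw k⟩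
  let u : Fin r → (ι → F) := fun j => mat (t ^ (j : ℕ)) *ᵥ v
  have hau : ∀ j : ℕ, mat a *ᵥ (mat (t ^ j) *ᵥ v) = ((ω : F)⁻¹ ^ j * lam) • (mat (t ^ j) *ᵥ v) := by
    intro j
    induction j with
    | zero => simpa [mat] using hlam
    | succ n ih =>
      have e : a * t = (t * a * t⁻¹ * a⁻¹)⁻¹ * (t * a) := by group
      rw [pow_succ', ← mulVec_mul t, mulVec_mul a t, e, ← mulVec_mul, ← mulVec_mul, ih]
      have hinv : mat (t * a * t⁻¹ * a⁻¹)⁻¹ = (ω : F)⁻¹ • (1 : M) := by
        have h1 := mat_inv_mul (t * a * t⁻¹ * a⁻¹)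
        simp only [mat] at h1 ⊢
        rw [hω, Matrix.mul_smul, mul_one] at h1
        rw [← h1, smul_smul, inv_mul_cancel₀ ω.ne_zero, one_smul]
      rw [hinv, smul_one_mulVec, Matrix.mulVec_smul, smul_smul]
      congr 1
      rw [pow_succ']; ring
  have hu0 : ∀ j, u j ≠ 0 := fun j e => hv0 (mulVec_injective (t ^ (j : ℕ)) (e.trans (Matrix.mulVec_zero _).symm))
  have hlam0 : lam ≠ 0 := fun e => by rw [e, zero_pow hr.ne_zero] at hlamr; exact zero_ne_one hlamr
  have hval_inj : Function.Injective fun j : Fin r => (ω : F)⁻¹ ^ (j : ℕ) * lam := by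
    intro j j' h
    exact Fin.ext (hωprim.inv.pow_inj j.2 j'.2 (mul_right_cancel₀ hlam0 h))
  have hli : LinearIndependent F u :=
    linearIndependent_of_eigen (fun _ : Unit => Matrix.toLin' (mat a)) u (fun j _ => (ω : F)⁻¹ ^ (j : ℕ) * lam) hu0
      (fun j _ => by rw [Matrix.toLin'_apply]; exact hau j) fun j j' h => hval_inj (congrFun h ())
  haveI : Nonempty (Fin r) := ⟨⟨0, hr.pos⟩⟩
  let b₀ := basisOfLinearIndependentOfCardEqFinrank hli (by rw [Module.finrank_fintype_fun_eq_card, Fintype.card_fin, hcard])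
  let e : Fin r ≃ ι := Fintype.equivOfCardEq (by rw [Fintype.card_fin, hcard])
  have hb₀ : ∀ j, b₀ j = u j := fun j => by simp [b₀]
  refine ⟨b₀.reindex e, ⟨fun i => (ω : F)⁻¹ ^ ((e.symm i : Fin r) : ℕ) * lam, fun i i' h => e.symm.injective (hval_inj h),
    fun i => by rw [Module.Basis.reindex_apply, hb₀]; exact hau _⟩, ?_⟩
  -- monomiality
  have htr : t ^ r = 1 := ht.2
  let S : GL ι F → Prop := fun x => ∀ j : Fin r, ∃ (j' : Fin r) (c : F), c ^ r = 1 ∧ mat x *ᵥ u j = c • u j'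
  have hSmul : ∀ x y, S x → S y → S (x * y) := by
    intro x y hx hy j
    obtain ⟨j', c, hc, h1⟩ := hy j
    obtain ⟨j'', c', hc', h2⟩ := hx j'
    exact ⟨j'', c * c', by rw [mul_pow, hc, hc', one_mul], by rw [← mulVec_mul, h1, Matrix.mulVec_smul, h2, smul_smul]⟩
  have hS1 : S 1 := fun j => ⟨j, 1, one_pow r, by simp [mat]⟩
  have hSt : S t := by
    intro j
    refine ⟨⟨((j : ℕ) + 1) % r, Nat.mod_lt _ hr.pos⟩, 1, one_pow r, ?_⟩
    show mat t *ᵥ (mat (t ^ (j : ℕ)) *ᵥ v) = (1 : F) • (mat (t ^ (((j : ℕ) + 1) % r)) *ᵥ v)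
    rw [one_smul, mulVec_mul, ← pow_succ']
    congr 2
    conv_lhs => rw [← Nat.mod_add_div ((j : ℕ) + 1) r, pow_add, pow_mul, htr, one_pow, mul_one]
  have hSa : S a := fun j => ⟨j, (ω : F)⁻¹ ^ (j : ℕ) * lam, by
    rw [mul_pow, hlamr, mul_one, ← pow_mul, mul_comm, pow_mul, hωprim.inv.pow_eq_one, one_pow], hau j⟩
  have hKR : Subgroup.closure {a, t} ≤ R := by
    rw [Subgroup.closure_le]
    rintro x (rfl | rfl)
    · exact ha
    · exact ht
  have hKeq : Subgroup.closure {a, t} = R := by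
    refine le_antisymm hKR ?_
    by_contra hcon
    haveI : Finite (Subgroup.closure {a, t} : Subgroup (GL ι F)) := inferInstance
    have hdvd := Subgroup.card_dvd_of_le hKR
    rw [hR3, Nat.dvd_prime_pow hr] at hdvd
    obtain ⟨k, hk3, hk⟩ := hdvd
    have hk2 : k ≤ 2 := by
      by_contra h3
      have : k = 3 := by omega
      exact hcon (Subgroup.eq_of_le_of_card_ge hKR (by rw [hk, this, hR3])).ge
    have hcom : ∀ x y : (Subgroup.closure {a, t} : Subgroup (GL ι F)), x * y = y * x := by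
      interval_cases k
      · haveI : Subsingleton (Subgroup.closure {a, t} : Subgroup (GL ι F)) :=
          (Nat.card_eq_one_iff_unique.1 (by rw [hk, pow_zero])).1
        exact fun x y => Subsingleton.elim _ _
      · haveI := isCyclic_of_prime_card (p := r) (α := (Subgroup.closure {a, t} : Subgroup (GL ι F))) (by rw [hk, pow_one])
        exact fun x y => Std.Commutative.comm (op := (· * ·)) x y
      · exact fun x y => (IsPGroup.commutative_of_card_eq_prime_sq hk) x y
    exact hta (congrArg Subtype.val (hcom ⟨t, Subgroup.subset_closure (by simp)⟩ ⟨a, Subgroup.subset_closure (by simp)⟩))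
  intro x hx i
  have hSx : S x := by
    have : x ∈ Subgroup.closure {a, t} := hKeq.symm ▸ hx
    rw [← Subgroup.mem_toSubmonoid, Subgroup.closure_toSubmonoid_of_finite] at this
    clear hx
    induction this using Submonoid.closure_induction with
    | mem y hy => rcases hy with rfl | rfl; exacts [hSa, hSt]
    | one => exact hS1
    | mul y y' _ _ h1 h2 => exact hSmul y y' h1 h2
  obtain ⟨j', c, hc, h1⟩ := hSx (e.symm i)
  exact ⟨e j', c, hc, by rw [Module.Basis.reindex_apply, Module.Basis.reindex_apply, Equiv.symm_apply_apply, hb₀, hb₀, h1]⟩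

end

end Cfsg.Agent.PrimeDim
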