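import Cfsg.Agent.PrimeDim.SUProper
import Cfsg.Agent.PrimeDim.Perp
import Cfsg.Agent.PrimeDim.SLCases

/-!
The maximal subgroups of special unitary groups of prime degree at least five.
-/

set_option autoImplicit false

namespace Cfsg.Agent.PrimeDim

open Matrix Cfsg.Geo
open scoped MatrixGroups

variable {F : Type*} [Field F]

theorem fixed_ne_top [Fintype F] {F₁ : Subfield F} {l : ℕ} (hl : l.Prime)
    (hcard : Fintype.card F = Nat.card F₁ ^ l) : F₁ ≠ ⊤ := by
  intro e
  have h1 : Nat.card F₁ = Fintype.card F := by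
    rw [e, ← Nat.card_eq_fintype_card]; exact Nat.card_congr Subfield.topEquiv.toEquiv
  rw [h1] at hcard
  exact absurd hcard (Nat.ne_of_lt (lt_self_pow₀ Fintype.one_lt_card hl.one_lt))

/-- The list for `SU_r(q)`, `r ≥ 5` prime. -/
theorem su_cases [Fintype F] {r : ℕ} (hr : r.Prime) (h5 : 5 ≤ r) {q : ℕ} (hF : Fintype.card F = q ^ 2)
    {H : Subgroup (GL (Fin r) F)} (hH : IsMaximalIn (GU r F q ⊓ specialLinear (Fin r) F) H) :
    (∃ W : Submodule F (Fin r → F), W ≠ ⊥ ∧ IsTotallySingularFor (hermForm r F q) W ∧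
      H = subspaceStabilizer W ⊓ (GU r F q ⊓ specialLinear (Fin r) F)) ∨
    (∃ W : Submodule F (Fin r → F), W ≠ ⊥ ∧ IsNondegenerateOn (hermForm r F q) W ∧ 2 * Module.finrank F W < r ∧
      H = subspaceStabilizer W ⊓ (GU r F q ⊓ specialLinear (Fin r) F)) ∨
    (∃ D : Fin r → Submodule F (Fin r → F), IsNondegenerateMDecomposition (hermForm r F q) 1 D ∧
      H = decompositionStabilizer D ⊓ (GU r F q ⊓ specialLinear (Fin r) F)) ∨
    (∃ K : Subalgebra F (Matrix (Fin r) (Fin r) F), IsFieldSubalgebra r K ∧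
      IsAdjointClosedFor (hermForm r F q) K ∧
      H = subalgebraNormalizer K ⊓ (GU r F q ⊓ specialLinear (Fin r) F) ∧
      ∃ N : Subgroup (GL (Fin r) F), N ≤ H ∧ (∀ g ∈ N, mat g ∈ K) ∧ ¬ N ≤ scalars (Fin r) F) ∨
    (∃ (F₀ : Subfield F) (l : ℕ) (P : GL (Fin r) F), l.Prime ∧ Odd l ∧ Fintype.card F = Nat.card F₀ ^ l ∧
      IsFormRationalStructure (hermForm r F q) F₀ 1 P ∧
      H = subfieldSubgroup F₀ P ⊓ (GU r F q ⊓ specialLinear (Fin r) F)) ∨
    (Odd q ∧ ∃ (F₀ : Subfield F) (P : GL (Fin r) F), Fintype.card F = Nat.card F₀ ^ 2 ∧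
      IsFormRationalStructure (hermForm r F q) F₀ 1 P ∧
      H = subfieldSubgroup F₀ P ⊓ (GU r F q ⊓ specialLinear (Fin r) F)) ∨
    (∃ (p k : ℕ) (R : Subgroup (GL (Fin r) F)), p.Prime ∧ CharP F p ∧ q = p ^ k ∧ 2 * k ∣ r - 1 ∧
      p ^ k % r = r - 1 ∧ (∀ d, 0 < d → d < 2 * k → p ^ d % r ≠ 1) ∧ IsSymplecticTypeGroup r R ∧
      ActsAbsolutelyIrreducibly (matrixSet R) ∧ R ≤ GU r F q ∧ R ≤ similarityGroup (hermForm r F q) ∧
      Nat.card R = r ^ 3 ∧ Nat.card (Subgroup.center R) = r ∧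
      H = subgroupNormalizer R ⊓ (GU r F q ⊓ specialLinear (Fin r) F)) ∨
    InUnitaryResidualClass H := by
  classical
  haveI := Fact.mk hr
  have hr2 : r ≠ 2 := by omega
  have hcard : Fintype.card (Fin r) = r := Fintype.card_fin r
  have hι3 : 2 < Fintype.card (Fin r) := by omega
  have hodd : Odd (Fintype.card (Fin r)) := by rw [hcard]; exact hr.odd_of_ne_two hr2
  haveI : Nonempty (Fin r) := ⟨⟨0, hr.pos⟩⟩
  obtain ⟨σ, hσ, hbar⟩ := exists_bar hF
  have hf : hermForm r F q = formG σ (1 : Matrix (Fin r) (Fin r) F) := by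
    funext u v
    show _ = stdH σ u v
    rw [stdH_eq]
    exact Finset.sum_congr rfl fun i _ => by rw [hσ]
  set G := GU r F q ⊓ specialLinear (Fin r) F with hGdef
  have h1det : (1 : Matrix (Fin r) (Fin r) F).det ≠ 0 := by rw [Matrix.det_one]; exact one_ne_zero
  have hrefl : Reflexive' σ (1 : Matrix (Fin r) (Fin r) F) := fun u v => stdH_comm hbar u v
  have hfix : Fixes σ H 1 := fun g hg => by
    have h1 : ∀ u v, hermForm r F q (mat g *ᵥ u) (mat g *ᵥ v) = hermForm r F q u v :=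
      (Subgroup.mem_inf.1 (hH.1.le hg)).1
    rw [hf] at h1
    exact formG_ext (σ := σ) fun u v => by rw [← formG_mulVec, h1]
  have hHU : H ≤ GU r F q := hH.1.le.trans inf_le_left
  have hroots : HasRoots σ G := fun v hv b hb => Subgroup.mem_inf.2 ⟨fun u w => by
      rw [hf]; exact root_isometry hbar.involutive hv hb u w, Units.ext (det_root hv b)⟩
  have hsim : GU r F q ≤ similarityGroup (hermForm r F q) := fun g hg =>
    ⟨1, fun u v => by rw [Units.val_one, one_mul]; exact hg u v⟩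
  have hsub : ∀ (N : Subgroup (GL (Fin r) F)), N ≤ H → ActsAbsolutelyIrreducibly (matrixSet N) → Normalised H N →
      ∀ (F₀ : Subfield F), F₀ ≠ ⊤ → ∀ B : GL (Fin r) F, (∀ g ∈ N, Entries F₀ (mat (B * g * B⁻¹))) →
      (∃ (F₀ : Subfield F) (l : ℕ) (P : GL (Fin r) F), l.Prime ∧ Odd l ∧ Fintype.card F = Nat.card F₀ ^ l ∧
        IsFormRationalStructure (hermForm r F q) F₀ 1 P ∧ H = subfieldSubgroup F₀ P ⊓ G) ∨
      (Odd q ∧ ∃ (F₀ : Subfield F) (P : GL (Fin r) F), Fintype.card F = Nat.card F₀ ^ 2 ∧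
        IsFormRationalStructure (hermForm r F q) F₀ 1 P ∧ H = subfieldSubgroup F₀ P ⊓ G) := by
    intro N hNH hN hn F₀ hF₀ B hB
    obtain ⟨F₁, l, hl, hc, hB₁, hle⟩ := le_subfield hN hn hF₀ hB
    obtain ⟨P, hP, hent, hcases⟩ := unitary_rational hF hσ hbar hodd (by omega) hN h1det
      (by rw [Matrix.transpose_one]; exact (Matrix.map_one σ (map_zero σ) (map_one σ)).symm)
      (fun g hg => hfix g (hNH hg)) hl hc hB₁
    have hrat : IsFormRationalStructure (hermForm r F q) F₁ 1 P := by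
      intro u v hu hv
      rw [one_mul, hf]
      show formG σ 1 (mat P *ᵥ u) (mat P *ᵥ v) ∈ F₁
      rw [formG_mulVec]
      simp only [formG, dotProduct, Matrix.mulVec]
      exact Subfield.sum_mem _ fun a _ => mul_mem (hu a)
        (Subfield.sum_mem _ fun c _ => mul_mem (hent a c) (map_mem_of_card σ (hv c)))
    have hEq : H = subfieldSubgroup F₁ P ⊓ G := by
      rw [hP]
      exact eq_inf_of_maximal hH hle
        (su_not_subfield hbar hroots (by rw [hcard]; exact hr) hι3 (fixed_ne_top hl hc) _)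
    rcases hcases with ho | ⟨rfl, hq⟩
    · exact Or.inl ⟨F₁, l, P, hl, ho, hc, hrat, hEq⟩
    · exact Or.inr ⟨hq, F₁, P, hc, hrat, hEq⟩
  by_cases hirr : Irr H
  swap
  · obtain ⟨W, hb, ht, hW⟩ := exists_inv_of_not_irr hirr
    by_cases hI : W ⊓ perpG σ 1 W = ⊥
    · obtain ⟨hnd, hnd', hdim⟩ := perp_cases h1det hrefl hI
      rw [hcard] at hdim
      have hodd' := hr.odd_of_ne_two hr2
      obtain ⟨m, hm⟩ := hodd'
      refine Or.inr (Or.inl ?_)
      by_cases hlt : 2 * Module.finrank F W < r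
      · exact ⟨W, hb, hf ▸ hnd, hlt, eq_inf_of_maximal hH (le_stab hW) (su_not_stab hbar hroots hι3 hb ht)⟩
      · have hWlt : Module.finrank F W < r := by
          have h1 := Submodule.finrank_lt ht
          rwa [Module.finrank_fintype_fun_eq_card, hcard] at h1
        have hb' : perpG σ (1 : Matrix (Fin r) (Fin r) F) W ≠ ⊥ := fun e => by
          rw [e, finrank_bot] at hdim; omega
        have ht' : perpG σ (1 : Matrix (Fin r) (Fin r) F) W ≠ ⊤ := fun e => by
          rw [e, finrank_top, Module.finrank_fintype_fun_eq_card, hcard] at hdim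
          exact hb (Submodule.finrank_eq_zero.1 (by omega))
        exact ⟨_, hb', hf ▸ hnd', by omega,
          eq_inf_of_maximal hH (le_stab (inv_perp hfix hW)) (su_not_stab hbar hroots hι3 hb' ht')⟩
    · refine Or.inl ⟨_, hI, ?_, eq_inf_of_maximal hH ?_ (su_not_stab hbar hroots hι3 hI fun e => ht ?_)⟩
      · rw [hf]
        exact fun u hu v hv => (Submodule.mem_inf.1 hu).2 v (Submodule.mem_inf.1 hv).1
      · exact le_stab fun g hg v hv => Submodule.mem_inf.2
          ⟨hW g hg v (Submodule.mem_inf.1 hv).1, inv_perp hfix hW g hg v (Submodule.mem_inf.1 hv).2⟩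
      · exact top_le_iff.1 (e ▸ inf_le_left)
  rcases four_cases hr hr2 hcard (hH.1.le.trans inf_le_right) hirr with hL | hS | ⟨R, hR⟩ | ⟨P, hP⟩
  · -- monomial
    obtain ⟨b, hperm, horth, hne, -⟩ := lines_orth h1det hrefl hbar.involutive hodd hirr hfix hL
    have hnorm : ∀ i, ∃ c : F, c ≠ 0 ∧ c * σ c = formG σ 1 (b i) (b i) := fun i => by
      obtain ⟨c, hc⟩ := hbar.norm _ (hrefl (b i) (b i)).symm
      exact ⟨c, fun e => hne i (by rw [← hc, e, zero_mul]), hc⟩
    choose c hc0 hc using hnorm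
    let b' : Module.Basis (Fin r) F (Fin r → F) := b.unitsSMul fun i => Units.mk0 (c i)⁻¹ (inv_ne_zero (hc0 i))
    have hb' : ∀ i, b' i = (c i)⁻¹ • b i := fun i => by simp [b', Module.Basis.unitsSMul_apply]
    have horth' : ∀ i j, stdH σ (b' i) (b' j) = if i = j then 1 else 0 := by
      intro i j
      have hs := isSesq_formG σ (1 : Matrix (Fin r) (Fin r) F)
      show formG σ 1 _ _ = _
      rw [hb', hb', hs.smul_left, hs.smul_right]
      by_cases hij : i = j
      · subst hij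
        rw [if_pos rfl, ← hc i, map_inv₀]
        have := hc0 i
        have := (map_ne_zero σ).2 (hc0 i)
        field_simp
      · rw [if_neg hij, horth i j hij, mul_zero, mul_zero]
    have hperm' : ∀ h ∈ H, ∀ i, ∃ (j : Fin r) (d : F), mat h *ᵥ b' i = d • b' j := by
      intro h hh i
      obtain ⟨j, d, hd⟩ := hperm h hh i
      refine ⟨j, (c i)⁻¹ * d * c j, ?_⟩
      rw [hb', hb', Matrix.mulVec_smul, hd, smul_smul, smul_smul, mul_assoc _ (c j), mul_inv_cancel₀ (hc0 j), mul_one]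
    have hmem : ∀ k, ∀ u ∈ Submodule.span F {b' k}, ∃ a : F, a • b' k = u := fun k u hu =>
      Submodule.mem_span_singleton.1 hu
    refine Or.inr (Or.inr (Or.inl ⟨fun k => Submodule.span F {b' ((Equiv.refl (Fin r)) k)}, ⟨lines_decomposition
      (by omega) b' (Equiv.refl _), fun k w hw hw0 => ?_, fun i j hij u hu v hv => ?_⟩, eq_inf_of_maximal hH
      (le_decomposition b' (Equiv.refl _) hperm')
      (su_not_decomp hbar hroots (by omega) b' (Equiv.refl _) (fun _ => rfl) horth')⟩))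
    · obtain ⟨a, rfl⟩ := hmem _ w hw
      have ha : a ≠ 0 := fun e => hw0 (by rw [e, zero_smul])
      have hs := isSesq_formG σ (1 : Matrix (Fin r) (Fin r) F)
      have h1 : formG σ 1 (b' k) (b' k) = 1 := by
        have := horth' k k; rwa [if_pos rfl] at this
      rw [hf]
      refine ⟨⟨b' k, Submodule.subset_span rfl, ?_⟩, ⟨b' k, Submodule.subset_span rfl, ?_⟩⟩
      · show formG σ 1 (b' k) (a • b' k) ≠ 0
        rw [hs.smul_right, h1, mul_one]; exact (map_ne_zero σ).2 ha
      · show formG σ 1 (a • b' k) (b' k) ≠ 0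
        rw [hs.smul_left, h1, mul_one]; exact ha
    · obtain ⟨a, rfl⟩ := hmem _ u hu
      obtain ⟨a', rfl⟩ := hmem _ v hv
      have hs := isSesq_formG σ (1 : Matrix (Fin r) (Fin r) F)
      rw [hf, hs.smul_left, hs.smul_right]
      have := horth' i j
      rw [if_neg hij] at this
      show a * (σ a' * formG σ 1 (b' i) (b' j)) = 0
      rw [show formG σ 1 (b' i) (b' j) = 0 from this, mul_zero, mul_zero]
  · -- extension field
    obtain ⟨K, N, hNH, -, hK, hHK, hiff, hNK, hNs⟩ := hS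
    rw [hcard] at hK
    refine Or.inr (Or.inr (Or.inr (Or.inl ⟨K, hK, fun k hk => ⟨kᵀ.map σ, ?_, ?_⟩,
      eq_inf_of_maximal hH hHK (su_not_field hbar hroots hr.one_lt hι3 hK), N, hNH, hNK, hNs⟩)))
    · rw [hiff]
      intro g hg
      have hu : (mat g)ᵀ * (mat g).map σ = 1 := by
        have h1 := hfix g (hNH hg)
        rwa [act, mul_one] at h1
      have hu' : (mat g).map σ * (mat g)ᵀ = 1 := mul_eq_one_comm.1 hu
      have h1 : kᵀ * (mat g).map σ = (mat g).map σ * kᵀ := by
        have h2 : (mat g)ᵀ * kᵀ = kᵀ * (mat g)ᵀ := by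
          rw [← Matrix.transpose_mul, ← Matrix.transpose_mul, (hiff k).1 hk g hg]
        calc kᵀ * (mat g).map σ = ((mat g).map σ * (mat g)ᵀ) * (kᵀ * (mat g).map σ) := by rw [hu', one_mul]
          _ = (mat g).map σ * (kᵀ * ((mat g)ᵀ * (mat g).map σ)) := by
              rw [mul_assoc, ← mul_assoc (mat g)ᵀ, h2, mul_assoc]
          _ = (mat g).map σ * kᵀ := by rw [hu, mul_one]
      have h3 := congrArg (fun X : Matrix (Fin r) (Fin r) F => X.map σ) h1
      simp only [Matrix.map_mul] at h3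
      rwa [show ((mat g).map σ).map σ = mat g by ext a b; exact hbar.involutive _] at h3
    · intro u v
      rw [hf]
      show (k *ᵥ u) ⬝ᵥ ((1 : Matrix (Fin r) (Fin r) F) *ᵥ fun i => σ (v i)) =
        u ⬝ᵥ ((1 : Matrix (Fin r) (Fin r) F) *ᵥ fun i => σ ((kᵀ.map σ *ᵥ v) i))
      rw [Matrix.one_mulVec, Matrix.one_mulVec, map_mulVec_comp,
        show (kᵀ.map σ).map σ = kᵀ by ext a b; exact hbar.involutive _, Matrix.dotProduct_mulVec, Matrix.vecMul_transpose]
  · -- symplectic type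
    obtain ⟨p, n, hp, hcp, hn0, hn⟩ := prime_card_pow (F := F)
    rw [Nat.card_eq_fintype_card] at hn
    haveI := Fact.mk hp
    obtain ⟨ζ, hζ, z, hz, hzmat⟩ := hR.root
    have hpr : p ≠ r := by
      rintro rfl
      exact (hζ.neZero' (R := F) (n := p)).out (CharP.cast_eq_zero F p)
    obtain ⟨he0, hediv, hepow, hemin⟩ := orderOf_cast_data hr hp hpr
    set e := orderOf (p : ZMod r) with he
    have hen : e ∣ n := by
      refine orderOf_dvd_of_pow_eq_one ?_
      have h1 := pow_mod_of_root hr hζ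
      rw [hn] at h1
      rw [← Nat.cast_pow, ← Nat.cast_one, ZMod.natCast_eq_natCast_iff', h1, Nat.mod_eq_of_lt hr.one_lt]
    obtain ⟨a, haR, has⟩ := SetLike.not_le_iff_exists.1 hR.nonscalar
    obtain ⟨b, -, hb⟩ := hR.basis a haR has
    rcases (Nat.le_of_dvd hn0 hen).lt_or_eq with hlt | heq
    · let F₀ : Subfield F := RingHom.eqLocusField (powHom p e) (RingHom.id F)
      have hmem : ∀ x, x ∈ F₀ ↔ x ^ p ^ e = x := fun x => by
        show powHom p e x = x ↔ _
        rw [powHom_apply]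
      have hF₀ : F₀ ≠ ⊤ := by
        intro htop
        have h1 := card_fixed_le (E := F) (p ^ e) (Nat.one_lt_pow he0.ne' hp.one_lt)
        rw [Nat.card_congr (Equiv.subtypeUnivEquiv fun x => (hmem x).1 (htop ▸ Subfield.mem_top x)),
          Nat.card_eq_fintype_card, hn] at h1
        exact absurd h1 (not_le.2 (Nat.pow_lt_pow_right hp.one_lt hlt))
      have hζ₀ : ζ ∈ F₀ := by
        rw [hmem, ← Nat.mod_add_div (p ^ e) r, hepow, pow_add, pow_mul, hζ.pow_eq_one, one_pow, mul_one, pow_one]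
      have h1 := hsub R hR.le hR.abs hR.normalised F₀ hF₀ (ofBasis b)⁻¹ fun g hg => by
        rw [inv_inv]
        refine entries_of_mono b fun i => ?_
        obtain ⟨j, c, hc, h⟩ := hb g hg i
        obtain ⟨m, -, rfl⟩ := hζ.eq_pow_of_pow_eq_one hc
        exact ⟨j, _, pow_mem hζ₀ m, h⟩
      rcases h1 with h1 | h1
      · exact Or.inr (Or.inr (Or.inr (Or.inr (Or.inl h1))))
      · exact Or.inr (Or.inr (Or.inr (Or.inr (Or.inr (Or.inl h1)))))
    -- the field is minimal
    have hzU : ζ * σ ζ = 1 := by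
      have h1 := hfix z (hR.le hz)
      rw [hzmat, act_sc, act, Matrix.transpose_one, one_mul, Matrix.map_one σ (map_zero σ) (map_one σ), one_mul] at h1
      have h2 := congrFun (congrFun h1 ⟨0, hr.pos⟩) ⟨0, hr.pos⟩
      simpa using h2
    obtain ⟨k, -, hk⟩ := (Nat.dvd_prime_pow hp).1
      (by rw [← hn, hF]; exact dvd_pow_self q two_ne_zero : q ∣ p ^ n)
    have he2 : e = 2 * k := by
      have h1 : p ^ n = p ^ (2 * k) := by rw [← hn, hF, hk, ← pow_mul, mul_comm]
      rw [heq]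
      exact Nat.pow_right_injective hp.two_le h1
    have hpk : p ^ k % r = r - 1 := by
      rw [hσ, ← pow_succ', hζ.pow_eq_one_iff_dvd, hk] at hzU
      obtain ⟨m, hm⟩ := hzU
      have hm0 : 0 < m := by
        rcases Nat.eq_zero_or_pos m with rfl | h
        · omega
        · exact h
      rw [show p ^ k = r * (m - 1) + (r - 1) by
        have : r * m = r * (m - 1) + r := by rw [← Nat.mul_succ, Nat.succ_eq_add_one, Nat.sub_add_cancel hm0]
        omega, Nat.mul_add_mod, Nat.mod_eq_of_lt (by omega)]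
    refine Or.inr (Or.inr (Or.inr (Or.inr (Or.inr (Or.inr (Or.inl ⟨p, k, R, hp, hcp, hk, he2 ▸ hediv, hpk,
      he2 ▸ hemin, hR.symp, hR.abs, hR.le.trans hHU, (hR.le.trans hHU).trans hsim, hR.card, hR.card_center,
      eq_inf_of_maximal hH (le_normalizer hR.normalised) ?_⟩))))))
    intro hle
    obtain ⟨c, hc⟩ := scalar_of_commute_root hbar hroots hι3 (A := mat a) fun v hv β hβ => by
      have hnorm := (Subgroup.mem_normalizer_iff.1 (hle (hroots v hv β hβ)) a).1 haR
      have h1 := commute_of_rank_one hr h5 hcard hR (fun u => β * stdH σ u v) (fun u => -β * stdH σ u v)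
        (fun u => root_mulVec hv β u) (fun u => by rw [root_inv]; exact root_mulVec hv (-β) u) haR hnorm
      exact (congrArg Units.val h1).symm
    exact has (mem_scalars_of_smul hc)
  · by_cases hsubf : ∃ F₀ : Subfield F, F₀ ≠ ⊤ ∧ RealisableOver F₀ (matrixSet P)
    · obtain ⟨F₀, hF₀, hreal⟩ := hsubf
      obtain ⟨B, hB⟩ := realisable_mat.1 hreal
      rcases hsub P hP.le hP.abs hP.normalised F₀ hF₀ B hB with h1 | h1
      · exact Or.inr (Or.inr (Or.inr (Or.inr (Or.inl h1))))
      · exact Or.inr (Or.inr (Or.inr (Or.inr (Or.inr (Or.inl h1)))))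
    refine Or.inr (Or.inr (Or.inr (Or.inr (Or.inr (Or.inr (Or.inr
      ⟨P, hP.residual fun F₀ h0 h1 => hsubf ⟨F₀, h0, h1⟩, ?_, ?_⟩))))))
    · rintro ⟨Q, hQ, hfixQ⟩
      have hb := isSesq_of_bilinear hQ.polar_bilinear
      exact hsubf (realisable_of_two hbar hP.abs h1det (hb.det_ne_zero hQ.nondegenerate)
        (fun g hg => hfix g (hP.le hg)) fun g hg => (hb.fixes_iff g).1 fun u v => by
          simp only [QuadraticMap.polar, ← Matrix.mulVec_add, hfixQ _ ⟨g, hg, rfl⟩])
    · rintro ⟨f, hf', hfixf⟩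
      have hb := isSesq_of_bilinear hf'.bilinear
      exact hsubf (realisable_of_two hbar hP.abs h1det (hb.det_ne_zero hf'.nondegenerate)
        (fun g hg => hfix g (hP.le hg)) fun g hg => (hb.fixes_iff g).1 (hfixf _ ⟨g, hg, rfl⟩))

end Cfsg.Agent.PrimeDim
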