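import Mathlib
import Cfsg.Prelude.Def_GeometricClasses

/-!
Normal subgroups of irreducible linear groups of prime degree: either monomial, or semilinear, or
every non-scalar normal subgroup is absolutely irreducible.
-/

set_option autoImplicit false

namespace Cfsg.Agent.PrimeDim

open Matrix Cfsg.Geo
open scoped MatrixGroups

variable {ι : Type} [Fintype ι] [DecidableEq ι] {F : Type*} [Field F]

local notation "M" => Matrix ι ι F

/-- The matrix of a group element. -/
abbrev mat (g : GL ι F) : Matrix ι ι F := (g : Matrix ι ι F)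

/-- Invariance of a subspace under a subgroup. -/
def Inv (H : Subgroup (GL ι F)) (W : Submodule F (ι → F)) : Prop :=
  ∀ g ∈ H, ∀ v ∈ W, mat g *ᵥ v ∈ W

/-- Irreducibility of a subgroup. -/
def Irr (H : Subgroup (GL ι F)) : Prop :=
  ∀ W : Submodule F (ι → F), Inv H W → W = ⊥ ∨ W = ⊤

/-- `N` is normalised by `H`. -/
def Normalised (H N : Subgroup (GL ι F)) : Prop := ∀ h ∈ H, ∀ x ∈ N, h * x * h⁻¹ ∈ N

theorem Normalised.conj' {H N : Subgroup (GL ι F)} (hn : Normalised H N) {h x : GL ι F} (hh : h ∈ H) (hx : x ∈ N) :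
    h⁻¹ * x * h ∈ N := by
  have := hn h⁻¹ (inv_mem hh) x hx
  rwa [inv_inv] at this

theorem actsIrreducibly_iff {H : Subgroup (GL ι F)} : ActsIrreducibly (matrixSet H) ↔ Irr H := by
  have key : ∀ W : Submodule F (ι → F), (∀ s ∈ matrixSet H, W.map (Matrix.toLin' s) ≤ W) ↔ Inv H W := by
    intro W
    constructor
    · intro h g hg v hv
      exact h _ ⟨g, hg, rfl⟩ ⟨v, hv, Matrix.toLin'_apply _ _⟩
    · rintro h _ ⟨g, hg, rfl⟩ _ ⟨v, hv, rfl⟩
      rw [Matrix.toLin'_apply]
      exact h g hg v hv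
  exact ⟨fun h W hW => h W ((key W).2 hW), fun h W hW => h W ((key W).1 hW)⟩

theorem abs_iff {N : Subgroup (GL ι F)} :
    ActsAbsolutelyIrreducibly (matrixSet N) ↔
      Irr N ∧ ∀ A : M, (∀ g ∈ N, A * mat g = mat g * A) → ∃ c : F, A = c • (1 : M) := by
  rw [ActsAbsolutelyIrreducibly, actsIrreducibly_iff]
  refine and_congr Iff.rfl ⟨fun h A hA => h A ?_, fun h A hA => h A fun g hg => hA _ ⟨g, hg, rfl⟩⟩
  rintro _ ⟨g, hg, rfl⟩
  exact hA g hg

theorem mat_inv_mul (g : GL ι F) : mat g⁻¹ * mat g = 1 := by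
  rw [mat, mat, ← Units.val_mul, inv_mul_cancel, Units.val_one]

theorem mat_mul_inv (g : GL ι F) : mat g * mat g⁻¹ = 1 := by
  rw [mat, mat, ← Units.val_mul, mul_inv_cancel, Units.val_one]

theorem inv_mulVec_cancel (g : GL ι F) (v : ι → F) : mat g⁻¹ *ᵥ (mat g *ᵥ v) = v := by
  rw [Matrix.mulVec_mulVec, mat_inv_mul, Matrix.one_mulVec]

theorem mulVec_inv_cancel (g : GL ι F) (v : ι → F) : mat g *ᵥ (mat g⁻¹ *ᵥ v) = v := by
  rw [Matrix.mulVec_mulVec, mat_mul_inv, Matrix.one_mulVec]

theorem mulVec_injective (g : GL ι F) : Function.Injective (fun v : ι → F => mat g *ᵥ v) :=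
  Function.LeftInverse.injective (inv_mulVec_cancel g)

theorem mulVec_mul (g h : GL ι F) (v : ι → F) : mat g *ᵥ (mat h *ᵥ v) = mat (g * h) *ᵥ v := by
  rw [Matrix.mulVec_mulVec, mat, mat, ← Units.val_mul]

theorem mulVec_conj (g h : GL ι F) (v : ι → F) : mat h *ᵥ (mat (h⁻¹ * g * h) *ᵥ v) = mat g *ᵥ (mat h *ᵥ v) := by
  rw [mulVec_mul, mulVec_mul, ← mul_assoc, mul_inv_cancel_left]

/-- Elementwise commutativity. -/
def Comm (N : Subgroup (GL ι F)) : Prop := ∀ x ∈ N, ∀ y ∈ N, x * y = y * x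

/-- The translate of a subspace. -/
noncomputable def tr (g : GL ι F) (W : Submodule F (ι → F)) : Submodule F (ι → F) :=
  W.map (Matrix.toLin' (mat g))

theorem mem_tr {g : GL ι F} {W : Submodule F (ι → F)} {v : ι → F} : v ∈ tr g W ↔ mat g⁻¹ *ᵥ v ∈ W := by
  constructor
  · rintro ⟨w, hw, rfl⟩
    rwa [Matrix.toLin'_apply, inv_mulVec_cancel]
  · intro h
    exact ⟨_, h, by rw [Matrix.toLin'_apply, mulVec_inv_cancel]⟩

theorem finrank_tr (g : GL ι F) (W : Submodule F (ι → F)) :
    Module.finrank F (tr g W) = Module.finrank F W :=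
  (Submodule.equivMapOfInjective _ (fun a b h => mulVec_injective g (by simpa [Matrix.toLin'_apply] using h)) W).finrank_eq.symm

/-- A space generated by atoms of equal dimension `d` has dimension divisible by `d`. -/
theorem dvd_finrank_of_atoms {V : Type*} [AddCommGroup V] [Module F V] [FiniteDimensional F V]
    (S : Set (Submodule F V)) (P : Submodule F V → Prop) (hbot : P ⊥)
    (hsup : ∀ X W, P X → W ∈ S → P (X ⊔ W)) (hat : ∀ X W, P X → W ∈ S → W ⊓ X = ⊥ ∨ W ≤ X)
    {d : ℕ} (hd : ∀ W ∈ S, Module.finrank F W = d) (htop : sSup S = ⊤) : d ∣ Module.finrank F V := by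
  classical
  let T : Set ℕ := {k | ∃ X : Submodule F V, P X ∧ Module.finrank F X = k ∧ d ∣ k}
  have hfin : T.Finite := (Set.finite_Iic (Module.finrank F V)).subset fun k ⟨X, _, hk, _⟩ => by
    rw [Set.mem_Iic, ← hk]; exact Submodule.finrank_le X
  have hne : T.Nonempty := ⟨0, ⊥, hbot, finrank_bot F V, dvd_zero d⟩
  obtain ⟨k, ⟨X, hX, hk, hdk⟩, hmax⟩ := hfin.exists_maximal hne
  have hall : ∀ W ∈ S, W ≤ X := by
    intro W hW
    rcases hat X W hX hW with h | h
    swap
    · exact h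
    have hc : Module.finrank F ↥(X ⊔ W) = k + d := by
      have := Submodule.finrank_sup_add_finrank_inf_eq X W
      rw [inf_comm, h, finrank_bot, add_zero, hk, hd W hW] at this
      exact this
    have hle := hmax ⟨X ⊔ W, hsup X W hX hW, hc, dvd_add hdk dvd_rfl⟩ (Nat.le_add_right k d)
    have h0 : d = 0 := by have : k + d ≤ k := hle; omega
    have hWbot : W = ⊥ := Submodule.finrank_eq_zero.1 ((hd W hW).trans h0)
    rw [hWbot]; exact bot_le
  have : X = ⊤ := top_le_iff.1 (htop ▸ sSup_le hall)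
  rw [this, finrank_top] at hk
  rwa [hk]

/-- A monomial structure: `N` acts diagonally with distinct characters and `H` permutes the lines. -/
def Lines (H : Subgroup (GL ι F)) : Prop :=
  ∃ (N : Subgroup (GL ι F)) (b : Module.Basis ι F (ι → F)) (χ : ι → GL ι F → F),
    N ≤ H ∧ Normalised H N ∧ (∀ g ∈ N, ∀ i, mat g *ᵥ b i = χ i g • b i) ∧
    (∀ i j, (∀ g ∈ N, χ i g = χ j g) → i = j) ∧
    (∀ h ∈ H, ∀ i, ∃ (j : ι) (c : F), mat h *ᵥ b i = c • b j)

/-- A semilinear structure. -/
def Semilinear (H : Subgroup (GL ι F)) : Prop :=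
  ∃ (K : Subalgebra F M) (N : Subgroup (GL ι F)), N ≤ H ∧ Normalised H N ∧ IsFieldSubalgebra (Fintype.card ι) K ∧
    H ≤ subalgebraNormalizer K ∧ (∀ A : M, A ∈ K ↔ ∀ g ∈ N, A * mat g = mat g * A) ∧
    (∀ g ∈ N, mat g ∈ K) ∧ ¬ N ≤ scalars ι F

/-- Every non-scalar normal subgroup is absolutely irreducible. -/
def Good (H : Subgroup (GL ι F)) : Prop :=
  ∀ N : Subgroup (GL ι F), N ≤ H → Normalised H N → ¬ N ≤ scalars ι F → ActsAbsolutelyIrreducibly (matrixSet N)

theorem smul_one_mulVec (c : F) (v : ι → F) : (c • (1 : M)) *ᵥ v = c • v := by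
  rw [Matrix.smul_mulVec, Matrix.one_mulVec]

theorem scalar_of_basis (b : Module.Basis ι F (ι → F)) {A : M} {c : F} (h : ∀ i, A *ᵥ b i = c • b i) :
    A = c • (1 : M) := by
  apply Matrix.toLin'.injective
  refine b.ext fun i => ?_
  rw [Matrix.toLin'_apply, Matrix.toLin'_apply, h, smul_one_mulVec]

theorem mem_scalars_of_smul {g : GL ι F} {c : F} (h : mat g = c • (1 : M)) [Nonempty ι] : g ∈ scalars ι F := by
  rw [Cfsg.Geo.mem_scalars_iff]
  have hc : c ≠ 0 := by
    intro e
    have := mat_inv_mul g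
    rw [h, e, zero_smul, Matrix.mul_zero] at this
    exact zero_ne_one this
  exact ⟨Units.mk0 c hc, h⟩

theorem lines_or_irr [Finite F] (hr : (Fintype.card ι).Prime) {H N : Subgroup (GL ι F)} (hH : Irr H) (hle : N ≤ H)
    (hn : Normalised H N) (hns : ¬ N ≤ scalars ι F) : (Lines H ∧ Comm N) ∨ Irr N := by
  classical
  haveI : Nonempty ι := Fintype.card_pos_iff.1 hr.pos
  haveI : Nontrivial (ι → F) := Function.nontrivial
  -- a minimal invariant subspace
  let T : Set ℕ := {k | ∃ W : Submodule F (ι → F), Inv N W ∧ W ≠ ⊥ ∧ Module.finrank F W = k}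
  have hne : T.Nonempty := ⟨_, ⊤, fun _ _ _ _ => Submodule.mem_top, top_ne_bot, rfl⟩
  obtain ⟨W, hWi, hW0, hWd⟩ := Nat.sInf_mem hne
  have hmin : ∀ X : Submodule F (ι → F), Inv N X → X ≠ ⊥ → sInf T ≤ Module.finrank F X := fun X h1 h2 =>
    Nat.sInf_le ⟨X, h1, h2, rfl⟩
  set d := sInf T
  let S : Set (Submodule F (ι → F)) := Set.range fun h : H => tr (h : GL ι F) W
  have hSinv : ∀ U ∈ S, Inv N U := by
    rintro _ ⟨h, rfl⟩ g hg v hv
    rw [mem_tr] at hv ⊢
    have := hWi _ (hn.conj' h.2 hg) _ hv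
    rw [mulVec_mul, mul_assoc, mul_inv_cancel, mul_one] at this
    rw [mulVec_mul]
    exact this
  have hStop : sSup S = ⊤ := by
    refine (hH _ ?_).resolve_left fun e => hW0 ?_
    · intro g hg v hv
      have key : sSup S ≤ (sSup S).comap (Matrix.toLin' (mat g)) := by
        refine sSup_le ?_
        rintro _ ⟨h, rfl⟩ x hx
        rw [Submodule.mem_comap, Matrix.toLin'_apply]
        refine Submodule.mem_sSup_of_mem (s := tr (((⟨g, hg⟩ : H) * h : H) : GL ι F) W) ?_ ?_
        · exact Set.mem_range_self ((⟨g, hg⟩ : H) * h)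
        rw [mem_tr] at hx ⊢
        rw [mulVec_mul, Subgroup.coe_mul, _root_.mul_inv_rev, inv_mul_cancel_right]
        exact hx
      simpa [Matrix.toLin'_apply] using key hv
    · refine le_bot_iff.1 (e ▸ ?_)
      have : tr (((1 : H)) : GL ι F) W = W := by
        ext v; rw [mem_tr]; simp [mat]
      exact this ▸ le_sSup ⟨1, rfl⟩
  have hdim : d ∣ Module.finrank F (ι → F) := by
    refine dvd_finrank_of_atoms S (Inv N) (fun g _ v hv => ?_) ?_ ?_ ?_ hStop
    · rw [(Submodule.mem_bot F).1 hv, Matrix.mulVec_zero]; exact zero_mem _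
    · intro X U hX hU g hg v hv
      obtain ⟨x, hx, u, hu, rfl⟩ := Submodule.mem_sup.1 hv
      rw [Matrix.mulVec_add]
      exact Submodule.add_mem_sup (hX g hg x hx) (hSinv U hU g hg u hu)
    · intro X U hX hU
      by_cases h0 : U ⊓ X = ⊥
      · exact Or.inl h0
      refine Or.inr (inf_eq_left.1 (Submodule.eq_of_le_of_finrank_le inf_le_left ?_))
      have hUd : Module.finrank F U = d := by obtain ⟨h, rfl⟩ := hU; rw [finrank_tr, hWd]
      rw [hUd]
      exact hmin _ (fun g hg v hv => ⟨hSinv U hU g hg v hv.1, hX g hg v hv.2⟩) h0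
    · rintro _ ⟨h, rfl⟩
      rw [finrank_tr, hWd]
  rw [Module.finrank_fintype_fun_eq_card] at hdim
  rcases hr.eq_one_or_self_of_dvd _ hdim with hd1 | hdr
  swap
  · refine Or.inr fun X hX => ?_
    by_cases h0 : X = ⊥
    · exact Or.inl h0
    refine Or.inr (Submodule.eq_top_of_finrank_eq (le_antisymm (Submodule.finrank_le X) ?_))
    rw [Module.finrank_fintype_fun_eq_card, ← hdr]
    exact hmin X hX h0
  left
  -- a basis of common eigenvectors
  obtain ⟨w, hwW, hw0⟩ := W.exists_mem_ne_zero_of_ne_bot hW0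
  have hWspan : ∀ v ∈ W, ∃ c : F, v = c • w := by
    intro v hv
    have : Submodule.span F {w} = W := Submodule.eq_of_le_of_finrank_le
      ((Submodule.span_singleton_le_iff_mem _ _).2 hwW) (by rw [hWd, hd1, finrank_span_singleton hw0])
    rw [← this, Submodule.mem_span_singleton] at hv
    obtain ⟨c, rfl⟩ := hv
    exact ⟨c, rfl⟩
  have heig : ∀ g ∈ N, ∃ c : F, mat g *ᵥ w = c • w := fun g hg => hWspan _ (hWi g hg w hwW)
  choose! χ₀ hχ₀ using heig
  let E : Set (ι → F) := Set.range fun h : H => mat (h : GL ι F) *ᵥ w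
  have hEspan : Submodule.span F E = ⊤ := by
    rw [← top_le_iff, ← hStop]
    refine sSup_le ?_
    rintro _ ⟨h, rfl⟩ v hv
    rw [mem_tr] at hv
    obtain ⟨c, hc⟩ := hWspan _ hv
    rw [← mulVec_inv_cancel (h : GL ι F) v, hc, Matrix.mulVec_smul]
    exact Submodule.smul_mem _ _ (Submodule.subset_span ⟨h, rfl⟩)
  let b₀ := Module.Basis.ofSpan hEspan.ge
  haveI : Fintype _ := FiniteDimensional.fintypeBasisIndex b₀
  have hcard := Module.finrank_eq_card_basis b₀
  rw [Module.finrank_fintype_fun_eq_card] at hcard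
  let e := Fintype.equivOfCardEq hcard
  let b : Module.Basis ι F (ι → F) := b₀.reindex e.symm
  have hbmem : ∀ i, ∃ h : H, mat (h : GL ι F) *ᵥ w = b i := fun i => by
    have h1 : b i ∈ E := by
      rw [Module.Basis.reindex_apply]
      exact Module.Basis.ofSpan_subset hEspan.ge ⟨_, rfl⟩
    obtain ⟨h, hh⟩ := h1
    exact ⟨h, hh⟩
  choose hb hhb using hbmem
  let χ : ι → GL ι F → F := fun i g => χ₀ ((hb i : GL ι F)⁻¹ * g * hb i)
  have hact : ∀ g ∈ N, ∀ i, mat g *ᵥ b i = χ i g • b i := by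
    intro g hg i
    rw [← hhb i, ← Matrix.mulVec_smul, ← hχ₀ _ (hn.conj' (hb i).2 hg), mulVec_conj]
  -- eigenspaces
  let Esp : (GL ι F → F) → Submodule F (ι → F) := fun μ =>
    { carrier := {v | ∀ g ∈ N, mat g *ᵥ v = μ g • v}
      add_mem' := fun {x y} hx hy g hg => by rw [Matrix.mulVec_add, hx g hg, hy g hg, smul_add]
      zero_mem' := fun g _ => by rw [Matrix.mulVec_zero, smul_zero]
      smul_mem' := fun c x hx g hg => by rw [Matrix.mulVec_smul, hx g hg, smul_comm] }
  have hEsp : ∀ μ, Esp μ = Submodule.span F (b '' {i | ∀ g ∈ N, χ i g = μ g}) := by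
    intro μ
    refine le_antisymm (fun v hv => ?_) (Submodule.span_le.2 ?_)
    · rw [← b.sum_repr v]
      refine Submodule.sum_mem _ fun i _ => ?_
      by_cases hi : ∀ g ∈ N, χ i g = μ g
      · exact Submodule.smul_mem _ _ (Submodule.subset_span ⟨i, hi, rfl⟩)
      · push Not at hi
        obtain ⟨g, hg, hne⟩ := hi
        have h1 : b.repr (mat g *ᵥ v) i = χ i g * b.repr v i := by
          conv_lhs => rw [← b.sum_repr v, Matrix.mulVec_sum]
          simp only [Matrix.mulVec_smul, hact g hg, map_sum, map_smul, Finsupp.coe_finsetSum, Finsupp.coe_smul,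
            Finset.sum_apply, Pi.smul_apply, smul_eq_mul, Module.Basis.repr_self]
          rw [Finset.sum_eq_single i (fun j _ hji => by simp [hji]) (by simp)]
          simp [mul_comm]
        rw [hv g hg, map_smul, Finsupp.smul_apply, smul_eq_mul] at h1
        have : b.repr v i = 0 := by
          rcases mul_eq_zero.1 (show (χ i g - μ g) * b.repr v i = 0 by rw [sub_mul, h1, sub_self]) with h | h
          · exact absurd (sub_eq_zero.1 h) hne
          · exact h
        rw [this, zero_smul]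
        exact zero_mem _
    · rintro _ ⟨i, hi, rfl⟩ g hg
      rw [hact g hg i, hi g hg]
  let fib : ι → Finset ι := fun i => Finset.univ.filter fun j => ∀ g ∈ N, χ j g = χ i g
  have hfib : ∀ i, Module.finrank F (Esp (χ i)) = (fib i).card := by
    intro i
    rw [hEsp, finrank_span_set_eq_card (b.linearIndependent.linearIndepOn _).id_image]
    rw [Set.toFinset_image, Finset.card_image_of_injective _ b.injective]
    congr 1
    ext j; simp [fib]
  have hmove : ∀ h ∈ H, ∀ μ : GL ι F → F, ∀ v ∈ Esp μ, mat h *ᵥ v ∈ Esp fun g => μ (h⁻¹ * g * h) := by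
    intro h hh μ v hv g hg
    rw [← Matrix.mulVec_smul, ← hv _ (hn.conj' hh hg), mulVec_conj]
  have hconst : ∀ i j, (fib i).card ≤ (fib j).card := by
    intro i j
    rw [← hfib, ← hfib]
    set h := (hb j : GL ι F) * (hb i : GL ι F)⁻¹ with hdef
    have hle : tr h (Esp (χ i)) ≤ Esp (χ j) := by
      intro v hv
      rw [mem_tr] at hv
      have h1 := hmove h (mul_mem (hb j).2 (inv_mem (hb i).2)) _ _ hv
      rw [mulVec_inv_cancel] at h1
      intro g hg
      rw [h1 g hg]
      simp [χ, hdef, mul_assoc]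
    rw [← finrank_tr h]
    exact Submodule.finrank_mono hle
  have hsum : Fintype.card ι = (Finset.univ.image fib).card * (fib (Classical.arbitrary ι)).card := by
    rw [← Finset.card_univ, Finset.card_eq_sum_card_image fib Finset.univ, Finset.sum_const_nat]
    intro S hS
    obtain ⟨i, -, rfl⟩ := Finset.mem_image.1 hS
    refine Eq.trans (congrArg Finset.card ?_) (le_antisymm (hconst i _) (hconst _ i))
    ext j
    simp only [Finset.mem_filter, Finset.mem_univ, true_and, fib]
    constructor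
    · intro e
      have : j ∈ fib j := Finset.mem_filter.2 ⟨Finset.mem_univ _, fun _ _ => rfl⟩
      have h2 : j ∈ fib i := by
        have e' : fib j = fib i := by simpa [fib] using e
        rwa [e'] at this
      exact (Finset.mem_filter.1 h2).2
    · intro e
      ext k
      simp only [Finset.mem_filter, Finset.mem_univ, true_and]
      exact ⟨fun hk g hg => (hk g hg).trans (e g hg), fun hk g hg => (hk g hg).trans (e g hg).symm⟩
  have hone : ∀ i, (fib i).card = 1 := by
    intro i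
    rw [le_antisymm (hconst i _) (hconst _ i) (b := (fib (Classical.arbitrary ι)).card)]
    rcases hr.eq_one_or_self_of_dvd _ ⟨_, hsum.trans (mul_comm _ _)⟩ with h | h
    · exact h
    · refine absurd (fun g hg => ?_) hns
      have hall : fib (Classical.arbitrary ι) = Finset.univ := Finset.eq_univ_of_card _ h
      refine mem_scalars_of_smul (c := χ (Classical.arbitrary ι) g) (scalar_of_basis b fun j => ?_)
      rw [hact g hg j]
      have hj : j ∈ fib (Classical.arbitrary ι) := hall ▸ Finset.mem_univ j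
      rw [(Finset.mem_filter.1 hj).2 g hg]
  have hinj : ∀ i j, (∀ g ∈ N, χ i g = χ j g) → i = j := fun i j h =>
    Finset.card_le_one.1 (hone j).le i (Finset.mem_filter.2 ⟨Finset.mem_univ _, h⟩) j
      (Finset.mem_filter.2 ⟨Finset.mem_univ _, fun _ _ => rfl⟩)
  refine ⟨⟨N, b, χ, hle, hn, hact, hinj, fun h hh i => ?_⟩, fun x hx y hy => Units.ext (Matrix.toLin'.injective
    (b.ext fun i => ?_))⟩
  swap
  · simp only [Matrix.toLin'_apply]
    rw [← mulVec_mul, ← mulVec_mul, hact y hy i, hact x hx i, Matrix.mulVec_smul, Matrix.mulVec_smul, hact x hx i,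
      hact y hy i, smul_comm]
  have hbi : b i ∈ Esp (χ i) := fun g hg => hact g hg i
  have h1 := hmove h hh _ _ hbi
  rw [hEsp] at h1
  by_cases hex : ∃ j, ∀ g ∈ N, χ j g = χ i (h⁻¹ * g * h)
  · obtain ⟨j, hj⟩ := hex
    have hs : {k | ∀ g ∈ N, χ k g = χ i (h⁻¹ * g * h)} = {j} := by
      ext k
      refine ⟨fun hk => hinj k j fun g hg => (hk g hg).trans (hj g hg).symm, fun hk => ?_⟩
      rw [Set.mem_singleton_iff.1 hk]; exact hj
    rw [hs, Set.image_singleton, Submodule.mem_span_singleton] at h1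
    obtain ⟨c, hc⟩ := h1
    exact ⟨j, c, hc.symm⟩
  · exfalso
    have hs : {k | ∀ g ∈ N, χ k g = χ i (h⁻¹ * g * h)} = ∅ :=
      Set.eq_empty_of_forall_notMem fun k hk => hex ⟨k, hk⟩
    rw [hs, Set.image_empty, Submodule.span_empty, Submodule.mem_bot] at h1
    exact b.ne_zero i (mulVec_injective h (by simpa using h1))

theorem semilinear_or_abs [Finite F] (hr : (Fintype.card ι).Prime) {H N : Subgroup (GL ι F)} (hle : N ≤ H)
    (hn : Normalised H N) (hns : ¬ N ≤ scalars ι F) (hi : Irr N) :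
    (Semilinear H ∧ Comm N) ∨ ActsAbsolutelyIrreducibly (matrixSet N) := by
  classical
  haveI : Nonempty ι := Fintype.card_pos_iff.1 hr.pos
  haveI : Fintype F := Fintype.ofFinite F
  let C : Subalgebra F M :=
    { carrier := {A | ∀ g ∈ N, A * mat g = mat g * A}
      mul_mem' := fun {A B} hA hB g hg => by rw [mul_assoc, hB g hg, ← mul_assoc, hA g hg, mul_assoc]
      add_mem' := fun {A B} hA hB g hg => by rw [add_mul, mul_add, hA g hg, hB g hg]
      algebraMap_mem' := fun c g _ => Algebra.commutes c (mat g) }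
  have hker : ∀ A ∈ C, A ≠ 0 → ∀ v : ι → F, A *ᵥ v = 0 → v = 0 := by
    intro A hA hA0 v hv
    let W : Submodule F (ι → F) := LinearMap.ker (Matrix.toLin' A)
    have hW : Inv N W := by
      intro g hg u hu
      rw [LinearMap.mem_ker, Matrix.toLin'_apply] at hu ⊢
      rw [Matrix.mulVec_mulVec, hA g hg, ← Matrix.mulVec_mulVec, hu, Matrix.mulVec_zero]
    rcases hi W hW with h | h
    · exact (Submodule.mem_bot F).1 (h ▸ (LinearMap.mem_ker.2 (by rw [Matrix.toLin'_apply, hv]) : v ∈ W))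
    · exact absurd (Matrix.toLin'.injective ((LinearMap.ker_eq_top.1 h).trans (map_zero _).symm)) hA0
  haveI : IsDomain C := by
    haveI : NoZeroDivisors C := ⟨fun {A B} h => by
      by_contra hcon
      push Not at hcon
      have hA : (A : M) ≠ 0 := fun e => hcon.1 (Subtype.ext e)
      refine hcon.2 (Subtype.ext (Matrix.toLin'.injective (LinearMap.ext fun v => ?_)))
      simp only [Matrix.toLin'_apply, ZeroMemClass.coe_zero, map_zero, LinearMap.zero_apply]
      refine hker A A.2 hA _ ?_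
      rw [Matrix.mulVec_mulVec, ← Subalgebra.coe_mul, h, ZeroMemClass.coe_zero, Matrix.zero_mulVec]⟩
    exact NoZeroDivisors.to_isDomain C
  haveI : Finite C := Subtype.finite
  have hfield : IsField C := Finite.isDomain_to_isField C
  obtain ⟨v₀, hv₀⟩ : ∃ v : ι → F, v ≠ 0 := exists_ne 0
  let ev : (ι → F) → (C →ₗ[F] (ι → F)) := fun v =>
    { toFun := fun A => (A : M) *ᵥ v
      map_add' := fun A B => by rw [Subalgebra.coe_add, Matrix.add_mulVec]
      map_smul' := fun c A => by rw [Subalgebra.coe_smul, Matrix.smul_mulVec, RingHom.id_apply] }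
  have hev : ∀ v, v ≠ 0 → Function.Injective (ev v) := fun v hv => by
    refine (injective_iff_map_eq_zero _).2 fun A hA => ?_
    by_contra hA0
    exact hv (hker A A.2 (fun e => hA0 (Subtype.ext e)) v hA)
  set d := Module.finrank F C with hddef
  have hd : d ∣ Fintype.card ι := by
    rw [← Module.finrank_fintype_fun_eq_card F]
    refine dvd_finrank_of_atoms (Set.range fun v : {v : ι → F // v ≠ 0} => LinearMap.range (ev v.1))
      (fun X => ∀ A ∈ C, ∀ x ∈ X, A *ᵥ x ∈ X) ?_ ?_ ?_ ?_ ?_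
    · intro A _ x hx
      rw [(Submodule.mem_bot F).1 hx, Matrix.mulVec_zero]; exact zero_mem _
    · rintro X _ hX ⟨v, rfl⟩ A hA x hx
      obtain ⟨y, hy, _, ⟨B, rfl⟩, rfl⟩ := Submodule.mem_sup.1 hx
      rw [Matrix.mulVec_add]
      refine Submodule.add_mem_sup (hX A hA y hy) ⟨(⟨A, hA⟩ : C) * B, ?_⟩
      show ((⟨A, hA⟩ * B : C) : M) *ᵥ v.1 = A *ᵥ ((B : M) *ᵥ v.1)
      rw [Matrix.mulVec_mulVec]; rfl
    · rintro X _ hX ⟨v, rfl⟩
      by_cases h0 : LinearMap.range (ev v.1) ⊓ X = ⊥
      · exact Or.inl h0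
      right
      obtain ⟨x, ⟨⟨B, rfl⟩, hxX⟩, hx0⟩ := Submodule.exists_mem_ne_zero_of_ne_bot h0
      have hB : B ≠ 0 := fun e => hx0 (by rw [e, map_zero])
      obtain ⟨B', hB'⟩ := hfield.mul_inv_cancel hB
      rintro _ ⟨A, rfl⟩
      have := hX ((A * B' : C) : M) (A * B').2 _ hxX
      show (A : M) *ᵥ v.1 ∈ X
      have e : ((A * B' : C) : M) *ᵥ ((B : M) *ᵥ v.1) = (A : M) *ᵥ v.1 := by
        rw [Matrix.mulVec_mulVec, ← Subalgebra.coe_mul, mul_assoc, hfield.mul_comm B' B, hB', mul_one]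
      rwa [← e]
    · rintro _ ⟨v, rfl⟩
      exact LinearMap.finrank_range_of_inj (hev v.1 v.2)
    · rw [← top_le_iff]
      intro x _
      by_cases hx : x = 0
      · rw [hx]; exact zero_mem _
      refine Submodule.mem_sSup_of_mem (s := LinearMap.range (ev x)) (Set.mem_range_self (⟨x, hx⟩ : {v : ι → F // v ≠ 0})) ?_
      refine ⟨1, ?_⟩
      show ((1 : C) : M) *ᵥ x = x
      rw [Subalgebra.coe_one, Matrix.one_mulVec]
  rcases hr.eq_one_or_self_of_dvd _ hd with hd1 | hdr
  · refine Or.inr (abs_iff.2 ⟨hi, fun A hA => ?_⟩)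
    obtain ⟨c, hc⟩ := (finrank_eq_one_iff_of_nonzero' (1 : C) one_ne_zero).1 hd1 ⟨A, hA⟩
    exact ⟨c, (congrArg (fun B : C => (B : M)) hc).symm⟩
  left
  have hsurj : Function.Surjective (ev v₀) :=
    (LinearMap.injective_iff_surjective_of_finrank_eq_finrank
      (by rw [Module.finrank_fintype_fun_eq_card]; exact hdr)).1 (hev v₀ hv₀)
  have hNC : ∀ g ∈ N, mat g ∈ C := fun g hg => by
    obtain ⟨B, hB⟩ := hsurj (mat g *ᵥ v₀)
    have e : mat g = (B : M) := by
      apply Matrix.toLin'.injective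
      refine LinearMap.ext fun x => ?_
      obtain ⟨A, rfl⟩ := hsurj x
      simp only [Matrix.toLin'_apply]
      show mat g *ᵥ ((A : M) *ᵥ v₀) = (B : M) *ᵥ ((A : M) *ᵥ v₀)
      have hB' : (B : M) *ᵥ v₀ = mat g *ᵥ v₀ := hB
      rw [Matrix.mulVec_mulVec, ← A.2 g hg, ← Matrix.mulVec_mulVec, ← hB', Matrix.mulVec_mulVec,
        ← Subalgebra.coe_mul, hfield.mul_comm A B, Subalgebra.coe_mul, ← Matrix.mulVec_mulVec]
    exact e ▸ B.2
  refine ⟨⟨C, N, hle, hn, ⟨fun A hA B hB => congrArg Subtype.val (hfield.mul_comm ⟨A, hA⟩ ⟨B, hB⟩),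
    fun A hA hA0 => ?_, hdr⟩, fun h hh A => ?_, fun A => Iff.rfl, hNC, hns⟩,
    fun x hx y hy => Units.ext ((Units.val_mul x y).trans
      ((hNC x hx y hy).trans (Units.val_mul y x).symm))⟩
  · obtain ⟨B, hB⟩ := hfield.mul_inv_cancel (a := (⟨A, hA⟩ : C)) fun e => hA0 (congrArg Subtype.val e)
    exact ⟨B, B.2, congrArg Subtype.val hB⟩
  · constructor
    · intro hA g hg
      have := hA _ (hn.conj' hh hg)
      simp only [mat, Units.val_mul] at this
      calc mat h * A * mat h⁻¹ * mat g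
          = mat h * (A * (mat h⁻¹ * mat g * mat h)) * mat h⁻¹ := by
            simp only [mul_assoc, mat_mul_inv, mul_one]
        _ = mat h * (mat h⁻¹ * mat g * mat h * A) * mat h⁻¹ := by rw [this]
        _ = mat g * (mat h * A * mat h⁻¹) := by simp only [← mul_assoc, mat_mul_inv, one_mul]
    · intro hA g hg
      have h2 := hA _ (hn h hh g hg)
      simp only [mat, Units.val_mul] at h2
      have h3 : mat h * A * mat h⁻¹ * (mat h * mat g * mat h⁻¹) = mat h * mat g * mat h⁻¹ * (mat h * A * mat h⁻¹) := h2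
      have h4 := congrArg (fun X => mat h⁻¹ * X * mat h) h3
      simp only [← mul_assoc, mat_inv_mul, one_mul] at h4
      simp only [mul_assoc, mat_inv_mul, mul_one] at h4
      simpa [mul_assoc, mat_inv_mul] using h4

/-- The first dichotomy. -/
theorem lines_semilinear_good [Finite F] (hr : (Fintype.card ι).Prime) {H : Subgroup (GL ι F)} (hH : Irr H) :
    Lines H ∨ Semilinear H ∨ Good H := by
  by_cases h1 : Lines H
  · exact Or.inl h1
  by_cases h2 : Semilinear H
  · exact Or.inr (Or.inl h2)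
  exact Or.inr (Or.inr fun N hle hn hns => (semilinear_or_abs hr hle hn hns
    ((lines_or_irr hr hH hle hn hns).resolve_left fun h => h1 h.1)).resolve_left fun h => h2 h.1)

end Cfsg.Agent.PrimeDim
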