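import Cfsg.Agent.PrimeDim.Clifford

/-!
Forms fixed by absolutely irreducible groups, in matrix language: `gᵀ * G * (g.map σ) = G`.
-/

set_option autoImplicit false

namespace Cfsg.Agent.PrimeDim

open Matrix Cfsg.Geo
open scoped MatrixGroups

variable {ι : Type} [Fintype ι] [DecidableEq ι] {F : Type*} [Field F]

local notation "M" => Matrix ι ι F

/-- The pullback of a Gram matrix. -/
def act (σ : F ≃+* F) (G g : Matrix ι ι F) : Matrix ι ι F := gᵀ * G * g.map σ

/-- All members of the group fix the Gram matrix. -/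
def Fixes (σ : F ≃+* F) (N : Subgroup (GL ι F)) (G : Matrix ι ι F) : Prop := ∀ g ∈ N, act σ G (mat g) = G

theorem act_mul (σ : F ≃+* F) (G g h : M) : act σ G (g * h) = act σ (act σ G g) h := by
  simp only [act, Matrix.transpose_mul, Matrix.map_mul, mul_assoc]

theorem act_smul (σ : F ≃+* F) (c : F) (G g : M) : act σ (c • G) g = c • act σ G g := by
  simp only [act, Matrix.mul_smul, Matrix.smul_mul]

theorem map_isUnit (σ : F ≃+* F) (g : GL ι F) : IsUnit ((mat g).map σ) :=
  (g.isUnit.map (σ.toRingHom.mapMatrix : M →+* M))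

theorem isUnit_transpose {A : M} (h : IsUnit A) : IsUnit Aᵀ := by
  rw [Matrix.isUnit_iff_isUnit_det] at h ⊢
  rwa [Matrix.det_transpose]

theorem isUnit_of_det {A : M} (h : A.det ≠ 0) : IsUnit A :=
  (Matrix.isUnit_iff_isUnit_det A).2 (isUnit_iff_ne_zero.2 h)

theorem det_act (σ : F ≃+* F) (G g : M) : (act σ G g).det = g.det * G.det * σ g.det := by
  rw [act, Matrix.det_mul, Matrix.det_mul, Matrix.det_transpose]
  congr 1
  exact (σ.toRingHom.map_det g).symm

/-- Two forms fixed by an absolutely irreducible group are proportional. -/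
theorem unique_form {σ : F ≃+* F} {N : Subgroup (GL ι F)} (hN : ActsAbsolutelyIrreducibly (matrixSet N)) {G G' : M}
    (hG : G.det ≠ 0) (h : Fixes σ N G) (h' : Fixes σ N G') : ∃ c : F, G' = c • G := by
  obtain ⟨U, hU⟩ := isUnit_of_det hG
  set A : M := (↑U⁻¹ : M) * G' with hA
  have hGA : G * A = G' := by rw [hA, ← hU, ← mul_assoc, Units.mul_inv, one_mul]
  have key : ∀ g ∈ N, A * (mat g).map σ = (mat g).map σ * A := by
    intro g hg
    have e1 : (mat g)ᵀ * G * (A * (mat g).map σ) = G * A := by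
      rw [hGA]
      calc (mat g)ᵀ * G * (A * (mat g).map σ) = (mat g)ᵀ * (G * A) * (mat g).map σ := by simp only [mul_assoc]
        _ = G' := by rw [hGA]; exact h' g hg
    have e2 : (mat g)ᵀ * G * ((mat g).map σ * A) = G * A := by
      conv_rhs => rw [← h g hg]
      simp only [act, mul_assoc]
    exact ((isUnit_transpose g.isUnit).mul (isUnit_of_det hG)).mul_right_inj.1 (e1.trans e2.symm)
  obtain ⟨c, hc⟩ := (abs_iff.1 hN).2 (A.map σ.symm) fun g hg => by
    have := congrArg (fun X : M => X.map σ.symm) (key g hg)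
    simpa [Matrix.map_mul, Matrix.map_map, Function.comp_def] using this
  refine ⟨σ c, ?_⟩
  have hA' : A = σ c • (1 : M) := by
    have := congrArg (fun X : M => X.map σ) hc
    simp only [Matrix.map_map] at this
    rw [show (σ ∘ σ.symm : F → F) = id from funext σ.apply_symm_apply, Matrix.map_id] at this
    rw [this]
    ext i j
    by_cases hij : i = j <;> simp [hij]
  rw [← hGA, hA', Matrix.mul_smul, mul_one]

/-- The normaliser of an absolutely irreducible group consists of similitudes of its forms. -/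
theorem similar {σ : F ≃+* F} {N H : Subgroup (GL ι F)} (hN : ActsAbsolutelyIrreducibly (matrixSet N))
    (hn : Normalised H N) {G : M} (hG : G.det ≠ 0) (h : Fixes σ N G) :
    ∀ g ∈ H, ∃ c : Fˣ, act σ G (mat g) = (c : F) • G := by
  intro g hg
  cases isEmpty_or_nonempty ι
  · exact ⟨1, Subsingleton.elim _ _⟩
  have h' : Fixes σ N (act σ G (mat g)) := fun x hx => by
    rw [← act_mul, mat, mat, ← Units.val_mul, show g * x = (g * x * g⁻¹) * g by group, Units.val_mul, act_mul]
    rw [show act σ G ((g * x * g⁻¹ : GL ι F) : M) = G from h _ (hn g hg x hx)]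
  obtain ⟨c, hc⟩ := unique_form hN hG h h'
  refine ⟨Units.mk0 c ?_, hc⟩
  intro e
  have h1 := congrArg Matrix.det hc
  rw [e, zero_smul, det_act] at h1
  rw [Matrix.det_zero] at h1
  have hd : (mat g).det ≠ 0 := ((Matrix.isUnit_iff_isUnit_det _).1 g.isUnit).ne_zero
  exact mul_ne_zero (mul_ne_zero hd hG) ((map_ne_zero σ).2 hd) h1

/-- The sesquilinear form of a Gram matrix. -/
def formG (σ : F ≃+* F) (G : M) (u v : ι → F) : F := u ⬝ᵥ (G *ᵥ fun i => σ (v i))

theorem map_mulVec_comp (σ : F ≃+* F) (g : M) (v : ι → F) :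
    (fun i => σ ((g *ᵥ v) i)) = g.map σ *ᵥ fun i => σ (v i) := by
  funext i
  exact RingHom.map_mulVec σ.toRingHom g v i

theorem formG_mulVec (σ : F ≃+* F) (G g : M) (u v : ι → F) :
    formG σ G (g *ᵥ u) (g *ᵥ v) = formG σ (act σ G g) u v := by
  rw [formG, formG, map_mulVec_comp, Matrix.mulVec_mulVec, act, mul_assoc gᵀ, ← Matrix.mulVec_mulVec _ gᵀ]
  conv_rhs => rw [Matrix.dotProduct_mulVec, Matrix.vecMul_transpose]

theorem single_comp (σ : F ≃+* F) (j : ι) :
    (fun i => σ ((Pi.single j 1 : ι → F) i)) = (Pi.single j 1 : ι → F) := by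
  funext i
  by_cases h : i = j
  · subst h; simp
  · simp [h]

theorem formG_single (σ : F ≃+* F) (G : M) (i j : ι) :
    formG σ G (Pi.single i 1) (Pi.single j 1) = G i j := by
  rw [formG, single_comp, Matrix.mulVec_single_one, single_dotProduct, one_mul, Matrix.col_apply]

theorem formG_ext {σ : F ≃+* F} {G G' : M} (h : ∀ u v, formG σ G u v = formG σ G' u v) : G = G' := by
  ext i j
  rw [← formG_single σ G i j, h, formG_single]

theorem formG_smul (σ : F ≃+* F) (c : F) (G : M) (u v : ι → F) : formG σ (c • G) u v = c * formG σ G u v := by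
  rw [formG, formG, Matrix.smul_mulVec, dotProduct_smul, smul_eq_mul]

/-- A form that is linear in the first and semilinear in the second argument. -/
structure IsSesq (σ : F ≃+* F) (f : (ι → F) → (ι → F) → F) : Prop where
  add_left : ∀ x y v, f (x + y) v = f x v + f y v
  smul_left : ∀ (c : F) (x v : ι → F), f (c • x) v = c * f x v
  add_right : ∀ v x y, f v (x + y) = f v x + f v y
  smul_right : ∀ (c : F) (v x : ι → F), f v (c • x) = σ c * f v x

theorem isSesq_of_unitary {σ : F ≃+* F} {f : (ι → F) → (ι → F) → F} (hf : IsUnitaryForm σ f) : IsSesq σ f :=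
  ⟨hf.add_left, hf.smul_left, fun v x y => by rw [hf.herm, hf.add_left, map_add, ← hf.herm, ← hf.herm],
    fun c v x => by rw [hf.herm, hf.smul_left, map_mul, ← hf.herm]⟩

theorem isSesq_of_bilinear {f : (ι → F) → (ι → F) → F} (hf : IsBilinearForm f) : IsSesq (RingEquiv.refl F) f :=
  ⟨hf.add_left, hf.smul_left, hf.add_right, hf.smul_right⟩

theorem IsSesq.eq_formG {σ : F ≃+* F} {f : (ι → F) → (ι → F) → F} (hf : IsSesq σ f) (u v : ι → F) :
    f u v = formG σ (gramMatrix f) u v := by
  let L : (ι → F) → (ι → F) →ₗ[F] F := fun w =>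
    { toFun := fun x => f x w, map_add' := fun a b => hf.add_left a b w, map_smul' := fun c a => hf.smul_left c a w }
  let R : (ι → F) → (ι → F) →+ F := fun w => AddMonoidHom.mk' (fun x => f w x) (hf.add_right w)
  have h1 : ∀ w, f u w = ∑ a, u a * f (Pi.single a 1) w := fun w => by
    conv_lhs => rw [pi_eq_sum_univ' u]
    show L w _ = _
    rw [map_sum]
    refine Finset.sum_congr rfl fun a _ => ?_
    rw [map_smul, smul_eq_mul]; rfl
  have h2 : ∀ w, f w v = ∑ b, σ (v b) * f w (Pi.single b 1) := fun w => by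
    conv_lhs => rw [pi_eq_sum_univ' v]
    show R w _ = _
    rw [map_sum]
    exact Finset.sum_congr rfl fun b _ => hf.smul_right _ _ _
  rw [h1, formG]
  simp only [dotProduct, Matrix.mulVec, gramMatrix]
  refine Finset.sum_congr rfl fun a _ => ?_
  rw [h2]
  congr 1
  exact Finset.sum_congr rfl fun b _ => mul_comm _ _

theorem IsSesq.det_ne_zero {σ : F ≃+* F} {f : (ι → F) → (ι → F) → F} (hf : IsSesq σ f)
    (hnd : IsNondegenerateForm f) : (gramMatrix f).det ≠ 0 := by
  intro h
  obtain ⟨v, hv, hv0⟩ := Matrix.exists_vecMul_eq_zero_iff.2 h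
  obtain ⟨-, x, hx⟩ := hnd v hv
  exact hx (by rw [hf.eq_formG, formG, Matrix.dotProduct_mulVec, hv0, zero_dotProduct])

theorem IsSesq.fixes_iff {σ : F ≃+* F} {f : (ι → F) → (ι → F) → F} (hf : IsSesq σ f) (g : GL ι F) :
    (∀ u v, f (mat g *ᵥ u) (mat g *ᵥ v) = f u v) ↔ act σ (gramMatrix f) (mat g) = gramMatrix f := by
  constructor
  · intro h
    refine formG_ext (σ := σ) fun u v => ?_
    rw [← formG_mulVec, ← hf.eq_formG, ← hf.eq_formG, h]
  · intro h u v
    rw [hf.eq_formG, formG_mulVec, h, ← hf.eq_formG]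

theorem IsSesq.mem_similarity {σ : F ≃+* F} {f : (ι → F) → (ι → F) → F} (hf : IsSesq σ f) {g : GL ι F} {c : Fˣ}
    (h : act σ (gramMatrix f) (mat g) = (c : F) • gramMatrix f) : g ∈ similarityGroup f :=
  ⟨c, fun u v => by rw [hf.eq_formG, formG_mulVec, h, formG_smul, ← hf.eq_formG]⟩

/-- A symmetric or skew Gram matrix with zero diagonal in odd degree is singular. -/
theorem det_eq_zero_of_alt (hodd : Odd (Fintype.card ι)) {G : M} (hs : Gᵀ = -G) (hd : ∀ i, G i i = 0) :
    G.det = 0 := by
  rw [Matrix.det_apply]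
  refine Finset.sum_involution (fun π _ => π⁻¹) ?_ ?_ (fun π _ => Finset.mem_univ _) (fun π _ => inv_inv π)
  · intro π _
    rw [Equiv.Perm.sign_inv, ← smul_add]
    have : ∏ i, G (π⁻¹ i) i = - ∏ i, G (π i) i := by
      rw [← Equiv.prod_comp π]
      calc ∏ i, G (π⁻¹ (π i)) (π i) = ∏ i, -G (π i) i := Finset.prod_congr rfl fun i _ => by
            rw [Equiv.Perm.coe_inv, Equiv.symm_apply_apply]; exact congrFun (congrFun hs (π i)) i
        _ = _ := by rw [Finset.prod_neg, Finset.card_univ, hodd.neg_one_pow, neg_one_mul]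
    rw [this, add_neg_cancel, smul_zero]
  · intro π _ hne hinv
    obtain ⟨i, hi⟩ : ∃ i, π i = i := by
      by_contra hcon
      push Not at hcon
      have hsupp : π.support = Finset.univ := Finset.eq_univ_of_forall fun i => Equiv.Perm.mem_support.2 (hcon i)
      have hinvol : π ^ 2 = 1 := by
        rw [pow_two]
        conv_lhs => arg 1; rw [← hinv]
        exact inv_mul_cancel π
      have h2 : 2 ∣ Fintype.card ι := by
        rw [← Finset.card_univ, ← hsupp, ← Equiv.Perm.sum_cycleType]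
        refine Multiset.dvd_sum fun n hn => ?_
        have := (Equiv.Perm.dvd_of_mem_cycleType hn).trans (orderOf_dvd_of_pow_eq_one hinvol)
        rcases (Nat.dvd_prime Nat.prime_two).1 this with h | h
        · exact absurd (Equiv.Perm.two_le_of_mem_cycleType hn) (by omega)
        · rw [h]
      exact (Nat.not_even_iff_odd.2 hodd) (even_iff_two_dvd.2 h2)
    exact hne (by rw [Finset.prod_eq_zero (Finset.mem_univ i) (by rw [hi, hd]), smul_zero])

/-- No absolutely irreducible group of odd degree fixes a symmetric form in characteristic two. -/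
theorem no_symm_char_two [Finite F] (h2 : (2 : F) = 0) (hodd : Odd (Fintype.card ι)) (hgt : 1 < Fintype.card ι)
    {N : Subgroup (GL ι F)} (hN : Irr N) {G : M} (hG : G.det ≠ 0) (hs : Gᵀ = G)
    (h : Fixes (RingEquiv.refl F) N G) : False := by
  classical
  haveI : CharP F 2 := CharTwo.of_one_ne_zero_of_two_eq_zero one_ne_zero h2
  haveI : Fintype F := Fintype.ofFinite F
  have hsq : ∀ a : F, ∃ b : F, b * b = a := fun a => by
    obtain ⟨b, hb⟩ := (Finite.injective_iff_surjective.1 (frobenius_inj F 2)) a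
    exact ⟨b, by rw [← hb, frobenius_def, pow_two]⟩
  choose rt hrt using hsq
  let L : (ι → F) →ₗ[F] F := ∑ i, rt (G i i) • LinearMap.proj i
  have hsymm : ∀ u v : ι → F, u ⬝ᵥ (G *ᵥ v) = v ⬝ᵥ (G *ᵥ u) := fun u v => by
    rw [Matrix.dotProduct_mulVec, ← Matrix.mulVec_transpose, hs, dotProduct_comm]
  let φ : (ι → F) →+ F := AddMonoidHom.mk' (fun v => v ⬝ᵥ (G *ᵥ v)) fun u v => by
    rw [Matrix.mulVec_add, dotProduct_add, add_dotProduct, add_dotProduct, hsymm v u]
    linear_combination (u ⬝ᵥ (G *ᵥ v)) * h2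
  have hL : ∀ v, v ⬝ᵥ (G *ᵥ v) = L v * L v := by
    intro v
    have e : L v = ∑ i, rt (G i i) * v i := by simp [L]
    rw [e, ← pow_two, sum_pow_char 2]
    show φ v = _
    conv_lhs => rw [pi_eq_sum_univ' v, map_sum]
    refine Finset.sum_congr rfl fun i _ => ?_
    show (v i • (Pi.single i 1 : ι → F)) ⬝ᵥ (G *ᵥ (v i • (Pi.single i 1 : ι → F))) = _
    rw [Matrix.mulVec_smul, smul_dotProduct, dotProduct_smul, Matrix.mulVec_single_one, single_dotProduct,
      Matrix.col_apply, mul_pow, pow_two, pow_two, hrt, smul_eq_mul, smul_eq_mul, one_mul]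
    ring
  by_cases hL0 : L = 0
  · refine hG (det_eq_zero_of_alt hodd (by ext a b; rw [hs, Matrix.neg_apply, CharTwo.neg_eq]) fun i => ?_)
    have := hL (Pi.single i 1)
    rwa [hL0, LinearMap.zero_apply, zero_mul, Matrix.mulVec_single_one, single_dotProduct, one_mul,
      Matrix.col_apply] at this
  have hW : Inv N (LinearMap.ker L) := by
    intro g hg v hv
    rw [LinearMap.mem_ker] at hv ⊢
    have h1 : (mat g *ᵥ v) ⬝ᵥ (G *ᵥ (mat g *ᵥ v)) = v ⬝ᵥ (G *ᵥ v) := by
      have h3 := formG_mulVec (RingEquiv.refl F) G (mat g) v v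
      rwa [h g hg] at h3
    rw [hL, hL, hv, mul_zero] at h1
    exact mul_self_eq_zero.1 h1
  rcases hN _ hW with h1 | h1
  · have h3 := LinearMap.finrank_range_add_finrank_ker L
    rw [h1, finrank_bot, Module.finrank_fintype_fun_eq_card, add_zero] at h3
    have h4 := Submodule.finrank_le (LinearMap.range L)
    rw [Module.finrank_self] at h4
    omega
  · exact hL0 (LinearMap.ker_eq_top.1 h1)

/-- The conjugate group. -/
noncomputable abbrev conjGrp (B : GL ι F) (N : Subgroup (GL ι F)) : Subgroup (GL ι F) :=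
  N.map (MulAut.conj B).toMonoidHom

theorem abs_conj {N : Subgroup (GL ι F)} (hN : ActsAbsolutelyIrreducibly (matrixSet N)) (B : GL ι F) :
    ActsAbsolutelyIrreducibly (matrixSet (conjGrp B N)) := by
  obtain ⟨hi, hc⟩ := abs_iff.1 hN
  refine abs_iff.2 ⟨fun W hW => ?_, fun A hA => ?_⟩
  · have h1 : Inv N (tr B⁻¹ W) := by
      intro g hg v hv
      rw [mem_tr, inv_inv] at hv ⊢
      have := hW _ ⟨g, hg, rfl⟩ _ hv
      rw [mulVec_mul] at this ⊢
      simpa [MulAut.conj_apply] using this
    rcases hi _ h1 with h | h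
    · left
      rw [eq_bot_iff]
      intro v hv
      have h2 : mat B⁻¹ *ᵥ v ∈ tr B⁻¹ W := by rw [mem_tr, inv_inv, mulVec_inv_cancel]; exact hv
      rw [h, Submodule.mem_bot] at h2
      rw [Submodule.mem_bot]
      exact mulVec_injective B⁻¹ (h2.trans (Matrix.mulVec_zero _).symm)
    · right
      rw [eq_top_iff]
      intro v _
      have h2 : mat B⁻¹ *ᵥ v ∈ tr B⁻¹ W := h ▸ Submodule.mem_top
      rwa [mem_tr, inv_inv, mulVec_inv_cancel] at h2
  · obtain ⟨c, hc'⟩ := hc (mat B⁻¹ * A * mat B) fun g hg => by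
      have h1 : A * (mat B * mat g * mat B⁻¹) = mat B * mat g * mat B⁻¹ * A := by
        have := hA _ ⟨g, hg, rfl⟩
        simpa [MulAut.conj_apply, mat] using this
      calc mat B⁻¹ * A * mat B * mat g = mat B⁻¹ * (A * (mat B * mat g * mat B⁻¹)) * mat B := by
            simp only [mul_assoc, mat_inv_mul, mul_one]
        _ = mat g * (mat B⁻¹ * A * mat B) := by rw [h1]; simp only [← mul_assoc, mat_inv_mul, one_mul]
    refine ⟨c, ?_⟩
    have h2 := congrArg (fun X => mat B * X * mat B⁻¹) hc'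
    simpa [← mul_assoc, mat_mul_inv, mul_assoc (A : M)] using h2

theorem fixes_conj {σ : F ≃+* F} {N : Subgroup (GL ι F)} {G : M} (h : Fixes σ N G) (B : GL ι F) :
    Fixes σ (conjGrp B N) (act σ G (mat B⁻¹)) := by
  rintro _ ⟨g, hg, rfl⟩
  rw [← act_mul]
  have e : mat B⁻¹ * mat ((MulAut.conj B).toMonoidHom g) = mat g * mat B⁻¹ := by
    simp only [mat, ← Units.val_mul]
    congr 1
    simp [mul_assoc]
  rw [e, act_mul, h g hg]

end Cfsg.Agent.PrimeDim
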