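import Cfsg.Agent.PrimeDim.Rational
import Cfsg.Agent.PrimeDim.Extra

/-!
The special linear group is contained in none of the geometric subgroups of prime degree.
-/

set_option autoImplicit false

namespace Cfsg.Agent.PrimeDim

open Matrix Cfsg.Geo
open scoped MatrixGroups

variable {ι : Type} [Fintype ι] [DecidableEq ι] {F : Type*} [Field F]

local notation "M" => Matrix ι ι F

/-- An elementary matrix as a group element. -/
noncomputable def el (i j : ι) (h : i ≠ j) (a : F) : GL ι F :=
  Matrix.GeneralLinearGroup.mkOfDetNeZero (Matrix.transvection i j a)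
    (by rw [Matrix.det_transvection_of_ne _ _ h]; exact one_ne_zero)

theorem mat_el (i j : ι) (h : i ≠ j) (a : F) : mat (el i j h a) = Matrix.transvection i j a := rfl

theorem el_mem (i j : ι) (h : i ≠ j) (a : F) : el i j h a ∈ specialLinear ι F :=
  Units.ext (Matrix.det_transvection_of_ne i j h a)

theorem el_inv (i j : ι) (h : i ≠ j) (a : F) : (el i j h a)⁻¹ = el i j h (-a) := by
  refine inv_eq_of_mul_eq_one_right (Units.ext ?_)
  show Matrix.transvection i j a * Matrix.transvection i j (-a) = 1
  rw [Matrix.transvection_mul_transvection_same _ _ h, add_neg_cancel, Matrix.transvection_zero]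

theorem el_mulVec (i j : ι) (h : i ≠ j) (a : F) (v : ι → F) :
    mat (el i j h a) *ᵥ v = v + (a * v j) • (Pi.single i 1 : ι → F) := by
  rw [mat_el, Matrix.transvection, Matrix.add_mulVec, Matrix.one_mulVec]
  congr 1
  funext k
  by_cases hk : k = i
  · subst hk; simp [Matrix.mulVec, dotProduct, Matrix.single_apply, mul_comm]
  · simp [Matrix.mulVec, dotProduct, Ne.symm hk, hk]

theorem mem_sl_conj {P g : GL ι F} (h : g ∈ specialLinear ι F) : P * g * P⁻¹ ∈ specialLinear ι F := by
  have h' : Matrix.GeneralLinearGroup.det g = 1 := h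
  show Matrix.GeneralLinearGroup.det (P * g * P⁻¹) = 1
  rw [map_mul, map_mul, h', mul_one, ← map_mul, mul_inv_cancel, map_one]

/-- A matrix with image in a plane is singular in degree above two. -/
theorem not_isUnit_of_two (h3 : 2 < Fintype.card ι) {A : M} {x y : ι → F}
    (h : ∀ v, A *ᵥ v ∈ Submodule.span F ({x, y} : Set (ι → F))) : ¬ IsUnit A := by
  classical
  intro hA
  have htop : (⊤ : Submodule F (ι → F)) ≤ Submodule.span F ({x, y} : Set (ι → F)) := fun v _ => by
    obtain ⟨u, hu⟩ := Matrix.mulVec_surjective_iff_isUnit.2 hA v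
    exact hu ▸ h u
  have h1 := Submodule.finrank_mono htop
  rw [finrank_top, Module.finrank_fintype_fun_eq_card] at h1
  have h2 := finrank_span_le_card (R := F) ({x, y} : Set (ι → F))
  have h3' : ({x, y} : Set (ι → F)).toFinset.card ≤ 2 := by
    simpa using Finset.card_le_two (a := x) (b := y)
  omega

theorem sl_not_stab {W : Submodule F (ι → F)} (hb : W ≠ ⊥) (ht : W ≠ ⊤) :
    ¬ specialLinear ι F ≤ subspaceStabilizer W := by
  intro hle
  have hinv : ∀ g ∈ specialLinear ι F, ∀ v ∈ W, mat g *ᵥ v ∈ W := fun g hg v hv => ((hle hg : _) v).1 hv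
  obtain ⟨v, hv, hv0⟩ := W.exists_mem_ne_zero_of_ne_bot hb
  obtain ⟨j, hj⟩ : ∃ j, v j ≠ 0 := Function.ne_iff.1 hv0
  have hE : ∀ i ≠ j, (Pi.single i 1 : ι → F) ∈ W := by
    intro i hi
    have h1 := hinv _ (el_mem i j hi (v j)⁻¹) v hv
    rw [el_mulVec, inv_mul_cancel₀ hj, one_smul] at h1
    simpa using sub_mem h1 hv
  apply ht
  rw [eq_top_iff, ← (Pi.basisFun F ι).span_eq, Submodule.span_le]
  rintro _ ⟨i, rfl⟩
  rw [Pi.basisFun_apply]
  by_cases hi : i = j
  · subst hi
    have e : v i • (Pi.single i 1 : ι → F) = v - ∑ k ∈ Finset.univ.erase i, v k • (Pi.single k 1 : ι → F) := by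
      rw [eq_sub_iff_add_eq, Finset.add_sum_erase _ (fun k => v k • (Pi.single k 1 : ι → F)) (Finset.mem_univ i)]
      exact (pi_eq_sum_univ' v).symm
    have h1 : v i • (Pi.single i 1 : ι → F) ∈ W := e ▸ sub_mem hv
      (Submodule.sum_mem _ fun k hk => W.smul_mem _ (hE k (Finset.ne_of_mem_erase hk)))
    have := W.smul_mem (v i)⁻¹ h1
    rwa [smul_smul, inv_mul_cancel₀ hj, one_smul] at this
  · exact hE i hi

/-- The change of basis of a basis. -/
noncomputable def ofBasis (b : Module.Basis ι F (ι → F)) : GL ι F :=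
  (Matrix.linearIndependent_cols_iff_isUnit.1
    (b.linearIndependent : LinearIndependent F (Matrix.of fun i j => b j i : M).col)).unit

theorem mat_ofBasis (b : Module.Basis ι F (ι → F)) : mat (ofBasis b) = Matrix.of fun i j => b j i := rfl

theorem ofBasis_single (b : Module.Basis ι F (ι → F)) (j : ι) : mat (ofBasis b) *ᵥ Pi.single j 1 = b j := by
  rw [mat_ofBasis, Matrix.mulVec_single_one]; rfl

theorem ofBasis_inv (b : Module.Basis ι F (ι → F)) (v : ι → F) : mat (ofBasis b)⁻¹ *ᵥ v = b.repr v := by
  have key : (Matrix.toLin' (mat (ofBasis b)⁻¹)) = (Finsupp.linearEquivFunOnFinite F F ι).toLinearMap.comp b.repr.toLinearMap := by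
    refine b.ext fun i => ?_
    rw [Matrix.toLin'_apply, ← ofBasis_single b i, inv_mulVec_cancel, ofBasis_single]
    rw [LinearMap.comp_apply, LinearEquiv.coe_coe, LinearEquiv.coe_coe, b.repr_self]
    exact (Finsupp.single_eq_pi_single i 1).symm
  have := LinearMap.congr_fun key v
  rw [Matrix.toLin'_apply] at this
  exact this

theorem sl_not_decomp {t : ℕ} {D : Fin t → Submodule F (ι → F)} (b : Module.Basis ι F (ι → F)) (e : Fin t ≃ ι)
    (hD : ∀ k, D k = Submodule.span F {b (e k)}) (h3 : 1 < Fintype.card ι) :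
    ¬ specialLinear ι F ≤ decompositionStabilizer D := by
  intro hle
  obtain ⟨i, j, hij⟩ := Fintype.exists_pair_of_one_lt_card h3
  obtain ⟨π, hπ⟩ := hle (mem_sl_conj (P := ofBasis b) (el_mem i j hij 1))
  obtain ⟨k, rfl⟩ := e.surjective j
  have h1 : mat (ofBasis b * el i (e k) hij 1 * (ofBasis b)⁻¹) *ᵥ b (e k) = b i + b (e k) := by
    rw [← mulVec_mul, ← mulVec_mul, ← ofBasis_single b (e k), inv_mulVec_cancel, el_mulVec, one_mul, Pi.single_eq_same,
      one_smul, Matrix.mulVec_add, ofBasis_single, ofBasis_single, add_comm]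
  have h2 : b i + b (e k) ∈ D (π k) := by
    rw [← hπ k]
    exact ⟨b (e k), by rw [hD]; exact Submodule.subset_span rfl, by rw [Matrix.toLin'_apply]; exact h1⟩
  rw [hD, Submodule.mem_span_singleton] at h2
  obtain ⟨c, hc⟩ := h2
  have hi := congrArg (fun v => b.repr v i) hc
  have hk := congrArg (fun v => b.repr v (e k)) hc
  simp [hij, Ne.symm hij] at hi hk
  by_cases hc' : e (π k) = i
  · simp [hc', hij] at hk
  · simp [hc'] at hi

theorem scalar_of_commute_el {A : M} [Nonempty ι]
    (h : ∀ i j (hij : i ≠ j) (a : F), A * mat (el i j hij a) = mat (el i j hij a) * A) : ∃ c : F, A = c • (1 : M) := by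
  obtain ⟨c, hc⟩ := Matrix.mem_range_scalar_of_commute_transvectionStruct
    fun t => show Commute t.toMatrix A from (h t.i t.j t.hij t.c).symm
  exact ⟨c, by rw [← hc, Matrix.scalar_apply, Matrix.smul_one_eq_diagonal]⟩

theorem sl_not_field {r : ℕ} (hr : 1 < r) (h3 : 2 < Fintype.card ι) {K : Subalgebra F M} (hK : IsFieldSubalgebra r K) :
    ¬ specialLinear ι F ≤ subalgebraNormalizer K := by
  intro hle
  haveI : Nonempty ι := Fintype.card_pos_iff.1 (by omega)
  have hscal : ∀ k ∈ K, ∃ c : F, k = c • (1 : M) := by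
    intro k hk
    refine scalar_of_commute_el fun i j hij a => ?_
    set t := el i j hij a with ht
    have hD : mat t * k * mat t⁻¹ - k ∈ K := sub_mem ((hle (el_mem i j hij a) k).1 hk) hk
    have h0 : mat t * k * mat t⁻¹ - k = 0 := by
      by_contra hne
      obtain ⟨y, -, hy⟩ := hK.inv _ hD hne
      refine not_isUnit_of_two h3 (x := Pi.single i 1) (y := k *ᵥ Pi.single i 1) (fun v => ?_) (.of_mul_eq_one y hy)
      have e : (mat t * k * mat t⁻¹ - k) *ᵥ v = (a * (k *ᵥ (mat t⁻¹ *ᵥ v)) j) • (Pi.single i 1 : ι → F) +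
          (-a * v j) • (k *ᵥ Pi.single i 1) := by
        rw [Matrix.sub_mulVec, ← Matrix.mulVec_mulVec, ← Matrix.mulVec_mulVec, ht, el_mulVec i j hij a, el_inv,
          el_mulVec i j hij (-a), Matrix.mulVec_add, Matrix.mulVec_smul]
        abel
      rw [e]
      exact add_mem (Submodule.smul_mem _ _ (Submodule.subset_span (by simp)))
        (Submodule.smul_mem _ _ (Submodule.subset_span (by simp)))
    calc k * mat t = mat t * k * mat t⁻¹ * mat t := by rw [sub_eq_zero.1 h0]
      _ = mat t * k := by rw [mul_assoc, mat_inv_mul, mul_one]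
  have h1 : Module.finrank F K ≤ 1 := by
    refine finrank_le_one (⟨1, one_mem K⟩ : K) fun w => ?_
    obtain ⟨c, hc⟩ := hscal w.1 w.2
    exact ⟨c, Subtype.ext hc.symm⟩
  rw [hK.finrank_eq] at h1
  omega

theorem sl_not_subfield (h2 : 1 < Fintype.card ι) {F₁ : Subfield F} (hF₁ : F₁ ≠ ⊤) (P : GL ι F) :
    ¬ specialLinear ι F ≤ subfieldSubgroup F₁ P := by
  intro hle
  obtain ⟨i, j, hij⟩ := Fintype.exists_pair_of_one_lt_card h2
  refine hF₁ (eq_top_iff.2 fun a _ => ?_)
  obtain ⟨c, X, hX, h⟩ := exists_of_mem_subfieldSubgroup (hle (mem_sl_conj (P := P) (el_mem i j hij a)))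
  have e : P⁻¹ * (P * el i j hij a * P⁻¹) * P = el i j hij a := by group
  rw [e, mat_el] at h
  have h1 := congrFun (congrFun h i) j
  have h4 := congrFun (congrFun h i) i
  simp [Matrix.transvection, hij, Ne.symm hij] at h1 h4
  have hc : c ≠ 0 := left_ne_zero_of_mul_eq_one h4.symm
  have : a = X i j / X i i := by
    rw [eq_div_iff (right_ne_zero_of_mul_eq_one h4.symm)]
    calc a * X i i = c * X i j * X i i := by rw [← h1]
      _ = c * X i i * X i j := by ring
      _ = X i j := by rw [← h4, one_mul]
  rw [this]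
  exact div_mem (hX i j) (hX i i)

theorem el_pow (i j : ι) (h : i ≠ j) (a : F) (n : ℕ) : el i j h a ^ n = el i j h ((n : F) * a) := by
  induction n with
  | zero => ext1; simp [el, Matrix.transvection]
  | succ n ih =>
    rw [pow_succ, ih]
    ext1
    show Matrix.transvection i j ((n : F) * a) * Matrix.transvection i j a = Matrix.transvection i j (((n + 1 : ℕ) : F) * a)
    rw [Matrix.transvection_mul_transvection_same _ _ h, Nat.cast_succ, add_mul, one_mul]

theorem sl_not_similitude [Finite F] (h3 : 2 < Fintype.card ι) {σ : F ≃+* F} {G : M} (hG : G.det ≠ 0) :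
    ¬ ∀ g ∈ specialLinear ι F, ∃ c : Fˣ, act σ G (mat g) = (c : F) • G := by
  intro hall
  obtain ⟨p, n, hp, hc, -, -⟩ := prime_card_pow (F := F)
  haveI := Fact.mk hp
  haveI : Nonempty ι := Fintype.card_pos_iff.1 (by omega)
  have hfix : ∀ i j (hij : i ≠ j), act σ G (mat (el i j hij (1 : F))) = G := by
    intro i j hij
    obtain ⟨c, hc'⟩ := hall _ (el_mem i j hij (1 : F))
    have hpow : ∀ m : ℕ, act σ G (mat (el i j hij (1 : F) ^ m)) = (c : F) ^ m • G := by
      intro m
      induction m with
      | zero => simp [act, mat]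
      | succ m ih => rw [pow_succ, mat, Units.val_mul, act_mul, ih, act_smul, hc', smul_smul, pow_succ]
    have h1 := hpow p
    rw [el_pow, CharP.cast_eq_zero, zero_mul] at h1
    have h0 : act σ G (mat (el i j hij (0 : F))) = G := by simp [act, mat_el]
    rw [h0] at h1
    obtain ⟨a, b, hab⟩ : ∃ a b, G a b ≠ 0 := by
      by_contra hcon
      push Not at hcon
      exact hG (by rw [show G = 0 from Matrix.ext hcon, Matrix.det_zero])
    have h2 : (c : F) ^ p = 1 := by
      have h2 := congrFun (congrFun h1 a) b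
      rw [Matrix.smul_apply, smul_eq_mul] at h2
      exact (mul_left_eq_self₀.1 h2.symm).resolve_right hab
    have h4 : (c : F) = 1 := by
      apply frobenius_inj F p
      rw [frobenius_def, frobenius_def, h2, one_pow]
    rw [hc', h4, one_smul]
  refine hG ?_
  rw [show G = 0 from ?_, Matrix.det_zero]
  ext k i
  obtain ⟨j, hjk, hji⟩ : ∃ j, j ≠ k ∧ j ≠ i := by
    obtain ⟨j, -, hj⟩ := Finset.exists_mem_notMem_of_card_lt_card (s := ({k, i} : Finset ι)) (t := Finset.univ)
      (lt_of_le_of_lt Finset.card_le_two (by simpa using h3))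
    simp at hj
    exact ⟨j, hj.1, hj.2⟩
  have h1 := congrFun (congrFun (hfix i j (Ne.symm hji)) k) j
  have hT : (Matrix.transvection i j (1 : F))ᵀ = Matrix.transvection j i 1 := by
    simp [Matrix.transvection, Matrix.transpose_single]
  have hM : (Matrix.transvection i j (1 : F)).map σ = Matrix.transvection i j 1 := by
    ext a b
    simp [Matrix.transvection, Matrix.one_apply, Matrix.single_apply]
  rw [act, mat_el, hT, hM, mul_assoc, Matrix.transvection_mul_apply_of_ne _ _ _ _ (Ne.symm hjk),
    Matrix.mul_transvection_apply_same, one_mul] at h1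
  simpa using h1

theorem sl_not_normalizer [Fintype F] {r : ℕ} {H R : Subgroup (GL ι F)} (hr : r.Prime) (hcard : Fintype.card ι = r)
    (hr2 : r ≠ 2) (hq : r = 3 → 6 ≤ Fintype.card F) (hR : IsExtra r H R) :
    ¬ specialLinear ι F ≤ subgroupNormalizer R := by
  classical
  intro hle
  haveI : Nonempty ι := Fintype.card_pos_iff.1 (hcard ▸ hr.pos)
  have hnorm : ∀ g ∈ specialLinear ι F, ∀ x ∈ R, g * x * g⁻¹ ∈ R := fun g hg x hx =>
    (Subgroup.mem_normalizer_iff.1 (hle hg) x).1 hx
  have h3 : 3 ≤ r := by have := hr.two_le; omega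
  obtain ⟨x, hx, hxs⟩ := SetLike.not_le_iff_exists.1 hR.nonscalar
  by_cases hr3 : r = 3
  · obtain ⟨b, ⟨l, hl, hxl⟩, -⟩ := hR.basis x hx hxs
    obtain ⟨i, j, hij⟩ := Fintype.exists_pair_of_one_lt_card (α := ι) (by omega)
    obtain ⟨k, hki, hkj⟩ : ∃ k, k ≠ i ∧ k ≠ j := by
      obtain ⟨k, -, hk⟩ := Finset.exists_mem_notMem_of_card_lt_card (s := ({i, j} : Finset ι)) (t := Finset.univ)
        (lt_of_le_of_lt Finset.card_le_two (by simp; omega))
      simp at hk
      exact ⟨k, hk.1, hk.2⟩
    set P := ofBasis b with hP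
    set m : GL ι F := el j i (Ne.symm hij) 1 with hm
    set Q := P * m with hQ
    -- the centre `Q e_i = b i + b j` is not an eigenvector
    have hQi : mat Q *ᵥ Pi.single i 1 = b i + b j := by
      rw [hQ, ← mulVec_mul, el_mulVec, one_mul, Pi.single_eq_same, one_smul, Matrix.mulVec_add, hP, ofBasis_single,
        ofBasis_single]
    let T : F × F → GL ι F := fun p => Q * (el i j hij p.1 * el i k hki.symm p.2) * Q⁻¹
    have hinj : Function.Injective fun p : F × F => T p * x * (T p)⁻¹ := by
      intro p p' hpp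
      simp only at hpp
      set d : GL ι F := (T p')⁻¹ * T p with hd
      have hcomm : d * x = x * d := by
        rw [← mul_inv_eq_iff_eq_mul, hd]
        calc (T p')⁻¹ * T p * x * ((T p')⁻¹ * T p)⁻¹ = (T p')⁻¹ * (T p * x * (T p)⁻¹) * T p' := by group
          _ = x := by rw [hpp]; group
      set u := p.1 - p'.1 with hu
      set w := p.2 - p'.2 with hw
      have hdv : ∀ v, mat d *ᵥ (mat Q *ᵥ v) = mat Q *ᵥ v + (u * v j + w * v k) • (b i + b j) := by
        intro v
        rw [hd, mulVec_mul, show (T p')⁻¹ * T p * Q =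
          Q * ((el i k hki.symm p'.2)⁻¹ * ((el i j hij p'.1)⁻¹ * (el i j hij p.1 * el i k hki.symm p.2))) by
            simp only [T]; group]
        simp only [← mulVec_mul, el_inv, el_mulVec, Pi.add_apply, Pi.smul_apply, smul_eq_mul, hu, hw, hij,
          hki, hkj, Ne.symm hij, Ne.symm hki, Ne.symm hkj, ne_eq, not_false_eq_true, Pi.single_eq_of_ne, mul_zero,
          add_zero, Matrix.mulVec_add, Matrix.mulVec_smul]
        rw [← ofBasis_single b i, ← ofBasis_single b j, ← hP]
        have e : mat P *ᵥ (mat m *ᵥ Pi.single i 1) = mat P *ᵥ Pi.single i 1 + mat P *ᵥ Pi.single j 1 := by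
          rw [hm, el_mulVec, one_mul, Pi.single_eq_same, one_smul, Matrix.mulVec_add]
        rw [← e, hQ, ← mulVec_mul]
        simp only [← mulVec_mul, Matrix.mulVec_add, Matrix.mulVec_smul]
        module
      have hzero : u = 0 ∧ w = 0 := by
        have key : ∀ v : ι → F, u * v j + w * v k = 0 := by
          intro v
          by_contra hne
          set s := u * v j + w * v k with hs
          have h1 : mat x *ᵥ (mat d *ᵥ (mat Q *ᵥ v)) = mat d *ᵥ (mat x *ᵥ (mat Q *ᵥ v)) := by
            rw [mulVec_mul x d, mulVec_mul d x, hcomm]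
          obtain ⟨y, hy⟩ : ∃ y, mat Q *ᵥ y = mat x *ᵥ (mat Q *ᵥ v) := ⟨_, mulVec_inv_cancel Q _⟩
          rw [hdv, Matrix.mulVec_add, Matrix.mulVec_smul, Matrix.mulVec_add, hxl, hxl, ← hy, hdv] at h1
          have h2 := add_left_cancel h1
          have hi := congrArg (fun z => b.repr z i) h2
          have hj := congrArg (fun z => b.repr z j) h2
          simp [hij, Ne.symm hij] at hi hj
          exact hij (hl (mul_left_cancel₀ hne (hi.trans hj.symm)))
        constructor
        · simpa [hkj, Ne.symm hkj] using key (Pi.single j 1)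
        · simpa [hkj, Ne.symm hkj] using key (Pi.single k 1)
      exact Prod.ext (sub_eq_zero.1 hzero.1) (sub_eq_zero.1 hzero.2)
    let f : F × F → R := fun p =>
      ⟨T p * x * (T p)⁻¹, hnorm _ (mem_sl_conj (mul_mem (el_mem _ _ _ _) (el_mem _ _ _ _))) x hx⟩
    have hf : Function.Injective f := fun p p' h => hinj (congrArg Subtype.val h)
    have hle' := Nat.card_le_card_of_injective f hf
    rw [Nat.card_prod, Nat.card_eq_fintype_card, hR.card, hr3] at hle'
    have := hq hr3
    nlinarith
  · have h5 : 5 ≤ r := by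
      have h4 : r ≠ 4 := by rintro rfl; norm_num at hr
      omega
    refine hxs ?_
    obtain ⟨c, hc⟩ := scalar_of_commute_el (A := mat x) fun i j hij a => by
      set t := el i j hij a with ht
      set g := t * x * t⁻¹ * x⁻¹ with hg
      have hgR : g ∈ R := mul_mem (hnorm t (el_mem i j hij a) x hx) (inv_mem hx)
      have himg : ∀ v, (mat g - 1) *ᵥ v ∈
          Submodule.span F ({Pi.single i 1, mat x *ᵥ Pi.single i 1} : Set (ι → F)) := by
        intro v
        have e : (mat g - 1) *ᵥ v = (a * (mat x *ᵥ (mat t⁻¹ *ᵥ (mat x⁻¹ *ᵥ v))) j) • (Pi.single i 1 : ι → F) +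
            (-a * (mat x⁻¹ *ᵥ v) j) • (mat x *ᵥ Pi.single i 1) := by
          rw [Matrix.sub_mulVec, Matrix.one_mulVec, hg, ← mulVec_mul, ← mulVec_mul, ← mulVec_mul, ht,
            el_mulVec i j hij a, el_inv, el_mulVec i j hij (-a), Matrix.mulVec_add, Matrix.mulVec_smul,
            mulVec_inv_cancel]
          abel
        rw [e]
        exact add_mem (Submodule.smul_mem _ _ (Submodule.subset_span (by simp)))
          (Submodule.smul_mem _ _ (Submodule.subset_span (by simp)))
      have hg1 : g = 1 := by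
        by_contra hne
        by_cases hgs : g ∈ scalars ι F
        · obtain ⟨c, hc⟩ := (Cfsg.Geo.mem_scalars_iff g).1 hgs
          refine not_isUnit_of_two (by omega) himg (isUnit_of_det ?_)
          rw [mat, hc, ← one_smul F (1 : M), smul_smul, mul_one, ← sub_smul, Matrix.det_smul, Matrix.det_one, mul_one]
          exact pow_ne_zero _ (sub_ne_zero.2 fun e => hne (Units.ext (by rw [hc, e, one_smul, Units.val_one])))
        · obtain ⟨b, ⟨l, hl, hgl⟩, -⟩ := hR.basis g hgR hgs
          let S := (Finset.univ.filter fun i => l i ≠ 1)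
          have hS : r - 1 ≤ S.card := by
            have h1 : (Finset.univ.filter fun i => ¬ l i ≠ 1).card ≤ 1 := Finset.card_le_one.2 fun u hu v hv => by
              simp at hu hv
              exact hl (hu.trans hv.symm)
            have h2 := Finset.card_filter_add_card_filter_not (s := (Finset.univ : Finset ι)) (fun i => l i ≠ 1)
            rw [Finset.card_univ, hcard] at h2
            show r - 1 ≤ (Finset.univ.filter fun i => l i ≠ 1).card
            omega
          have hsub : Submodule.span F (Set.range fun s : S => b s.1) ≤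
              Submodule.span F ({Pi.single i 1, mat x *ᵥ Pi.single i 1} : Set (ι → F)) := by
            rw [Submodule.span_le]
            rintro _ ⟨s, rfl⟩
            have hs : l s.1 - 1 ≠ 0 := sub_ne_zero.2 (Finset.mem_filter.1 s.2).2
            have h1 := himg ((l s.1 - 1)⁻¹ • b s.1)
            rw [Matrix.mulVec_smul, Matrix.sub_mulVec, Matrix.one_mulVec, hgl, ← one_smul F (b s.1), smul_smul,
              mul_one, ← sub_smul, smul_smul, inv_mul_cancel₀ hs, one_smul] at h1
            exact h1
          have h1 := Submodule.finrank_mono hsub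
          rw [finrank_span_eq_card (R := F) (b := fun s : S => b s.1)
            (b.linearIndependent.comp (fun s : S => s.1) Subtype.val_injective), Fintype.card_coe] at h1
          have h2 := finrank_span_le_card (R := F) ({Pi.single i 1, mat x *ᵥ Pi.single i 1} : Set (ι → F))
          have h3' : ({Pi.single i 1, mat x *ᵥ Pi.single i 1} : Set (ι → F)).toFinset.card ≤ 2 := by
            simpa using Finset.card_le_two (a := (Pi.single i 1 : ι → F)) (b := mat x *ᵥ Pi.single i 1)
          omega
      rw [hg, mul_inv_eq_one, mul_inv_eq_iff_eq_mul] at hg1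
      exact (congrArg Units.val hg1).symm
    exact mem_scalars_of_smul hc

end Cfsg.Agent.PrimeDim
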