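import Mathlib

/-!
A subgroup of `SU₅(2)` isomorphic to `L₂(11)`, given by generators and an orbit of 55 lines, over a table model of the
field with four elements.
-/

set_option autoImplicit false

namespace Cfsg.Agent.PrimeDim.SU5Data

/-- The field with four elements. -/
inductive Q4 | o | e | w | v
  deriving DecidableEq

/-- Addition. -/
def Q4.add : Q4 → Q4 → Q4
  | .o, b => b
  | a, .o => a
  | .e, .e => .o
  | .e, .w => .v
  | .e, .v => .w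
  | .w, .e => .v
  | .w, .w => .o
  | .w, .v => .e
  | .v, .e => .w
  | .v, .w => .e
  | .v, .v => .o

/-- Multiplication. -/
def Q4.mul : Q4 → Q4 → Q4
  | .o, _ => .o
  | _, .o => .o
  | .e, b => b
  | a, .e => a
  | .w, .w => .v
  | .w, .v => .e
  | .v, .w => .e
  | .v, .v => .w

/-- Vectors. -/
abbrev V5 := Fin 5 → Q4

/-- Matrices. -/
abbrev M5 := Fin 5 → Fin 5 → Q4

/-- The product of a row and a column. -/
def dot5 (a b : V5) : Q4 :=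
  Q4.add (Q4.mul (a 0) (b 0)) (Q4.add (Q4.mul (a 1) (b 1))
    (Q4.add (Q4.mul (a 2) (b 2)) (Q4.add (Q4.mul (a 3) (b 3)) (Q4.mul (a 4) (b 4)))))

/-- Matrix product. -/
def mul5 (A B : M5) : M5 := fun i j => dot5 (A i) (fun k => B k j)

/-- Matrix times vector. -/
def app5 (A : M5) (x : V5) : V5 := fun i => dot5 (A i) x

/-- Scalar times vector. -/
def smul5 (c : Q4) (x : V5) : V5 := fun i => Q4.mul c (x i)

/-- The identity. -/
def one5 : M5 := fun i j => if i = j then .e else .o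

/-- The unitary condition. -/
def Unit5 (A : M5) : Prop := mul5 (fun i j => A j i) (fun i j => Q4.mul (A i j) (A i j)) = one5

def mX : M5 := ![![.w, .e, .v, .w, .e], ![.e, .o, .o, .w, .w], ![.o, .o, .v, .v, .v], ![.w, .e, .v, .e, .w], ![.o, .e, .o, .v, .v]]

def mY : M5 := ![![.e, .e, .o, .w, .o], ![.e, .v, .w, .v, .v], ![.w, .w, .o, .o, .v], ![.v, .v, .v, .o, .o], ![.w, .v, .e, .w, .w]]

def mZ : M5 := ![![.o, .o, .o, .w, .o], ![.w, .o, .e, .o, .v], ![.w, .w, .o, .o, .v], ![.e, .e, .v, .o, .o], ![.o, .e, .v, .o, .w]]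

def mT : M5 := ![![.e, .o, .o, .o, .o], ![.o, .e, .o, .o, .o], ![.o, .o, .e, .o, .o], ![.o, .o, .o, .o, .e], ![.o, .o, .o, .e, .o]]

def powX : List M5 := [
  ![![.e, .o, .o, .o, .o], ![.o, .e, .o, .o, .o], ![.o, .o, .e, .o, .o], ![.o, .o, .o, .e, .o], ![.o, .o, .o, .o, .e]],
  ![![.w, .e, .v, .w, .e], ![.e, .o, .o, .w, .w], ![.o, .o, .v, .v, .v], ![.w, .e, .v, .e, .w], ![.o, .e, .o, .v, .v]],
  ![![.e, .e, .w, .w, .w], ![.e, .e, .w, .e, .v], ![.e, .o, .o, .v, .e], ![.o, .e, .o, .v, .e], ![.o, .o, .w, .v, .e]],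
  ![![.o, .e, .v, .w, .o], ![.e, .v, .e, .w, .w], ![.v, .v, .e, .w, .v], ![.o, .w, .w, .w, .o], ![.e, .w, .v, .e, .v]],
  ![![.w, .w, .v, .w, .v], ![.w, .e, .e, .v, .e], ![.e, .w, .o, .v, .o], ![.e, .w, .o, .o, .e], ![.w, .v, .w, .o, .o]],
  ![![.w, .v, .w, .w, .w], ![.v, .o, .o, .w, .e], ![.e, .w, .e, .w, .v], ![.o, .o, .v, .w, .e], ![.o, .w, .o, .v, .w]],
  ![![.v, .w, .e, .o, .o], ![.w, .o, .v, .o, .v], ![.v, .o, .e, .w, .o], ![.v, .v, .v, .v, .w], ![.v, .e, .w, .e, .v]],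
  ![![.v, .v, .e, .e, .v], ![.v, .e, .v, .v, .w], ![.w, .e, .o, .o, .v], ![.v, .w, .w, .o, .o], ![.w, .e, .o, .e, .o]],
  ![![.o, .e, .w, .o, .e], ![.e, .w, .w, .v, .v], ![.w, .e, .e, .v, .w], ![.v, .v, .v, .v, .e], ![.o, .v, .w, .o, .w]],
  ![![.e, .e, .e, .o, .o], ![.e, .e, .o, .e, .o], ![.v, .v, .o, .o, .v], ![.v, .e, .w, .w, .w], ![.v, .w, .e, .e, .e]],
  ![![.v, .e, .o, .v, .o], ![.e, .o, .o, .e, .e], ![.w, .o, .w, .w, .o], ![.v, .v, .w, .e, .w], ![.e, .v, .w, .v, .w]],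
  ![![.e, .o, .o, .o, .o], ![.o, .e, .o, .o, .o], ![.o, .o, .e, .o, .o], ![.o, .o, .o, .e, .o], ![.o, .o, .o, .o, .e]]]

def powY : List M5 := [
  ![![.e, .o, .o, .o, .o], ![.o, .e, .o, .o, .o], ![.o, .o, .e, .o, .o], ![.o, .o, .o, .e, .o], ![.o, .o, .o, .o, .e]],
  ![![.e, .e, .o, .w, .o], ![.e, .v, .w, .v, .v], ![.w, .w, .o, .o, .v], ![.v, .v, .v, .o, .o], ![.w, .v, .e, .w, .w]],
  ![![.e, .v, .v, .e, .v], ![.w, .o, .o, .e, .w], ![.e, .e, .o, .v, .o], ![.e, .o, .e, .v, .o], ![.e, .w, .w, .w, .w]],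
  ![![.e, .v, .e, .e, .e], ![.w, .o, .e, .o, .v], ![.w, .o, .o, .e, .v], ![.e, .e, .w, .w, .v], ![.w, .v, .o, .o, .v]],
  ![![.e, .e, .v, .w, .v], ![.e, .w, .v, .w, .w], ![.o, .v, .o, .w, .e], ![.v, .w, .o, .o, .v], ![.o, .w, .w, .o, .v]],
  ![![.e, .o, .o, .o, .o], ![.o, .e, .o, .o, .o], ![.o, .o, .e, .o, .o], ![.o, .o, .o, .e, .o], ![.o, .o, .o, .o, .e]]]

def powZ : List M5 := [
  ![![.e, .o, .o, .o, .o], ![.o, .e, .o, .o, .o], ![.o, .o, .e, .o, .o], ![.o, .o, .o, .e, .o], ![.o, .o, .o, .o, .e]],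
  ![![.o, .o, .o, .w, .o], ![.w, .o, .e, .o, .v], ![.w, .w, .o, .o, .v], ![.e, .e, .v, .o, .o], ![.o, .e, .v, .o, .w]],
  ![![.w, .w, .e, .o, .o], ![.w, .e, .w, .v, .w], ![.v, .v, .o, .v, .o], ![.v, .e, .e, .w, .e], ![.v, .v, .o, .o, .w]],
  ![![.e, .w, .w, .v, .w], ![.w, .w, .w, .v, .e], ![.w, .v, .e, .e, .w], ![.w, .e, .v, .e, .w], ![.e, .w, .w, .e, .e]],
  ![![.v, .w, .e, .w, .v], ![.v, .e, .v, .v, .w], ![.w, .e, .e, .v, .w], ![.w, .w, .v, .v, .w], ![.e, .v, .w, .w, .w]],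
  ![![.v, .v, .e, .e, .v], ![.o, .o, .w, .e, .w], ![.v, .v, .w, .v, .v], ![.e, .o, .e, .v, .o], ![.o, .v, .v, .w, .o]],
  ![![.w, .o, .w, .e, .o], ![.w, .o, .w, .o, .w], ![.e, .v, .v, .e, .w], ![.e, .e, .w, .w, .v], ![.w, .v, .w, .o, .o]],
  ![![.w, .w, .v, .v, .e], ![.v, .e, .e, .v, .w], ![.e, .w, .e, .w, .v], ![.v, .w, .w, .w, .v], ![.w, .v, .v, .v, .v]],
  ![![.e, .v, .v, .v, .e], ![.v, .v, .w, .e, .v], ![.v, .v, .e, .w, .v], ![.w, .w, .e, .e, .e], ![.v, .e, .v, .v, .e]],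
  ![![.v, .v, .w, .w, .w], ![.v, .e, .w, .e, .w], ![.e, .v, .o, .e, .o], ![.o, .w, .w, .v, .o], ![.o, .v, .o, .e, .v]],
  ![![.o, .v, .v, .e, .o], ![.o, .o, .v, .e, .e], ![.o, .e, .o, .w, .w], ![.v, .o, .o, .o, .o], ![.o, .w, .w, .o, .v]],
  ![![.e, .o, .o, .o, .o], ![.o, .e, .o, .o, .o], ![.o, .o, .e, .o, .o], ![.o, .o, .o, .e, .o], ![.o, .o, .o, .o, .e]]]

def lineData : List V5 := [
  ![.o, .o, .o, .e, .w],
  ![.o, .o, .o, .e, .v],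
  ![.o, .o, .e, .o, .e],
  ![.o, .o, .e, .e, .o],
  ![.o, .e, .o, .o, .v],
  ![.o, .e, .o, .v, .o],
  ![.o, .e, .e, .o, .o],
  ![.o, .e, .e, .e, .w],
  ![.o, .e, .e, .e, .v],
  ![.o, .e, .e, .w, .e],
  ![.o, .e, .e, .w, .v],
  ![.o, .e, .e, .v, .e],
  ![.o, .e, .e, .v, .w],
  ![.o, .e, .w, .o, .o],
  ![.o, .e, .w, .w, .w],
  ![.o, .e, .w, .w, .v],
  ![.o, .e, .w, .v, .w],
  ![.o, .e, .w, .v, .v],
  ![.o, .e, .v, .v, .v],
  ![.e, .o, .o, .o, .e],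
  ![.e, .o, .o, .o, .w],
  ![.e, .o, .e, .e, .e],
  ![.e, .o, .w, .e, .e],
  ![.e, .o, .w, .e, .v],
  ![.e, .o, .w, .w, .e],
  ![.e, .o, .v, .o, .o],
  ![.e, .o, .v, .e, .v],
  ![.e, .o, .v, .w, .e],
  ![.e, .o, .v, .v, .e],
  ![.e, .o, .v, .v, .w],
  ![.e, .e, .o, .o, .o],
  ![.e, .e, .o, .e, .w],
  ![.e, .e, .o, .w, .v],
  ![.e, .e, .o, .v, .e],
  ![.e, .e, .o, .v, .w],
  ![.e, .e, .e, .o, .e],
  ![.e, .e, .e, .o, .v],
  ![.e, .e, .w, .o, .e],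
  ![.e, .e, .w, .o, .w],
  ![.e, .e, .v, .o, .v],
  ![.e, .e, .v, .v, .o],
  ![.e, .w, .o, .e, .w],
  ![.e, .w, .o, .w, .w],
  ![.e, .w, .o, .w, .v],
  ![.e, .w, .e, .w, .o],
  ![.e, .w, .e, .v, .o],
  ![.e, .w, .v, .o, .e],
  ![.e, .w, .v, .o, .w],
  ![.e, .v, .o, .w, .w],
  ![.e, .v, .e, .o, .e],
  ![.e, .v, .e, .o, .w],
  ![.e, .v, .w, .e, .o],
  ![.e, .v, .w, .v, .o],
  ![.e, .v, .v, .o, .w],
  ![.e, .v, .v, .o, .v]]

def imX : List (Q4 × ℕ) := [(.e, 14), (.e, 49), (.w, 34), (.e, 43), (.w, 50), (.e, 15), (.w, 23), (.w, 53), (.v, 40), (.e, 10), (.w, 33), (.w, 44), (.e, 42), (.e, 2), (.e, 21), (.w, 9), (.v, 54), (.w, 26), (.e, 22), (.v, 35), (.w, 18), (.w, 51), (.e, 6), (.w, 32), (.e, 29), (.e, 13), (.e, 46), (.w, 19), (.w, 17), (.v, 37), (.v, 41), (.v, 27), (.v, 36), (.v, 52), (.v, 8), (.e, 48), (.v, 24), (.v, 39), (.w, 5), (.w, 20), (.w, 0), (.w, 3), (.e,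 31), (.v, 7), (.w, 12), (.w, 25), (.v, 38), (.w, 16), (.e, 4), (.v, 30), (.w, 11), (.w, 45), (.e, 28), (.e, 47), (.w, 1)]

def imY : List (Q4 × ℕ) := [(.w, 39), (.w, 50), (.e, 18), (.w, 48), (.e, 34), (.e, 16), (.e, 38), (.v, 35), (.v, 20), (.w, 47), (.w, 30), (.e, 2), (.w, 13), (.e, 24), (.w, 23), (.w, 41), (.v, 11), (.w, 1), (.w, 5), (.e, 45), (.e, 28), (.v, 37), (.v, 52), (.v, 33), (.w, 26), (.e, 22), (.v, 43), (.w, 40), (.e, 7), (.v, 9), (.w, 4), (.w, 25), (.v, 46), (.e, 53), (.e, 36), (.v, 8), (.w, 10), (.w, 17), (.e, 3), (.e, 15), (.e, 32), (.e, 42), (.w, 0), (.v, 12), (.v, 14), (.w, 29), (.v, 54), (.v, 19), (.e, 51), (.w, 31), (.w, 21), (.v, 6), (.v, 49), (.w, 44), (.w, 27)]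

def imZ : List (Q4 × ℕ) := [(.w, 53), (.w, 36), (.w, 15), (.w, 48), (.w, 5), (.e, 22), (.e, 14), (.w, 23), (.w, 41), (.v, 52), (.v, 33), (.e, 44), (.e, 27), (.w, 6), (.v, 35), (.v, 20), (.e, 54), (.e, 19), (.e, 34), (.e, 7), (.v, 9), (.w, 26), (.w, 47), (.w, 30), (.v, 37), (.e, 16), (.w, 42), (.v, 51), (.e, 45), (.e, 28), (.w, 4), (.w, 46), (.v, 25), (.e, 39), (.e, 50), (.v, 3), (.e, 17), (.v, 10), (.e, 8), (.v, 18), (.e, 32), (.w, 43), (.v, 31), (.v, 21), (.v, 38), (.e, 49), (.w, 11), (.e, 1), (.v, 40), (.e, 0), (.w, 12), (.w, 24), (.e, 29), (.w, 2), (.v, 13)]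


/-- The zero vector. -/
def zero5 : V5 := fun _ => .o

/-- The `n`-th line. -/
def line (n : ℕ) : V5 := lineData.getD n zero5

/-- The successive powers are correct. -/
def Chain (A : M5) (l : List M5) (n : ℕ) : Prop :=
  l.getD 0 one5 = one5 ∧ l.getD n A = one5 ∧ ∀ k < n, l.getD (k + 1) A = mul5 (l.getD k A) A

/-- The lines are permuted as the table says. -/
def Permutes (A : M5) (l : List (Q4 × ℕ)) : Prop :=
  ∀ n < 55, app5 A (line n) = smul5 (l.getD n (.o, 55)).1 (line (l.getD n (.o, 55)).2) ∧ (l.getD n (.o, 55)).2 < 55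

instance (A : M5) : Decidable (Unit5 A) := inferInstanceAs (Decidable (_ = _))
instance (A : M5) (l : List M5) (n : ℕ) : Decidable (Chain A l n) := inferInstanceAs (Decidable (_ ∧ _ ∧ _))
instance (A : M5) (l : List (Q4 × ℕ)) : Decidable (Permutes A l) := inferInstanceAs (Decidable (∀ n < 55, _))

theorem unit_X : Unit5 mX := by decide
theorem unit_Y : Unit5 mY := by decide
theorem unit_Z : Unit5 mZ := by decide
theorem unit_T : Unit5 mT := by decide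
theorem chain_X : Chain mX powX 11 := by decide
theorem chain_Y : Chain mY powY 5 := by decide
theorem chain_Z : Chain mZ powZ 11 := by decide
theorem sq_T : mul5 mT mT = one5 := by decide
theorem perm_X : Permutes mX imX := by decide
theorem perm_Y : Permutes mY imY := by decide
theorem perm_Z : Permutes mZ imZ := by decide
theorem moved_T : ∀ n < 55, ∀ c ∈ [Q4.o, .e, .w, .v], app5 mT (line 19) ≠ smul5 c (line n) := by decide
theorem norm_Y : mul5 mY mX = mul5 (powX.getD 5 mX) mY := by decide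
theorem not_norm_Z : ∀ k < 11, mul5 mZ mX ≠ mul5 (powX.getD k mX) mZ := by decide
theorem ne_one : mX ≠ one5 ∧ mY ≠ one5 := by decide

end Cfsg.Agent.PrimeDim.SU5Data
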