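import Cfsg.Agent.PrimeDim.SU5Data
import Cfsg.Agent.PrimeDim.SUCases
import Cfsg.Agent.PrimeDim.OmegaCases

/-!
The normaliser of a quintic field in `SU₅(2)` is not maximal.
-/

set_option autoImplicit false
set_option maxRecDepth 4000
set_option linter.unusedSectionVars false

namespace Cfsg.Agent.PrimeDim

open Matrix Cfsg.Geo SU5Data
open scoped MatrixGroups

variable {F : Type*} [Field F]

/-- The interpretation of the table model. -/
def q4 (ω : F) : Q4 → F
  | .o => 0
  | .e => 1
  | .w => ω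
  | .v => ω + 1

/-- A matrix of the table model. -/
def toM (ω : F) (A : M5) : Matrix (Fin 5) (Fin 5) F := Matrix.of fun i j => q4 ω (A i j)

/-- A vector of the table model. -/
def toV (ω : F) (x : V5) : Fin 5 → F := fun i => q4 ω (x i)

section

variable {ω : F} (hω : ω * ω = ω + 1) (h2 : (2 : F) = 0)
include hω h2

theorem q4_add (a b : Q4) : q4 ω (Q4.add a b) = q4 ω a + q4 ω b := by
  cases a <;> cases b <;> simp only [Q4.add, q4]
  all_goals (first | ring1 | linear_combination (1 : F) * h2 | linear_combination (-1 : F) * h2 | linear_combination ω * h2 | linear_combination (-ω) * h2 | linear_combination (ω + 1) * h2 | linear_combination (-ω - 1) * h2)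

theorem q4_mul (a b : Q4) : q4 ω (Q4.mul a b) = q4 ω a * q4 ω b := by
  cases a <;> cases b <;> simp only [Q4.mul, q4]
  all_goals (first | ring1 | linear_combination -hω | linear_combination -hω + (1 : F) * h2 | linear_combination -hω + (-1 : F) * h2 | linear_combination -hω + ω * h2 | linear_combination -hω + (-ω) * h2 | linear_combination -hω + (ω + 1) * h2 | linear_combination -hω + (-ω - 1) * h2)

theorem q4_inj : Function.Injective (q4 ω) := by
  have h0 : ω ≠ 0 := fun e => by simp [e] at hω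
  have h1 : ω ≠ 1 := fun e => by simp [e] at hω
  have h3 : ω + 1 ≠ 0 := fun e => h0 (mul_self_eq_zero.1 (hω.trans e))
  have h4 : ω + 1 ≠ 1 := fun e => h0 (by linear_combination e)
  intro a b h
  cases a <;> cases b <;> simp only [q4] at h <;> first
    | rfl
    | exact absurd h zero_ne_one
    | exact absurd h.symm zero_ne_one
    | exact absurd h h0
    | exact absurd h.symm h0
    | exact absurd h h1
    | exact absurd h.symm h1
    | exact absurd h h3
    | exact absurd h.symm h3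
    | exact absurd h h4
    | exact absurd h.symm h4
    | exact absurd (show (1 : F) = 0 by linear_combination h) one_ne_zero
    | exact absurd (show (1 : F) = 0 by linear_combination -h) one_ne_zero

theorem toM_mul (A B : M5) : toM ω (mul5 A B) = toM ω A * toM ω B := by
  ext i j
  rw [Matrix.mul_apply, Fin.sum_univ_five]
  show q4 ω (dot5 _ _) = _
  simp only [dot5, q4_add hω h2, q4_mul hω h2, toM, Matrix.of_apply]
  ring

theorem toV_app (A : M5) (x : V5) : toV ω (app5 A x) = toM ω A *ᵥ toV ω x := by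
  funext i
  simp only [Matrix.mulVec, dotProduct, Fin.sum_univ_five]
  show q4 ω (dot5 _ _) = _
  simp only [dot5, q4_add hω h2, q4_mul hω h2, toM, toV, Matrix.of_apply]
  ring

theorem toV_smul (c : Q4) (x : V5) : toV ω (smul5 c x) = q4 ω c • toV ω x := by
  funext i; exact q4_mul hω h2 _ _

theorem toM_one : toM ω one5 = 1 := by
  ext i j
  by_cases hij : i = j <;> simp [toM, one5, q4, hij, Matrix.one_apply]

theorem toM_inj : Function.Injective (toM (F := F) ω) := fun A B h =>
  funext fun i => funext fun j => q4_inj hω h2 (congrFun (congrFun h i) j)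

theorem toV_inj : Function.Injective (toV (F := F) ω) := fun A B h =>
  funext fun i => q4_inj hω h2 (congrFun h i)

theorem act_toM {σ : F ≃+* F} (hσ : ∀ x, σ x = x ^ 2) {A : M5} (hA : Unit5 A) : act σ 1 (toM ω A) = 1 := by
  have e1 : (toM ω A)ᵀ = toM ω (fun i j => A j i) := rfl
  have e2 : (toM ω A).map σ = toM ω (fun i j => Q4.mul (A i j) (A i j)) := by
    ext i j
    rw [Matrix.map_apply, hσ, pow_two]
    exact (q4_mul hω h2 _ _).symm
  rw [act, mul_one, e1, e2, ← toM_mul hω h2, show mul5 _ _ = one5 from hA, toM_one hω h2]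

theorem chain_pow {A : M5} {l : List M5} {n : ℕ} (h : Chain A l n) :
    toM ω A ^ n = 1 ∧ ∀ k ≤ n, toM ω A ^ k = toM ω (l.getD k A) ∨ k = 0 := by
  obtain ⟨h0, hn, hk⟩ := h
  have hpow : ∀ k ≤ n, toM ω A ^ k = if k = 0 then 1 else toM ω (l.getD k A) := by
    intro k hkn
    induction k with
    | zero => simp
    | succ k ih =>
      rw [if_neg (Nat.succ_ne_zero k), hk k hkn, toM_mul hω h2, pow_succ, ih (by omega)]
      by_cases hk0 : k = 0
      · subst hk0
        have e : l.getD 0 A = one5 := by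
          cases l with
          | nil =>
            have h' : A = one5 := hn
            exact h'
          | cons a l => exact h0
        rw [if_pos rfl, e, toM_one hω h2]
      · rw [if_neg hk0]
  refine ⟨?_, fun k hkn => ?_⟩
  · rw [hpow n le_rfl]
    split_ifs with h'
    · rfl
    · rw [hn, toM_one hω h2]
  · by_cases hk0 : k = 0
    · exact Or.inr hk0
    · exact Or.inl (by rw [hpow k hkn, if_neg hk0])

end

theorem mem_normalizer_of_card [Finite F] {P : Subgroup (GL (Fin 5) F)} {y : GL (Fin 5) F} {n : ℕ}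
    (_ : Nat.card P = n) (h1 : ∀ z ∈ P, y * z * y⁻¹ ∈ P) : y ∈ subgroupNormalizer P := by
  refine Subgroup.mem_normalizer_iff.2 fun z => ⟨h1 z, fun hz => ?_⟩
  obtain ⟨w, hw⟩ := (Finite.injective_iff_surjective (f := fun w : P => (⟨y * w.1 * y⁻¹, h1 w.1 w.2⟩ : P))).1
    (fun a b h => Subtype.ext (mul_left_cancel (mul_right_cancel (congrArg Subtype.val h)))) ⟨_, hz⟩
  exact (mul_left_cancel (mul_right_cancel (congrArg Subtype.val hw))) ▸ w.2

theorem exists_omega [Fintype F] (hq : Fintype.card F = 4) : ∃ ω : F, ω * ω = ω + 1 ∧ (2 : F) = 0 := by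
  have h2 : (2 : F) = 0 := by
    by_contra hne
    exact absurd (odd_of_two_ne_zero hne) (by rw [hq]; decide)
  classical
  obtain ⟨a, -, ha⟩ := Finset.exists_mem_notMem_of_card_lt_card (s := ({0, 1} : Finset F)) (t := Finset.univ)
    (lt_of_le_of_lt Finset.card_le_two (by rw [Finset.card_univ, hq]; norm_num))
  simp at ha
  refine ⟨a, ?_, h2⟩
  have h3 := FiniteField.pow_card_sub_one_eq_one a ha.1
  rw [hq] at h3
  norm_num at h3
  have h4 := (mul_eq_zero.1 (show (a - 1) * (a * a + a + 1) = 0 by linear_combination h3)).resolve_left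
    (sub_ne_zero.2 ha.2)
  linear_combination h4 - (a + 1) * h2

theorem det_eq_one_of_pow [Fintype F] (hq : Fintype.card F = 4) {A : Matrix (Fin 5) (Fin 5) F} {n : ℕ}
    (hn : A ^ n = 1) (hn0 : n ≠ 0) (hcop : Nat.Coprime n 3) : A.det = 1 := by
  have h1 : A.det ^ n = 1 := by rw [← Matrix.det_pow, hn, Matrix.det_one]
  have h0 : A.det ≠ 0 := fun e => by rw [e, zero_pow hn0] at h1; exact zero_ne_one h1
  have h3 := FiniteField.pow_card_sub_one_eq_one A.det h0
  rw [hq] at h3
  have h4 := pow_gcd_eq_one.2 ⟨h1, h3⟩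
  rwa [show Nat.gcd n (4 - 1) = 1 from hcop, pow_one] at h4

/-- An element of the group from the table model. -/
theorem exists_elt [Fintype F] (hq : Fintype.card F = 4) {ω : F} (hω : ω * ω = ω + 1) (h2 : (2 : F) = 0)
    {A : M5} (hA : Unit5 A) {n : ℕ} (hn : toM ω A ^ n = 1) (hn0 : n ≠ 0) (hcop : Nat.Coprime n 3) :
    ∃ g : GL (Fin 5) F, mat g = toM ω A ∧ g ^ n = 1 ∧ g ∈ GU 5 F 2 ⊓ specialLinear (Fin 5) F := by
  obtain ⟨σ, hσ, -⟩ := exists_bar (F := F) (q := 2) (by rw [hq]; rfl)
  have hd := det_eq_one_of_pow hq hn hn0 hcop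
  refine ⟨Matrix.GeneralLinearGroup.mkOfDetNeZero (toM ω A) (by rw [hd]; exact one_ne_zero), rfl,
    Units.ext (by rw [Units.val_pow_eq_pow_val]; exact hn), Subgroup.mem_inf.2 ⟨fun u v => ?_, Units.ext hd⟩⟩
  have hf : hermForm 5 F 2 = formG σ (1 : Matrix (Fin 5) (Fin 5) F) := by
    funext u v
    show _ = stdH σ u v
    rw [stdH_eq]
    exact Finset.sum_congr rfl fun i _ => by rw [hσ]
  rw [hf]
  show formG σ 1 (toM ω A *ᵥ u) (toM ω A *ᵥ v) = _
  rw [formG_mulVec, act_toM hω h2 hσ hA]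

/-- A cyclic field normaliser in `SU₅(2)` is not maximal. -/
theorem su5_two_no_field [Fintype F] (hq : Fintype.card F = 4)
    {H : Subgroup (GL (Fin 5) F)} (hH : IsMaximalIn (GU 5 F 2 ⊓ specialLinear (Fin 5) F) H)
    {K : Subalgebra F (Matrix (Fin 5) (Fin 5) F)} (hK : IsFieldSubalgebra 5 K)
    (hadj : IsAdjointClosedFor (hermForm 5 F 2) K) (hHK : H ≤ subalgebraNormalizer K)
    (hnorm : ∃ N : Subgroup (GL (Fin 5) F), N ≤ H ∧ (∀ g ∈ N, mat g ∈ K) ∧ ¬ N ≤ scalars (Fin 5) F) : False := by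
  classical
  obtain ⟨ω, hω, h2⟩ := exists_omega hq
  obtain ⟨σ, hσ, hbar⟩ := exists_bar (F := F) (q := 2) (by rw [hq]; rfl)
  have hf : hermForm 5 F 2 = formG σ (1 : Matrix (Fin 5) (Fin 5) F) := by
    funext u v
    show _ = stdH σ u v
    rw [stdH_eq]
    exact Finset.sum_congr rfl fun i _ => by rw [hσ]
  set G := GU 5 F 2 ⊓ specialLinear (Fin 5) F with hGdef
  haveI : Fact (Nat.Prime 11) := ⟨by norm_num⟩
  have hGfix : ∀ g ∈ G, act σ (1 : Matrix (Fin 5) (Fin 5) F) (mat g) = 1 := by
    intro g hg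
    have h1 : ∀ u v, hermForm 5 F 2 (mat g *ᵥ u) (mat g *ᵥ v) = hermForm 5 F 2 u v := (Subgroup.mem_inf.1 hg).1
    rw [hf] at h1
    exact formG_ext (σ := σ) fun u v => by rw [← formG_mulVec, h1]
  -- the field
  letI : CommRing K := { (inferInstance : Ring K) with
    mul_comm := fun a b => Subtype.ext (hK.comm a.1 a.2 b.1 b.2) }
  have hfield : IsField K :=
    { exists_pair_ne := ⟨0, 1, fun e => zero_ne_one (congrArg (fun w : K => (w : Matrix (Fin 5) (Fin 5) F) 0 0) e |>.trans
        (by simp))⟩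
      mul_comm := mul_comm
      mul_inv_cancel := fun {a} ha => by
        obtain ⟨b, hb, hab⟩ := hK.inv a.1 a.2 fun e => ha (Subtype.ext e)
        exact ⟨⟨b, hb⟩, Subtype.ext hab⟩ }
  letI : Field K := hfield.toField
  haveI : Finite K := Subtype.finite
  haveI : Fintype K := Fintype.ofFinite K
  have hKcard : Fintype.card K = 1024 := by
    rw [← Nat.card_eq_fintype_card, Module.natCard_eq_pow_finrank (K := F), hK.finrank_eq, Nat.card_eq_fintype_card, hq]
    norm_num
  have hmm : ∀ X : Matrix (Fin 5) (Fin 5) F, (X.map σ).map σ = X := fun X => by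
    ext a b; exact hbar.involutive _
  have hstar : ∀ k : K, (k : Matrix (Fin 5) (Fin 5) F)ᵀ.map σ ∈ K := by
    intro k
    obtain ⟨k', hk', hk''⟩ := hadj _ k.2
    have e : k' = (k : Matrix (Fin 5) (Fin 5) F)ᵀ.map σ := by
      have h1 : (k : Matrix (Fin 5) (Fin 5) F)ᵀ = k'.map σ := by
        ext a b
        have h3 := hk'' (Pi.single a 1) (Pi.single b 1)
        rw [hf] at h3
        simp only [formG, Matrix.one_mulVec, single_comp, Matrix.mulVec_single_one] at h3
        simpa [dotProduct, Matrix.col_apply, Matrix.one_apply, Pi.single_apply] using h3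
      rw [h1, hmm]
    exact e ▸ hk'
  have hst_mul : ∀ a b : K, ((a * b : K) : Matrix (Fin 5) (Fin 5) F)ᵀ.map σ =
      (a : Matrix (Fin 5) (Fin 5) F)ᵀ.map σ * (b : Matrix (Fin 5) (Fin 5) F)ᵀ.map σ := fun a b => by
    rw [mul_comm, MulMemClass.coe_mul, Matrix.transpose_mul, Matrix.map_mul]
  let st : K ≃+* K :=
    { toFun := fun k => ⟨_, hstar k⟩
      invFun := fun k => ⟨_, hstar k⟩
      left_inv := fun k => Subtype.ext (by
        show (((k : Matrix (Fin 5) (Fin 5) F)ᵀ.map σ)ᵀ).map σ = _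
        rw [Matrix.transpose_map, hmm, Matrix.transpose_transpose])
      right_inv := fun k => Subtype.ext (by
        show (((k : Matrix (Fin 5) (Fin 5) F)ᵀ.map σ)ᵀ).map σ = _
        rw [Matrix.transpose_map, hmm, Matrix.transpose_transpose])
      map_add' := fun a b => Subtype.ext (by
        show ((a : Matrix (Fin 5) (Fin 5) F) + (b : Matrix (Fin 5) (Fin 5) F))ᵀ.map σ = _
        rw [Matrix.transpose_add, Matrix.map_add σ (map_add σ)]; rfl)
      map_mul' := fun a b => Subtype.ext (hst_mul a b) }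
  have hsta : ∀ k : K, ((st k : K) : Matrix (Fin 5) (Fin 5) F) = (k : Matrix (Fin 5) (Fin 5) F)ᵀ.map σ := fun _ => rfl
  have hstω : ∀ c : F, st ⟨c • 1, K.smul_mem (one_mem K) c⟩ = ⟨σ c • 1, K.smul_mem (one_mem K) _⟩ := fun c => Subtype.ext (by
    rw [hsta]
    ext a b
    simp only [Matrix.map_apply, Matrix.transpose_apply, Matrix.smul_apply, Matrix.one_apply, smul_eq_mul,
      @eq_comm _ b a]
    split_ifs <;> simp)
  obtain ⟨q', hq', hstpow, -⟩ := exists_pow_of_involution (σ := st)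
    (fun a => Subtype.ext (by rw [hsta, hsta, Matrix.transpose_map, hmm, Matrix.transpose_transpose]))
    (fun e => by
      have h1 := congrArg (fun w : K => (w : Matrix (Fin 5) (Fin 5) F) 0 0)
        ((hstω ω).symm.trans (RingEquiv.congr_fun e _))
      simp [hσ, pow_two, hω] at h1)
  have hq32 : q' = 32 := Nat.pow_left_injective two_ne_zero (show q' ^ 2 = 32 ^ 2 by rw [← hq', hKcard])
  subst hq32
  -- elements of the group inside the field
  let lift : ∀ g : GL (Fin 5) F, mat g ∈ K → K := fun g h => ⟨mat g, h⟩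
  have hk11 : ∀ g ∈ G, ∀ (hg : mat g ∈ K), (⟨mat g, hg⟩ : K) ^ 11 = 1 := by
    intro g hg hgK
    set k : K := ⟨mat g, hgK⟩ with hk
    have h1 : k ^ 33 = 1 := by
      have h3 : st k * k = 1 := Subtype.ext (by
        rw [MulMemClass.coe_mul, hsta, OneMemClass.coe_one]
        show (mat g)ᵀ.map σ * mat g = 1
        have h4 := congrArg (fun X : Matrix (Fin 5) (Fin 5) F => X.map σ) (hGfix g hg)
        simp only [act, mul_one, Matrix.map_mul, hmm, Matrix.map_one σ (map_zero σ) (map_one σ)] at h4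
        exact h4)
      rw [hstpow, ← pow_succ] at h3
      exact h3
    set c := k ^ 22 with hc
    set y := k ^ 12 with hy
    have hk34 : k = c * y := by rw [hc, hy, ← pow_add, show 22 + 12 = 33 + 1 by norm_num, pow_add, h1, one_mul, pow_one]
    have hy11 : y ^ 11 = 1 := by rw [hy, ← pow_mul, show 12 * 11 = 33 * 4 by norm_num, pow_mul, h1, one_pow]
    have hc4 : c ^ 4 = c := by rw [hc, ← pow_mul, show 22 * 4 = 33 * 2 + 22 by norm_num, pow_add, pow_mul, h1, one_pow, one_mul]
    obtain ⟨a, ha⟩ : ∃ a : F, (⟨a • 1, K.smul_mem (one_mem K) a⟩ : K) = c := by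
      let f : F → {z : K // z ^ 4 = z} := fun a => ⟨⟨a • 1, K.smul_mem (one_mem K) a⟩, Subtype.ext (by
        rw [SubmonoidClass.coe_pow, smul_pow, one_pow, ← hq, FiniteField.pow_card])⟩
      have hinj : Function.Injective f := fun a b h => by
        have := congrArg (fun w : {z : K // z ^ 4 = z} => (w.1 : Matrix (Fin 5) (Fin 5) F) 0 0) h
        simpa [f] using this
      obtain ⟨a, ha⟩ := (hinj.bijective_of_nat_card_le (by
        rw [Nat.card_eq_fintype_card (α := F), hq]; exact card_fixed_le 4 (by norm_num))).2 ⟨c, hc4⟩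
      exact ⟨a, congrArg Subtype.val ha⟩
    have hdy : (y : Matrix (Fin 5) (Fin 5) F).det = 1 := by
      refine det_eq_one_of_pow hq (n := 11) ?_ (by norm_num) (by norm_num)
      rw [← SubmonoidClass.coe_pow, hy11, OneMemClass.coe_one]
    have hdg : (k : Matrix (Fin 5) (Fin 5) F).det = 1 := by
      have h := MonoidHom.mem_ker.1 (show g ∈ (Matrix.GeneralLinearGroup.det : GL (Fin 5) F →* Fˣ).ker from (Subgroup.mem_inf.1 hg).2)
      rw [← Matrix.GeneralLinearGroup.val_det_apply, h, Units.val_one]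
    rw [hk34, ← ha, MulMemClass.coe_mul, Matrix.det_mul, hdy, mul_one, Matrix.det_smul, Matrix.det_one, mul_one,
      Fintype.card_fin] at hdg
    have ha0 : a ≠ 0 := fun e => by rw [e] at hdg; norm_num at hdg
    have ha3 := FiniteField.pow_card_sub_one_eq_one a ha0
    rw [hq] at ha3
    have ha1 : a = 1 := by
      have h4 := pow_gcd_eq_one.2 ⟨hdg, ha3⟩
      rwa [show Nat.gcd 5 (4 - 1) = 1 by norm_num, pow_one] at h4
    rw [hk34, ← ha, mul_pow, hy11, mul_one]
    exact Subtype.ext (by rw [SubmonoidClass.coe_pow, OneMemClass.coe_one]; show (a • (1 : Matrix (Fin 5) (Fin 5) F)) ^ 11 = 1; rw [ha1, one_smul, one_pow])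
  obtain ⟨N, hNH, hNK, hNs⟩ := hnorm
  obtain ⟨x, hxN, hxs⟩ := SetLike.not_le_iff_exists.1 hNs
  have hxG : x ∈ G := hH.1.le (hNH hxN)
  set kx : K := ⟨mat x, hNK x hxN⟩ with hkx
  have hkx11 : kx ^ 11 = 1 := hk11 x hxG _
  have hkx1 : kx ≠ 1 := fun e => hxs (mem_scalars_of_smul (c := 1) (by
    rw [one_smul]; exact congrArg Subtype.val e))
  have hprim : IsPrimitiveRoot kx 11 := IsPrimitiveRoot.iff_orderOf.2 (orderOf_eq_prime hkx11 hkx1)
  have hx11 : x ^ 11 = 1 := Units.ext (by
    rw [Units.val_pow_eq_pow_val, Units.val_one]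
    exact congrArg Subtype.val hkx11)
  set P := Subgroup.zpowers x with hP
  have hPcard : Nat.card P = 11 := by
    rw [hP, Nat.card_zpowers]
    exact orderOf_eq_prime hx11 fun e => hxs (e ▸ one_mem _)
  have hmemP : ∀ g ∈ G, mat g ∈ K → g ∈ P := by
    intro g hg hgK
    obtain ⟨j, -, hj⟩ := hprim.eq_pow_of_pow_eq_one (hk11 g hg hgK)
    refine ⟨j, ?_⟩
    show x ^ (j : ℤ) = g
    rw [zpow_natCast]
    refine Units.ext ?_
    rw [Units.val_pow_eq_pow_val]
    exact congrArg Subtype.val hj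
  have hPn : Normalised H P := by
    intro h hh g hg
    obtain ⟨j, rfl⟩ := hg
    refine hmemP _ (hH.1.le (mul_mem (mul_mem hh (zpow_mem (hNH hxN) j)) (inv_mem hh))) ?_
    have h1 : mat (x ^ j) ∈ K := by
      obtain ⟨n, hn⟩ := (isOfFinOrder_of_finite x).mem_powers_iff_mem_zpowers.2 (⟨j, rfl⟩ : x ^ j ∈ Subgroup.zpowers x)
      have hn' : x ^ n = x ^ j := hn
      rw [← hn', mat, Units.val_pow_eq_pow_val]
      exact pow_mem (hNK x hxN) n
    rw [mat, Units.val_mul, Units.val_mul]
    exact (hHK hh _).1 h1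
  -- the order of `H`
  have hgen : ∀ A : Matrix (Fin 5) (Fin 5) F, A * mat x = mat x * A → A ∈ K := by
    let S : Subalgebra F (Matrix (Fin 5) (Fin 5) F) := Algebra.adjoin F {mat x}
    have hSK : S ≤ K := Algebra.adjoin_le (by simp [hNK x hxN])
    intro A hA
    have hAS : ∀ B ∈ S, A * B = B * A := by
      intro B hB
      induction hB using Algebra.adjoin_induction with
      | mem B hB => rw [Set.mem_singleton_iff] at hB; rw [hB, hA]
      | algebraMap c => exact (Algebra.commutes c A).symm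
      | add B C _ _ h h' => rw [mul_add, add_mul, h, h']
      | mul B C _ _ h h' => rw [← mul_assoc, h, mul_assoc, h', ← mul_assoc]
    have hSfull : K ≤ S := by
      have hle : Module.finrank F S ≤ 5 :=
        (Submodule.finrank_mono (show Subalgebra.toSubmodule S ≤ Subalgebra.toSubmodule K from hSK)).trans hK.finrank_eq.le
      have hxS : mat x ∈ S := Algebra.subset_adjoin (Set.mem_singleton _)
      letI : CommRing S := { (inferInstance : Ring S) with
        mul_comm := fun a b => Subtype.ext (hK.comm a.1 (hSK a.2) b.1 (hSK b.2)) }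
      haveI : IsDomain S := Function.Injective.isDomain (Subalgebra.inclusion hSK).toRingHom
        (Subalgebra.inclusion_injective hSK)
      haveI : Finite S := Subtype.finite
      letI : Field S := (Finite.isDomain_to_isField S).toField
      haveI : Fintype S := Fintype.ofFinite S
      set sx : S := ⟨mat x, hxS⟩ with hsx
      have hsx0 : sx ≠ 0 := fun e => one_ne_zero (α := Matrix (Fin 5) (Fin 5) F) (by
        rw [← mat_mul_inv x, show mat x = 0 from congrArg Subtype.val e, zero_mul])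
      have hord : orderOf sx = 11 := orderOf_eq_prime (Subtype.ext (congrArg Subtype.val hkx11 :))
        fun e => hkx1 (Subtype.ext (congrArg Subtype.val e :))
      have hdvd : 11 ∣ 4 ^ Module.finrank F S - 1 := by
        rw [← hord, ← hq, ← Nat.card_eq_fintype_card (α := F), ← Module.natCard_eq_pow_finrank (K := F) (V := S),
          Nat.card_eq_fintype_card]
        exact orderOf_dvd_of_pow_eq_one (FiniteField.pow_card_sub_one_eq_one sx hsx0)
      have hpos : 0 < Module.finrank F S := Module.finrank_pos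
      have h5 : Module.finrank F S = 5 := by
        interval_cases h : Module.finrank F S <;> revert hdvd <;> norm_num
      exact (Subalgebra.eq_of_le_of_finrank_le hSK (by rw [hK.finrank_eq, h5])).ge
    obtain ⟨v, hv⟩ : ∃ v : Fin 5 → F, v ≠ 0 := exists_ne 0
    let L : K →ₗ[F] (Fin 5 → F) :=
      { toFun := fun k => (k : Matrix (Fin 5) (Fin 5) F) *ᵥ v
        map_add' := fun a b => by rw [Subalgebra.coe_add, Matrix.add_mulVec]
        map_smul' := fun c a => by rw [Subalgebra.coe_smul, Matrix.smul_mulVec, RingHom.id_apply] }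
    have hL : Function.Injective L := by
      refine (injective_iff_map_eq_zero L).2 fun k hk => ?_
      by_contra hk0
      obtain ⟨k', hk'⟩ := hfield.mul_inv_cancel hk0
      refine hv ?_
      have h1 : ((k' * k : K) : Matrix (Fin 5) (Fin 5) F) *ᵥ v = 0 := by
        rw [MulMemClass.coe_mul, ← Matrix.mulVec_mulVec, show (k : Matrix (Fin 5) (Fin 5) F) *ᵥ v = 0 from hk,
          Matrix.mulVec_zero]
      rwa [mul_comm, hk', OneMemClass.coe_one, Matrix.one_mulVec] at h1
    have hLs : Function.Surjective L := (LinearMap.injective_iff_surjective_of_finrank_eq_finrank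
      (by rw [Module.finrank_fintype_fun_eq_card, Fintype.card_fin]; exact hK.finrank_eq)).1 hL
    obtain ⟨k, hk⟩ := hLs (A *ᵥ v)
    have hAk : A = (k : Matrix (Fin 5) (Fin 5) F) := by
      refine Matrix.toLin'.injective (LinearMap.ext fun u => ?_)
      obtain ⟨a, rfl⟩ := hLs u
      show A *ᵥ ((a : Matrix (Fin 5) (Fin 5) F) *ᵥ v) = (k : Matrix (Fin 5) (Fin 5) F) *ᵥ ((a : Matrix (Fin 5) (Fin 5) F) *ᵥ v)
      rw [Matrix.mulVec_mulVec, Matrix.mulVec_mulVec, hAS _ (hSfull a.2), hK.comm _ k.2 _ a.2,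
        ← Matrix.mulVec_mulVec, ← Matrix.mulVec_mulVec]
      exact congrArg _ hk.symm
    exact hAk ▸ k.2
  haveI : Finite H := inferInstance
  have hHcard : Nat.card H ≤ 55 := by
    let φ : H → K := fun h => ⟨mat h.1 * mat x * mat (h.1)⁻¹, (hHK h.2 _).1 (hNK x hxN)⟩
    have hfib : ∀ h h' : H, φ h = φ h' → (h'.1⁻¹ * h.1) ∈ P := by
      intro h h' he
      refine hmemP _ (hH.1.le (mul_mem (inv_mem h'.2) h.2)) (hgen _ ?_)
      have e1 : h.1 * x * (h.1)⁻¹ = h'.1 * x * (h'.1)⁻¹ := Units.ext (by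
        simp only [Units.val_mul]; exact congrArg Subtype.val he)
      have e2 : (h'.1⁻¹ * h.1) * x = x * (h'.1⁻¹ * h.1) := by
        calc (h'.1⁻¹ * h.1) * x = h'.1⁻¹ * (h.1 * x * (h.1)⁻¹) * h.1 := by group
          _ = x * (h'.1⁻¹ * h.1) := by rw [e1]; group
      simp only [mat, ← Units.val_mul, e2]
    -- at most five images
    let p := minpoly F kx
    have himg : ∀ h : H, φ h ∈ (p.map (algebraMap F K)).roots.toFinset := by
      intro h
      rw [Multiset.mem_toFinset, Polynomial.mem_roots (Polynomial.map_ne_zero (minpoly.ne_zero (IsIntegral.of_finite F kx))),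
        Polynomial.IsRoot.def, Polynomial.eval_map, ← Polynomial.aeval_def]
      let ψ : K →ₐ[F] K :=
        { toFun := fun k => ⟨mat h.1 * (k : Matrix (Fin 5) (Fin 5) F) * mat (h.1)⁻¹, (hHK h.2 _).1 k.2⟩
          map_one' := Subtype.ext (by
            show mat h.1 * ((1 : K) : Matrix (Fin 5) (Fin 5) F) * mat (h.1)⁻¹ = _
            rw [OneMemClass.coe_one, mul_one, mat_mul_inv])
          map_mul' := fun a b => Subtype.ext (by
            show mat h.1 * ((a * b : K) : Matrix (Fin 5) (Fin 5) F) * mat (h.1)⁻¹ =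
              (mat h.1 * (a : Matrix (Fin 5) (Fin 5) F) * mat (h.1)⁻¹) * (mat h.1 * (b : Matrix (Fin 5) (Fin 5) F) * mat (h.1)⁻¹)
            simp only [MulMemClass.coe_mul, mul_assoc]
            rw [← mul_assoc (mat (h.1)⁻¹) (mat h.1), mat_inv_mul, one_mul])
          map_zero' := Subtype.ext (by simp)
          map_add' := fun a b => Subtype.ext (by simp [mul_add, add_mul])
          commutes' := fun c => Subtype.ext (by
            show mat h.1 * algebraMap F _ c * mat (h.1)⁻¹ = algebraMap F _ c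
            rw [← Algebra.commutes, mul_assoc, mat_mul_inv, mul_one]) }
      show Polynomial.aeval (ψ kx) p = 0
      rw [Polynomial.aeval_algHom_apply, minpoly.aeval, map_zero]
    have hroots : (p.map (algebraMap F K)).roots.toFinset.card ≤ 5 := by
      refine (Multiset.toFinset_card_le _).trans ((Polynomial.card_roots' _).trans ?_)
      rw [Polynomial.natDegree_map]
      exact (minpoly.natDegree_le kx).trans hK.finrank_eq.le
    haveI : Fintype H := Fintype.ofFinite H
    rw [Nat.card_eq_fintype_card, ← Finset.card_univ]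
    refine le_trans (Finset.card_le_mul_card_image Finset.univ 11 (f := φ) fun k hk => ?_) ?_
    · obtain ⟨h', -, rfl⟩ := Finset.mem_image.1 hk
      haveI : Fintype P := Fintype.ofFinite P
      refine le_trans (Finset.card_le_card_of_injOn (fun h : H => (h'.1⁻¹ * h.1 : GL (Fin 5) F))
        (t := (Finset.univ : Finset P).image Subtype.val) (fun h hh => ?_) ?_) ?_
      · simp at hh
        exact Finset.mem_coe.2 (Finset.mem_image.2 ⟨⟨_, hfib h h' hh⟩, Finset.mem_univ _, rfl⟩)
      · intro a _ b _ hab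
        exact Subtype.ext (mul_left_cancel hab)
      · rw [Finset.card_image_of_injective _ Subtype.val_injective, Finset.card_univ, ← Nat.card_eq_fintype_card, hPcard]
    · have := (Finset.card_le_card (s := Finset.univ.image φ) fun k hk => by
        obtain ⟨h, -, rfl⟩ := Finset.mem_image.1 hk
        exact himg h).trans hroots
      calc 11 * (Finset.univ.image φ).card ≤ 11 * 5 := Nat.mul_le_mul_left _ this
        _ = 55 := by norm_num
  -- the overgroup
  obtain ⟨hX11, -⟩ := chain_pow hω h2 chain_X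
  obtain ⟨hY5, -⟩ := chain_pow hω h2 chain_Y
  obtain ⟨hZ11, -⟩ := chain_pow hω h2 chain_Z
  have hT2 : toM ω mT ^ 2 = 1 := by rw [pow_two, ← toM_mul hω h2, sq_T, toM_one hω h2]
  obtain ⟨gX, hXm, hXo, hXG⟩ := exists_elt hq hω h2 unit_X hX11 (by norm_num) (by norm_num)
  obtain ⟨gY, hYm, hYo, hYG⟩ := exists_elt hq hω h2 unit_Y hY5 (by norm_num) (by norm_num)
  obtain ⟨gZ, hZm, -, hZG⟩ := exists_elt hq hω h2 unit_Z hZ11 (by norm_num) (by norm_num)
  obtain ⟨gT, hTm, -, hTG⟩ := exists_elt hq hω h2 unit_T hT2 (by norm_num) (by norm_num)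
  let S : Set (Fin 5 → F) := {u | ∃ n < 55, ∃ c : Q4, u = toV ω (smul5 c (SU5Data.line n))}
  let A : Subgroup (GL (Fin 5) F) := G ⊓ Cfsg.stabilizing (Cfsg.glToMat (Fin 5) F) S
  have hmemS : ∀ (g : GL (Fin 5) F) (M : M5) (t : List (Q4 × ℕ)), mat g = toM ω M → Permutes M t →
      g ∈ Cfsg.stabilizing (Cfsg.glToMat (Fin 5) F) S := by
    intro g M t hg ht
    refine NotMax.mem_stabilizing S g ?_
    rintro _ ⟨n, hn, c, rfl⟩
    obtain ⟨h1, h3⟩ := ht n hn
    refine ⟨(t.getD n (.o, 55)).2, h3, Q4.mul c (t.getD n (.o, 55)).1, ?_⟩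
    show mat g *ᵥ toV ω (smul5 c (SU5Data.line n)) = _
    rw [toV_smul hω h2, Matrix.mulVec_smul, hg, ← toV_app hω h2, h1, toV_smul hω h2, toV_smul hω h2, q4_mul hω h2,
      smul_smul]
  have hXA : gX ∈ A := ⟨hXG, hmemS gX mX imX hXm perm_X⟩
  have hYA : gY ∈ A := ⟨hYG, hmemS gY mY imY hYm perm_Y⟩
  have hZA : gZ ∈ A := ⟨hZG, hmemS gZ mZ imZ hZm perm_Z⟩
  have hX1 : gX ≠ 1 := fun e => ne_one.1 (toM_inj hω h2 (by
    rw [← hXm, e, toM_one hω h2]; exact Units.val_one))
  have hY1 : gY ≠ 1 := fun e => ne_one.2 (toM_inj hω h2 (by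
    rw [← hYm, e, toM_one hω h2]; exact Units.val_one))
  set PX := Subgroup.zpowers gX with hPX
  have hPXcard : Nat.card PX = 11 := by rw [hPX, Nat.card_zpowers]; exact orderOf_eq_prime hXo hX1
  -- `P` is a Sylow subgroup
  let W : Subgroup (GL (Fin 5) F) := G ⊓ subgroupNormalizer P
  have hWne : ¬ G ≤ subgroupNormalizer P := by
    intro hle
    have hroots : HasRoots σ G := fun v hv b hb => Subgroup.mem_inf.2 ⟨fun u w => by
        rw [hf]; exact root_isometry hbar.involutive hv hb u w, Units.ext (det_root hv b)⟩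
    obtain ⟨c, hc⟩ := scalar_of_commute_root hbar hroots (by simp) (A := mat x) fun v hv b hb => by
      have hmem := (Subgroup.mem_normalizer_iff.1 (hle (hroots v hv b hb)) x).1 (Subgroup.mem_zpowers x)
      set t := root hv b with ht
      have htK : mat (t * x * t⁻¹) ∈ K := by
        obtain ⟨n, hn⟩ := (isOfFinOrder_of_finite x).mem_powers_iff_mem_zpowers.2 hmem
        have hn' : x ^ n = t * x * t⁻¹ := hn
        rw [← hn', mat, Units.val_pow_eq_pow_val]
        exact pow_mem (hNK x hxN) n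
      have hD : mat t * mat x * mat t⁻¹ - mat x ∈ K := by
        have e : mat (t * x * t⁻¹) = mat t * mat x * mat t⁻¹ := by simp [mat]
        rw [← e]; exact sub_mem htK (hNK x hxN)
      have h0 : mat t * mat x * mat t⁻¹ - mat x = 0 := by
        by_contra hne
        obtain ⟨y, -, hy⟩ := hK.inv _ hD hne
        refine not_isUnit_of_two (by simp) (x := v) (y := mat x *ᵥ v) (fun u => ?_) (.of_mul_eq_one y hy)
        have e : (mat t * mat x * mat t⁻¹ - mat x) *ᵥ u = (b * stdH σ (mat x *ᵥ (mat t⁻¹ *ᵥ u)) v) • v +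
            (-b * stdH σ u v) • (mat x *ᵥ v) := by
          rw [Matrix.sub_mulVec, ← Matrix.mulVec_mulVec, ← Matrix.mulVec_mulVec, ht, root_mulVec hv b, root_inv,
            root_mulVec hv (-b), Matrix.mulVec_add, Matrix.mulVec_smul]
          abel
        rw [e]
        exact add_mem (Submodule.smul_mem _ _ (Submodule.subset_span (by simp)))
          (Submodule.smul_mem _ _ (Submodule.subset_span (by simp)))
      calc mat x * mat t = mat t * mat x * mat t⁻¹ * mat t := by rw [sub_eq_zero.1 h0]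
        _ = mat t * mat x := by rw [mul_assoc, mat_inv_mul, mul_one]
    exact hxs (mem_scalars_of_smul hc)
  have hPn' : ∀ {z}, z ∈ P → z ∈ H := fun hz => Subgroup.zpowers_le.2 (hNH hxN) hz
  have hHW : H = W := ((hH.2 W (le_inf hH.1.le (le_normalizer hPn)) inf_le_left).resolve_right
    fun e => hWne (e ▸ inf_le_right)).symm
  have hPG : P ≤ G := Subgroup.zpowers_le.2 hxG
  have hP₀ : Nat.card (P.subgroupOf G) = 11 ^ 1 := by
    rw [Nat.card_congr (Subgroup.subgroupOfEquivOfLe hPG).toEquiv, hPcard, pow_one]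
  obtain ⟨SP, hSP⟩ := (IsPGroup.of_card hP₀).exists_le_sylow
  obtain ⟨m, hm⟩ := SP.2.exists_card_eq
  have hSP11 : Nat.card (SP : Subgroup G) = 11 := by
    have hle : 11 ≤ 11 ^ m := hm ▸ (by
      calc 11 = Nat.card (P.subgroupOf G) := by rw [hP₀, pow_one]
        _ ≤ Nat.card (SP : Subgroup G) := Subgroup.card_le_of_le hSP)
    rcases m with _ | _ | m
    · norm_num at hle
    · rw [hm]; norm_num
    exfalso
    obtain ⟨Q, hQ, hPQ⟩ := Sylow.exists_subgroup_card_pow_succ (G := G) (p := 11) (n := 1) (H := P.subgroupOf G)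
      ((pow_dvd_pow 11 (by omega : 1 + 1 ≤ m + 1 + 1)).trans (hm ▸ Subgroup.card_subgroup_dvd_card (SP : Subgroup G))) hP₀
    have hQW : Q.map G.subtype ≤ W := by
      rintro _ ⟨q, hq', rfl⟩
      refine Subgroup.mem_inf.2 ⟨q.2, le_normalizer (H := Q.map G.subtype) (fun h hh g hg => ?_) ⟨q, hq', rfl⟩⟩
      obtain ⟨h, hh', rfl⟩ := hh
      have hgQ : (⟨g, hPG hg⟩ : G) ∈ Q := hPQ (Subgroup.mem_subgroupOf.2 hg)
      have e : h * ⟨g, hPG hg⟩ = ⟨g, hPG hg⟩ * h := congrArg Subtype.val
        (IsPGroup.commutative_of_card_eq_prime_sq (G := Q) hQ ⟨h, hh'⟩ ⟨_, hgQ⟩)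
      have e' : (h : GL (Fin 5) F) * g = g * h := congrArg Subtype.val e
      rw [Subgroup.coe_subtype, e', mul_inv_cancel_right]
      exact hg
    have h121 : 11 ^ 2 ≤ Nat.card H := by
      refine hQ ▸ ?_
      rw [hHW]
      exact (Subgroup.card_map_of_injective (K := Q) (f := G.subtype) G.subtype_injective).symm.le.trans (Subgroup.card_le_of_le hQW)
    omega
  have hPXG : PX ≤ G := Subgroup.zpowers_le.2 hXG
  have hPX₀ : Nat.card (PX.subgroupOf G) = 11 ^ 1 := by
    rw [Nat.card_congr (Subgroup.subgroupOfEquivOfLe hPXG).toEquiv, hPXcard, pow_one]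
  obtain ⟨SX, hSX⟩ := (IsPGroup.of_card hPX₀).exists_le_sylow
  obtain ⟨g, hg⟩ := MulAction.exists_smul_eq G SP SX
  have hSXeq : PX.subgroupOf G = SX := Subgroup.eq_of_le_of_card_ge hSX (by
    rw [hPX₀, ← hg, pow_one]
    refine le_of_le_of_eq ?_ hSP11
    exact (Nat.card_congr (SP.equivSMul g).toEquiv).symm.le)
  have hSPeq : P.subgroupOf G = SP := Subgroup.eq_of_le_of_card_ge hSP (by rw [hP₀, hSP11, pow_one])
  set c : GL (Fin 5) F := (g : GL (Fin 5) F)⁻¹ with hc
  have hcG : c ∈ G := inv_mem g.2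
  let κ : GL (Fin 5) F ≃* GL (Fin 5) F := MulAut.conj c
  have hκX : κ gX ∈ P := by
    have h1 : (⟨gX, hXG⟩ : G) ∈ (SX : Subgroup G) := by
      rw [← hSXeq]; exact Subgroup.mem_subgroupOf.2 (Subgroup.mem_zpowers gX)
    rw [← hg, Sylow.coe_subgroup_smul, Subgroup.mem_pointwise_smul_iff_inv_smul_mem, ← hSPeq,
      Subgroup.mem_subgroupOf] at h1
    simpa [κ, hc, MulAut.smul_def] using h1
  have hκX1 : κ gX ≠ 1 := fun e => hX1 (κ.injective (e.trans (map_one κ).symm))
  have hκP : Subgroup.zpowers (κ gX) = P := Subgroup.eq_of_le_of_card_ge (Subgroup.zpowers_le.2 hκX) (by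
    rw [hPcard, Nat.card_zpowers, orderOf_eq_prime (by rw [← map_pow, hXo, map_one]) hκX1])
  have hWmem : ∀ y : GL (Fin 5) F, y ∈ G → y * gX * y⁻¹ ∈ PX → κ y ∈ W := by
    intro y hy hyX
    refine Subgroup.mem_inf.2 ⟨mul_mem (mul_mem hcG hy) (inv_mem hcG), ?_⟩
    have hy' : Normalised (Subgroup.zpowers (κ y)) P := by
      intro h hh g' hg'
      rw [← hκP] at hg' ⊢
      obtain ⟨i, rfl⟩ := hg'
      obtain ⟨j, rfl⟩ := hh
      have h1 : ∀ z ∈ PX, y * z * y⁻¹ ∈ PX := by
        rintro _ ⟨i', rfl⟩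
        show y * gX ^ i' * y⁻¹ ∈ PX
        rw [← conj_zpow]
        exact zpow_mem hyX i'
      have h2 : y ∈ subgroupNormalizer PX := mem_normalizer_of_card hPXcard h1
      have h3 : y ^ j * gX ^ i * (y ^ j)⁻¹ ∈ PX :=
        (Subgroup.mem_normalizer_iff.1 (zpow_mem h2 j) _).1 ⟨i, rfl⟩
      obtain ⟨i', hi'⟩ := h3
      exact ⟨i', by simp only at hi' ⊢; rw [← map_zpow κ, ← map_zpow κ, ← map_zpow κ, hi']; simp⟩
    exact le_normalizer hy' (Subgroup.mem_zpowers _)
  have hXH : κ gX ∈ H := hPn' hκX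
  obtain ⟨-, hXpow⟩ := chain_pow hω h2 chain_X
  have hYX : gY * gX * gY⁻¹ = gX ^ 5 := by
    have h5 : toM ω mX ^ 5 = toM ω (powX.getD 5 mX) := (hXpow 5 (by norm_num)).resolve_right (by norm_num)
    rw [mul_inv_eq_iff_eq_mul]
    refine Units.ext ?_
    show mat gY * mat gX = mat (gX ^ 5 * gY)
    simp only [mat, Units.val_mul, Units.val_pow_eq_pow_val] at hXm hYm ⊢
    rw [hXm, hYm, h5, ← toM_mul hω h2, ← toM_mul hω h2, norm_Y]
  have hYH : κ gY ∈ H := hHW ▸ hWmem gY hYG (hYX ▸ pow_mem (Subgroup.mem_zpowers gX) 5)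
  let A' : Subgroup (GL (Fin 5) F) := A.map κ.toMonoidHom
  have hHA' : H ≤ A' := by
    have hXA' : κ gX ∈ A' := ⟨gX, hXA, rfl⟩
    have hYA' : κ gY ∈ A' := ⟨gY, hYA, rfl⟩
    have h11 : 11 ∣ Nat.card (H ⊓ A' : Subgroup (GL (Fin 5) F)) := by
      have h := Subgroup.orderOf_dvd_natCard (H ⊓ A') (Subgroup.mem_inf.2 ⟨hXH, hXA'⟩)
      rwa [orderOf_eq_prime (by rw [← map_pow, hXo, map_one]) hκX1] at h
    have h5 : 5 ∣ Nat.card (H ⊓ A' : Subgroup (GL (Fin 5) F)) := by
      have h := Subgroup.orderOf_dvd_natCard (H ⊓ A') (Subgroup.mem_inf.2 ⟨hYH, hYA'⟩)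
      haveI : Fact (Nat.Prime 5) := ⟨by norm_num⟩
      rwa [orderOf_eq_prime (by rw [← map_pow, hYo, map_one]) fun e => hY1 (κ.injective (e.trans (map_one κ).symm))] at h
    have h55 : Nat.card H ≤ Nat.card (H ⊓ A' : Subgroup (GL (Fin 5) F)) :=
      hHcard.trans (Nat.le_of_dvd Nat.card_pos (Nat.Coprime.mul_dvd_of_dvd_of_dvd (by norm_num : Nat.Coprime 11 5) h11 h5))
    exact inf_eq_left.1 (Subgroup.eq_of_le_of_card_ge inf_le_left h55)
  have hA'G : A' ≤ G := by
    rintro _ ⟨a, ha, rfl⟩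
    exact mul_mem (mul_mem hcG ha.1) (inv_mem hcG)
  rcases hH.2 A' hHA' hA'G with e | e
  · have hZH : κ gZ ∈ W := hHW ▸ (e ▸ (⟨gZ, hZA, rfl⟩ : κ gZ ∈ A'))
    have hZP := (Subgroup.mem_normalizer_iff.1 (Subgroup.mem_inf.1 hZH).2 (κ gX)).1 hκX
    rw [← map_inv, ← map_mul, ← map_mul, ← hκP] at hZP
    obtain ⟨i, hi⟩ := hZP
    simp only at hi
    rw [← map_zpow] at hi
    obtain ⟨k, hk, hk'⟩ : ∃ k < 11, gZ * gX * gZ⁻¹ = gX ^ k :=
      ⟨(i % 11).toNat, by omega, by
        rw [← κ.injective hi, ← zpow_natCast, Int.toNat_of_nonneg (by omega), zpow_eq_zpow_emod' i hXo]; norm_num⟩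
    refine not_norm_Z k hk (toM_inj hω h2 ?_)
    rw [toM_mul hω h2, toM_mul hω h2]
    have hpk : toM ω (powX.getD k mX) = toM ω mX ^ k := by
      rcases (hXpow k hk.le) with h | rfl
      · exact h.symm
      · rw [pow_zero]; exact (congrArg (toM ω) (show powX.getD 0 mX = one5 by decide)).trans (toM_one hω h2)
    rw [hpk, ← hXm, ← hZm]
    have := congrArg mat (mul_inv_eq_iff_eq_mul.1 hk')
    simpa [mat, Units.val_mul, Units.val_pow_eq_pow_val] using this
  · have hTA : gT ∈ A := by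
      have h : κ gT ∈ A' := e ▸ mul_mem (mul_mem hcG hTG) (inv_mem hcG)
      obtain ⟨a, ha, ha'⟩ := h
      exact κ.injective ha' ▸ ha
    obtain ⟨n, hn, c', hc'⟩ := ((Subgroup.mem_inf.1 hTA).2 (toV ω (SU5Data.line 19))).1
      ⟨19, by norm_num, .e, by rw [toV_smul hω h2]; show _ = q4 ω .e • _; exact (one_smul F _).symm⟩
    refine moved_T n hn c' (by cases c' <;> simp) (toV_inj hω h2 ?_)
    rw [toV_app hω h2, ← hTm]
    exact hc'

end Cfsg.Agent.PrimeDim
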