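import Cfsg.Agent.PrimeDim.SUCases

/-!
The maximal subgroups of the three-dimensional special unitary groups, up to small exceptions.
-/

set_option autoImplicit false

namespace Cfsg.Agent.PrimeDim

open Matrix Cfsg.Geo
open scoped MatrixGroups

variable {F : Type*} [Field F] {ι : Type} [Fintype ι] [DecidableEq ι] {σ : F ≃+* F} {G : Subgroup (GL ι F)}

theorem exists_trace_zero_ne [Fintype F] {q : ℕ} (hF : Fintype.card F = q ^ 2) (hσ : ∀ x, σ x = x ^ q)
    (hbar : IsBar σ) (hq : 3 ≤ q) : ∃ c : F, c ≠ 0 ∧ c + σ c = 0 ∧ c ≠ -1 := by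
  obtain ⟨c, hc0, hc⟩ := exists_trace_zero hbar
  by_cases h : c = -1
  swap
  · exact ⟨c, hc0, hc, h⟩
  obtain ⟨g, hg⟩ := IsCyclic.exists_generator (α := Fˣ)
  have hord : orderOf g = q ^ 2 - 1 := by
    rw [orderOf_eq_card_of_forall_mem_zpowers hg, Nat.card_units, Nat.card_eq_fintype_card, hF]
  set a := g ^ (q + 1) with ha
  have ha1 : a ≠ 1 := by
    intro e
    have h1 := Nat.le_of_dvd (by omega) (orderOf_dvd_of_pow_eq_one e)
    rw [hord, show q ^ 2 - 1 = q ^ 2 - 1 ^ 2 by rw [one_pow], Nat.sq_sub_sq] at h1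
    nlinarith [Nat.sub_add_cancel (show 1 ≤ q by omega)]
  have haσ : σ (a : F) = a := by
    have h1 := FiniteField.pow_card (g : F)
    rw [hF] at h1
    rw [hσ, ha, Units.val_pow_eq_pow_val, ← pow_mul, show (q + 1) * q = q ^ 2 + q by ring, pow_add, h1, pow_succ']
  refine ⟨(a : F) * c, mul_ne_zero a.ne_zero hc0, ?_, ?_⟩
  · rw [map_mul, haσ, ← mul_add, hc, mul_zero]
  · intro e
    rw [h, mul_neg, mul_one, neg_inj] at e
    exact ha1 (Units.ext e)

/-- A decomposition into orthogonal lines is moved by some root element, in dimension at least three. -/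
theorem su_not_decomp_small (hbar : IsBar σ) (hG : HasRoots σ G) (h2 : 2 ≤ Fintype.card ι)
    (hc' : ∃ c : F, c ≠ 0 ∧ c + σ c = 0 ∧ c ≠ -1) {t : ℕ}
    {D : Fin t → Submodule F (ι → F)} (b : Module.Basis ι F (ι → F)) (e : Fin t ≃ ι)
    (hD : ∀ k, D k = Submodule.span F {b (e k)})
    (horth : ∀ i j, stdH σ (b i) (b j) = if i = j then 1 else 0) : ¬ G ≤ decompositionStabilizer D := by
  intro hle
  obtain ⟨x, -, -, hx, -⟩ := exists_norm_neg_one hbar
  obtain ⟨s, hs⟩ := Function.Embedding.nonempty_of_card_le (α := Fin 2) (β := ι) (by simpa using h2)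
  have h01 : s 0 ≠ s 1 := fun e => by simpa using hs e
  let v₀ : ι → F := iso (s 0) (s 1) x
  let v : ι → F := mat (ofBasis b) *ᵥ v₀
  have hpair : ∀ u w : ι → F, stdH σ (mat (ofBasis b) *ᵥ u) (mat (ofBasis b) *ᵥ w) = stdH σ u w := by
    intro u w
    have e : act σ (1 : Matrix ι ι F) (mat (ofBasis b)) = 1 := by
      ext i j
      rw [← formG_single σ (act σ (1 : Matrix ι ι F) (mat (ofBasis b))) i j, ← formG_mulVec, ofBasis_single,
        ofBasis_single, Matrix.one_apply]
      exact horth i j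
    show formG σ 1 _ _ = _
    rw [formG_mulVec, e]
  have hv : stdH σ v v = 0 := by
    rw [hpair]
    exact stdH_iso_self h01 hx
  obtain ⟨c, hc0, hc, hc1⟩ := hc'
  obtain ⟨k, hk⟩ := e.surjective (s 0)
  obtain ⟨π, hπ⟩ := hle (hG v hv c hc)
  have hmem : mat (root hv c) *ᵥ b (s 0) ∈ D (π k) := by
    rw [← hπ k]
    exact ⟨b (s 0), by rw [hD, hk]; exact Submodule.subset_span rfl, Matrix.toLin'_apply _ _⟩
  rw [hD, Submodule.mem_span_singleton] at hmem
  obtain ⟨a, ha⟩ := hmem
  have h1 := congrArg (fun w => mat (ofBasis b)⁻¹ *ᵥ w) ha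
  simp only [Matrix.mulVec_smul, root_mulVec, Matrix.mulVec_add] at h1
  rw [← ofBasis_single b (e (π k)), ← ofBasis_single b (s 0), inv_mulVec_cancel, inv_mulVec_cancel,
    show v = mat (ofBasis b) *ᵥ v₀ from rfl, inv_mulVec_cancel] at h1
  rw [hpair] at h1
  have hco : stdH σ (Pi.single (s 0) 1) v₀ = 1 := by
    show stdH σ _ (iso (s 0) (s 1) x) = _
    rw [stdH_iso, Pi.single_eq_same, Pi.single_eq_of_ne (Ne.symm h01)]
    ring
  rw [hco, mul_one] at h1
  have hx0 : x ≠ 0 := by intro e0; rw [e0, zero_mul] at hx; simp at hx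
  have h3 := congrFun h1 (s 0)
  have h4 := congrFun h1 (s 1)
  simp [v₀, iso_apply_left h01, iso_apply_right h01, Pi.single_apply, h01, Ne.symm h01] at h3 h4
  by_cases h : e (π k) = s 0
  · simp [h, Ne.symm h01, hc0, hx0] at h4
  · simp [Ne.symm h] at h3
    exact hc1 (by linear_combination -h3)

theorem root_pow_char [Finite F] {p : ℕ} [CharP F p] {v : ι → F} (hv : stdH σ v v = 0) (b : F) : root hv b ^ p = 1 := by
  rw [root_pow]
  exact Units.ext (show rootMat σ ((p : F) * b) v = 1 by rw [CharP.cast_eq_zero, zero_mul, rootMat_zero])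

theorem five_le_char {r p k q : ℕ} (hr3 : r = 3) (hp : p.Prime) (hk : q = p ^ k) (hq : 3 ≤ q)
    (hpk : p ^ k % r = r - 1) (hdiv : 2 * k ∣ r - 1) : 5 ≤ p := by
  subst hr3
  obtain rfl : k = 1 := by
    have h1 := Nat.le_of_dvd (by norm_num) hdiv
    rcases Nat.eq_zero_or_pos k with rfl | h
    · simp at hdiv
    · omega
  rw [pow_one] at hk hpk
  have h3 : p ≠ 3 := fun e => by rw [e] at hpk; simp at hpk
  have h4 : p ≠ 4 := fun e => by rw [e] at hp; norm_num at hp
  omega

/-- A root element normalising a group of order `27` centralises it in characteristic at least five. -/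
theorem commute_root [Finite F] {p : ℕ} (hp : p.Prime) (h5 : 5 ≤ p) {R : Subgroup (GL ι F)}
    (hcard : Nat.card R = 27) {t : GL ι F} (htp : t ^ p = 1)
    (htn : t ∈ Subgroup.normalizer (R : Set (GL ι F))) (hz : ∃ z ∈ R, z ≠ 1 ∧ t * z = z * t) {x : GL ι F} (hx : x ∈ R) :
    t * x = x * t := by
  haveI := Fact.mk hp
  let P : Subgroup (GL ι F) := Subgroup.zpowers t
  have hP : IsPGroup p P := by
    intro u
    obtain ⟨j, hj⟩ := u.2
    refine ⟨1, Subtype.ext ?_⟩
    rw [pow_one, SubmonoidClass.coe_pow, ← hj]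
    show (t ^ j) ^ p = 1
    rw [← zpow_natCast, ← _root_.zpow_mul, mul_comm, _root_.zpow_mul, zpow_natCast, htp, _root_.one_zpow]
  have hPn : P ≤ Subgroup.normalizer (R : Set (GL ι F)) := Subgroup.zpowers_le.2 htn
  let A : MulAction P R :=
    { smul := fun u w => ⟨(u : GL ι F) * w * (u : GL ι F)⁻¹, (Subgroup.mem_normalizer_iff.1 (hPn u.2) _).1 w.2⟩
      one_smul := fun w => Subtype.ext (by show ((1 : P) : GL ι F) * w * ((1 : P) : GL ι F)⁻¹ = w; simp)
      mul_smul := fun u u' w => Subtype.ext (by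
        show ((u * u' : P) : GL ι F) * w * ((u * u' : P) : GL ι F)⁻¹ = u * (u' * w * (u' : GL ι F)⁻¹) * (u : GL ι F)⁻¹
        push_cast; group) }
  letI := A
  haveI : Finite R := Subtype.finite
  let C : Subgroup (GL ι F) := R ⊓ Subgroup.centralizer (P : Set (GL ι F))
  have hC : Nat.card (MulAction.fixedPoints P R) = Nat.card C := by
    refine Nat.card_congr ⟨fun w => ⟨w.1, w.1.2, Subgroup.mem_centralizer_iff.2 fun u hu => ?_⟩,
      fun w => ⟨⟨w.1, w.2.1⟩, fun u => Subtype.ext ?_⟩, fun _ => rfl, fun _ => rfl⟩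
    · have h1 : u * (w.1 : GL ι F) * u⁻¹ = w.1 := congrArg Subtype.val (w.2 ⟨u, hu⟩)
      rwa [mul_inv_eq_iff_eq_mul] at h1
    · show (u : GL ι F) * w.1 * (u : GL ι F)⁻¹ = w.1
      rw [mul_inv_eq_iff_eq_mul]
      exact Subgroup.mem_centralizer_iff.1 w.2.2 u u.2
  have hmod := hP.card_modEq_card_fixedPoints R
  rw [hC, hcard] at hmod
  have hdvd : Nat.card C ∣ 3 ^ 3 := by
    have := Subgroup.card_dvd_of_le (inf_le_left : C ≤ R)
    rwa [hcard] at this
  obtain ⟨i, hi, hci⟩ := (Nat.dvd_prime_pow Nat.prime_three).1 hdvd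
  have h27 : Nat.card C = 27 := by
    obtain ⟨z, hzR, hz1, hzt⟩ := hz
    have hzC : z ∈ C := ⟨hzR, Subgroup.mem_centralizer_iff.2 fun u hu => by
      obtain ⟨j, rfl⟩ := hu
      exact (show Commute t z from hzt).zpow_left j⟩
    haveI : Nontrivial C := ⟨⟨z, hzC⟩, 1, fun e => hz1 (congrArg Subtype.val e)⟩
    have hC1 : 1 < Nat.card C := Finite.one_lt_card
    rw [hci] at hmod hC1 ⊢
    interval_cases i
    · norm_num at hC1
    · have h1 : p ∣ 24 := by simpa using (Nat.modEq_iff_dvd' (by norm_num)).1 hmod.symm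
      have := Nat.le_of_dvd (by norm_num) h1
      interval_cases p <;> first | omega | exact absurd hp (by norm_num)
    · have h1 : p ∣ 18 := by simpa using (Nat.modEq_iff_dvd' (by norm_num)).1 hmod.symm
      have := Nat.le_of_dvd (by norm_num) h1
      interval_cases p <;> first | omega | exact absurd hp (by norm_num)
    · rfl
  have hCR : C = R := Subgroup.eq_of_le_of_card_ge inf_le_left (by rw [h27, hcard])
  have hxC : x ∈ C := hCR.symm ▸ hx
  exact Subgroup.mem_centralizer_iff.1 hxC.2 t (Subgroup.mem_zpowers t)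

/-- The list for `SU_3(q)`, `q ≥ 3`, before the exceptions are removed. -/
theorem su_three_cases [Fintype F] {r : ℕ} (hr3 : r = 3) (hr : r.Prime) {q : ℕ} (hF : Fintype.card F = q ^ 2) (hq : 3 ≤ q)
    {H : Subgroup (GL (Fin r) F)} (hH : IsMaximalIn (GU r F q ⊓ specialLinear (Fin r) F) H) :
    (∃ W : Submodule F (Fin r → F), W ≠ ⊥ ∧ IsTotallySingularFor (hermForm r F q) W ∧
      H = subspaceStabilizer W ⊓ (GU r F q ⊓ specialLinear (Fin r) F)) ∨
    (∃ W : Submodule F (Fin r → F), W ≠ ⊥ ∧ IsNondegenerateOn (hermForm r F q) W ∧ 2 * Module.finrank F W < r ∧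
      H = subspaceStabilizer W ⊓ (GU r F q ⊓ specialLinear (Fin r) F)) ∨
    ((∃ b : Module.Basis (Fin r) F (Fin r → F), (∀ i j, hermForm r F q (b i) (b j) = if i = j then 1 else 0) ∧
        ∀ h ∈ H, ∀ i, ∃ (j : Fin r) (c : F), mat h *ᵥ b i = c • b j) ∧
      ∃ D : Fin r → Submodule F (Fin r → F), IsNondegenerateMDecomposition (hermForm r F q) 1 D ∧
      H = decompositionStabilizer D ⊓ (GU r F q ⊓ specialLinear (Fin r) F)) ∨
    (∃ K : Subalgebra F (Matrix (Fin r) (Fin r) F), IsFieldSubalgebra r K ∧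
      IsAdjointClosedFor (hermForm r F q) K ∧
      H = subalgebraNormalizer K ⊓ (GU r F q ⊓ specialLinear (Fin r) F)) ∨
    (∃ (F₀ : Subfield F) (l : ℕ) (P : GL (Fin r) F), l.Prime ∧ Odd l ∧ Fintype.card F = Nat.card F₀ ^ l ∧
      IsFormRationalStructure (hermForm r F q) F₀ 1 P ∧
      H = subfieldSubgroup F₀ P ⊓ (GU r F q ⊓ specialLinear (Fin r) F)) ∨
    (Odd q ∧ ∃ (F₀ : Subfield F) (P : GL (Fin r) F), Fintype.card F = Nat.card F₀ ^ 2 ∧
      IsFormRationalStructure (hermForm r F q) F₀ 1 P ∧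
      H = subfieldSubgroup F₀ P ⊓ (GU r F q ⊓ specialLinear (Fin r) F)) ∨
    (∃ (p k : ℕ) (R : Subgroup (GL (Fin r) F)), p.Prime ∧ CharP F p ∧ q = p ^ k ∧ 2 * k ∣ r - 1 ∧
      p ^ k % r = r - 1 ∧ (∀ d, 0 < d → d < 2 * k → p ^ d % r ≠ 1) ∧ IsExtra r H R ∧ IsSymplecticTypeGroup r R ∧
      ActsAbsolutelyIrreducibly (matrixSet R) ∧ R ≤ GU r F q ∧ R ≤ similarityGroup (hermForm r F q) ∧
      Nat.card R = r ^ 3 ∧ Nat.card (Subgroup.center R) = r ∧
      H = subgroupNormalizer R ⊓ (GU r F q ⊓ specialLinear (Fin r) F)) ∨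
    InUnitaryResidualClass H := by
  classical
  haveI := Fact.mk hr
  have hr2 : r ≠ 2 := by omega
  have hcard : Fintype.card (Fin r) = r := Fintype.card_fin r
  have hι3 : 2 < Fintype.card (Fin r) := by omega
  have hodd : Odd (Fintype.card (Fin r)) := by rw [hcard]; exact hr.odd_of_ne_two hr2
  haveI : Nonempty (Fin r) := ⟨⟨0, hr.pos⟩⟩
  obtain ⟨σ, hσ, hbar⟩ := exists_bar hF
  have hf : hermForm r F q = formG σ (1 : Matrix (Fin r) (Fin r) F) := by
    funext u v
    show _ = stdH σ u v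
    rw [stdH_eq]
    exact Finset.sum_congr rfl fun i _ => by rw [hσ]
  set G := GU r F q ⊓ specialLinear (Fin r) F with hGdef
  have h1det : (1 : Matrix (Fin r) (Fin r) F).det ≠ 0 := by rw [Matrix.det_one]; exact one_ne_zero
  have hrefl : Reflexive' σ (1 : Matrix (Fin r) (Fin r) F) := fun u v => stdH_comm hbar u v
  have hfix : Fixes σ H 1 := fun g hg => by
    have h1 : ∀ u v, hermForm r F q (mat g *ᵥ u) (mat g *ᵥ v) = hermForm r F q u v :=
      (Subgroup.mem_inf.1 (hH.1.le hg)).1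
    rw [hf] at h1
    exact formG_ext (σ := σ) fun u v => by rw [← formG_mulVec, h1]
  have hHU : H ≤ GU r F q := hH.1.le.trans inf_le_left
  have hroots : HasRoots σ G := fun v hv b hb => Subgroup.mem_inf.2 ⟨fun u w => by
      rw [hf]; exact root_isometry hbar.involutive hv hb u w, Units.ext (det_root hv b)⟩
  have hsim : GU r F q ≤ similarityGroup (hermForm r F q) := fun g hg =>
    ⟨1, fun u v => by rw [Units.val_one, one_mul]; exact hg u v⟩
  have hsub : ∀ (N : Subgroup (GL (Fin r) F)), N ≤ H → ActsAbsolutelyIrreducibly (matrixSet N) → Normalised H N →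
      ∀ (F₀ : Subfield F), F₀ ≠ ⊤ → ∀ B : GL (Fin r) F, (∀ g ∈ N, Entries F₀ (mat (B * g * B⁻¹))) →
      (∃ (F₀ : Subfield F) (l : ℕ) (P : GL (Fin r) F), l.Prime ∧ Odd l ∧ Fintype.card F = Nat.card F₀ ^ l ∧
        IsFormRationalStructure (hermForm r F q) F₀ 1 P ∧ H = subfieldSubgroup F₀ P ⊓ G) ∨
      (Odd q ∧ ∃ (F₀ : Subfield F) (P : GL (Fin r) F), Fintype.card F = Nat.card F₀ ^ 2 ∧
        IsFormRationalStructure (hermForm r F q) F₀ 1 P ∧ H = subfieldSubgroup F₀ P ⊓ G) := by
    intro N hNH hN hn F₀ hF₀ B hB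
    obtain ⟨F₁, l, hl, hc, hB₁, hle⟩ := le_subfield hN hn hF₀ hB
    obtain ⟨P, hP, hent, hcases⟩ := unitary_rational hF hσ hbar hodd (by omega) hN h1det
      (by rw [Matrix.transpose_one]; exact (Matrix.map_one σ (map_zero σ) (map_one σ)).symm)
      (fun g hg => hfix g (hNH hg)) hl hc hB₁
    have hrat : IsFormRationalStructure (hermForm r F q) F₁ 1 P := by
      intro u v hu hv
      rw [one_mul, hf]
      show formG σ 1 (mat P *ᵥ u) (mat P *ᵥ v) ∈ F₁
      rw [formG_mulVec]
      simp only [formG, dotProduct, Matrix.mulVec]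
      exact Subfield.sum_mem _ fun a _ => mul_mem (hu a)
        (Subfield.sum_mem _ fun c _ => mul_mem (hent a c) (map_mem_of_card σ (hv c)))
    have hEq : H = subfieldSubgroup F₁ P ⊓ G := by
      rw [hP]
      exact eq_inf_of_maximal hH hle
        (su_not_subfield hbar hroots (by rw [hcard]; exact hr) hι3 (fixed_ne_top hl hc) _)
    rcases hcases with ho | ⟨rfl, hq⟩
    · exact Or.inl ⟨F₁, l, P, hl, ho, hc, hrat, hEq⟩
    · exact Or.inr ⟨hq, F₁, P, hc, hrat, hEq⟩
  by_cases hirr : Irr H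
  swap
  · obtain ⟨W, hb, ht, hW⟩ := exists_inv_of_not_irr hirr
    by_cases hI : W ⊓ perpG σ 1 W = ⊥
    · obtain ⟨hnd, hnd', hdim⟩ := perp_cases h1det hrefl hI
      rw [hcard] at hdim
      have hodd' := hr.odd_of_ne_two hr2
      obtain ⟨m, hm⟩ := hodd'
      refine Or.inr (Or.inl ?_)
      by_cases hlt : 2 * Module.finrank F W < r
      · exact ⟨W, hb, hf ▸ hnd, hlt, eq_inf_of_maximal hH (le_stab hW) (su_not_stab hbar hroots hι3 hb ht)⟩
      · have hWlt : Module.finrank F W < r := by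
          have h1 := Submodule.finrank_lt ht
          rwa [Module.finrank_fintype_fun_eq_card, hcard] at h1
        have hb' : perpG σ (1 : Matrix (Fin r) (Fin r) F) W ≠ ⊥ := fun e => by
          rw [e, finrank_bot] at hdim; omega
        have ht' : perpG σ (1 : Matrix (Fin r) (Fin r) F) W ≠ ⊤ := fun e => by
          rw [e, finrank_top, Module.finrank_fintype_fun_eq_card, hcard] at hdim
          exact hb (Submodule.finrank_eq_zero.1 (by omega))
        exact ⟨_, hb', hf ▸ hnd', by omega,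
          eq_inf_of_maximal hH (le_stab (inv_perp hfix hW)) (su_not_stab hbar hroots hι3 hb' ht')⟩
    · refine Or.inl ⟨_, hI, ?_, eq_inf_of_maximal hH ?_ (su_not_stab hbar hroots hι3 hI fun e => ht ?_)⟩
      · rw [hf]
        exact fun u hu v hv => (Submodule.mem_inf.1 hu).2 v (Submodule.mem_inf.1 hv).1
      · exact le_stab fun g hg v hv => Submodule.mem_inf.2
          ⟨hW g hg v (Submodule.mem_inf.1 hv).1, inv_perp hfix hW g hg v (Submodule.mem_inf.1 hv).2⟩
      · exact top_le_iff.1 (e ▸ inf_le_left)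
  rcases four_cases hr hr2 hcard (hH.1.le.trans inf_le_right) hirr with hL | hS | ⟨R, hR⟩ | ⟨P, hP⟩
  · -- monomial
    obtain ⟨b, hperm, horth, hne, -⟩ := lines_orth h1det hrefl hbar.involutive hodd hirr hfix hL
    have hnorm : ∀ i, ∃ c : F, c ≠ 0 ∧ c * σ c = formG σ 1 (b i) (b i) := fun i => by
      obtain ⟨c, hc⟩ := hbar.norm _ (hrefl (b i) (b i)).symm
      exact ⟨c, fun e => hne i (by rw [← hc, e, zero_mul]), hc⟩
    choose c hc0 hc using hnorm
    let b' : Module.Basis (Fin r) F (Fin r → F) := b.unitsSMul fun i => Units.mk0 (c i)⁻¹ (inv_ne_zero (hc0 i))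
    have hb' : ∀ i, b' i = (c i)⁻¹ • b i := fun i => by simp [b', Module.Basis.unitsSMul_apply]
    have horth' : ∀ i j, stdH σ (b' i) (b' j) = if i = j then 1 else 0 := by
      intro i j
      have hs := isSesq_formG σ (1 : Matrix (Fin r) (Fin r) F)
      show formG σ 1 _ _ = _
      rw [hb', hb', hs.smul_left, hs.smul_right]
      by_cases hij : i = j
      · subst hij
        rw [if_pos rfl, ← hc i, map_inv₀]
        have := hc0 i
        have := (map_ne_zero σ).2 (hc0 i)
        field_simp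
      · rw [if_neg hij, horth i j hij, mul_zero, mul_zero]
    have hperm' : ∀ h ∈ H, ∀ i, ∃ (j : Fin r) (d : F), mat h *ᵥ b' i = d • b' j := by
      intro h hh i
      obtain ⟨j, d, hd⟩ := hperm h hh i
      refine ⟨j, (c i)⁻¹ * d * c j, ?_⟩
      rw [hb', hb', Matrix.mulVec_smul, hd, smul_smul, smul_smul, mul_assoc _ (c j), mul_inv_cancel₀ (hc0 j), mul_one]
    have hmem : ∀ k, ∀ u ∈ Submodule.span F {b' k}, ∃ a : F, a • b' k = u := fun k u hu =>
      Submodule.mem_span_singleton.1 hu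
    refine Or.inr (Or.inr (Or.inl ⟨⟨b', fun i j => by rw [hf]; exact horth' i j, hperm'⟩, fun k => Submodule.span F {b' ((Equiv.refl (Fin r)) k)}, ⟨lines_decomposition
      (by omega) b' (Equiv.refl _), fun k w hw hw0 => ?_, fun i j hij u hu v hv => ?_⟩, eq_inf_of_maximal hH
      (le_decomposition b' (Equiv.refl _) hperm')
      (su_not_decomp_small hbar hroots (by omega) (exists_trace_zero_ne hF hσ hbar hq) b' (Equiv.refl _) (fun _ => rfl) horth')⟩))
    · obtain ⟨a, rfl⟩ := hmem _ w hw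
      have ha : a ≠ 0 := fun e => hw0 (by rw [e, zero_smul])
      have hs := isSesq_formG σ (1 : Matrix (Fin r) (Fin r) F)
      have h1 : formG σ 1 (b' k) (b' k) = 1 := by
        have := horth' k k; rwa [if_pos rfl] at this
      rw [hf]
      refine ⟨⟨b' k, Submodule.subset_span rfl, ?_⟩, ⟨b' k, Submodule.subset_span rfl, ?_⟩⟩
      · show formG σ 1 (b' k) (a • b' k) ≠ 0
        rw [hs.smul_right, h1, mul_one]; exact (map_ne_zero σ).2 ha
      · show formG σ 1 (a • b' k) (b' k) ≠ 0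
        rw [hs.smul_left, h1, mul_one]; exact ha
    · obtain ⟨a, rfl⟩ := hmem _ u hu
      obtain ⟨a', rfl⟩ := hmem _ v hv
      have hs := isSesq_formG σ (1 : Matrix (Fin r) (Fin r) F)
      rw [hf, hs.smul_left, hs.smul_right]
      have := horth' i j
      rw [if_neg hij] at this
      show a * (σ a' * formG σ 1 (b' i) (b' j)) = 0
      rw [show formG σ 1 (b' i) (b' j) = 0 from this, mul_zero, mul_zero]
  · -- extension field
    obtain ⟨K, N, hNH, -, hK, hHK, hiff, -, -⟩ := hS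
    rw [hcard] at hK
    refine Or.inr (Or.inr (Or.inr (Or.inl ⟨K, hK, fun k hk => ⟨kᵀ.map σ, ?_, ?_⟩,
      eq_inf_of_maximal hH hHK (su_not_field hbar hroots hr.one_lt hι3 hK)⟩)))
    · rw [hiff]
      intro g hg
      have hu : (mat g)ᵀ * (mat g).map σ = 1 := by
        have h1 := hfix g (hNH hg)
        rwa [act, mul_one] at h1
      have hu' : (mat g).map σ * (mat g)ᵀ = 1 := mul_eq_one_comm.1 hu
      have h1 : kᵀ * (mat g).map σ = (mat g).map σ * kᵀ := by
        have h2 : (mat g)ᵀ * kᵀ = kᵀ * (mat g)ᵀ := by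
          rw [← Matrix.transpose_mul, ← Matrix.transpose_mul, (hiff k).1 hk g hg]
        calc kᵀ * (mat g).map σ = ((mat g).map σ * (mat g)ᵀ) * (kᵀ * (mat g).map σ) := by rw [hu', one_mul]
          _ = (mat g).map σ * (kᵀ * ((mat g)ᵀ * (mat g).map σ)) := by
              rw [mul_assoc, ← mul_assoc (mat g)ᵀ, h2, mul_assoc]
          _ = (mat g).map σ * kᵀ := by rw [hu, mul_one]
      have h3 := congrArg (fun X : Matrix (Fin r) (Fin r) F => X.map σ) h1
      simp only [Matrix.map_mul] at h3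
      rwa [show ((mat g).map σ).map σ = mat g by ext a b; exact hbar.involutive _] at h3
    · intro u v
      rw [hf]
      show (k *ᵥ u) ⬝ᵥ ((1 : Matrix (Fin r) (Fin r) F) *ᵥ fun i => σ (v i)) =
        u ⬝ᵥ ((1 : Matrix (Fin r) (Fin r) F) *ᵥ fun i => σ ((kᵀ.map σ *ᵥ v) i))
      rw [Matrix.one_mulVec, Matrix.one_mulVec, map_mulVec_comp,
        show (kᵀ.map σ).map σ = kᵀ by ext a b; exact hbar.involutive _, Matrix.dotProduct_mulVec, Matrix.vecMul_transpose]
  · -- symplectic type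
    obtain ⟨p, n, hp, hcp, hn0, hn⟩ := prime_card_pow (F := F)
    rw [Nat.card_eq_fintype_card] at hn
    haveI := Fact.mk hp
    obtain ⟨ζ, hζ, z, hz, hzmat⟩ := hR.root
    have hpr : p ≠ r := by
      rintro rfl
      exact (hζ.neZero' (R := F) (n := p)).out (CharP.cast_eq_zero F p)
    obtain ⟨he0, hediv, hepow, hemin⟩ := orderOf_cast_data hr hp hpr
    set e := orderOf (p : ZMod r) with he
    have hen : e ∣ n := by
      refine orderOf_dvd_of_pow_eq_one ?_
      have h1 := pow_mod_of_root hr hζ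
      rw [hn] at h1
      rw [← Nat.cast_pow, ← Nat.cast_one, ZMod.natCast_eq_natCast_iff', h1, Nat.mod_eq_of_lt hr.one_lt]
    obtain ⟨a, haR, has⟩ := SetLike.not_le_iff_exists.1 hR.nonscalar
    obtain ⟨b, -, hb⟩ := hR.basis a haR has
    rcases (Nat.le_of_dvd hn0 hen).lt_or_eq with hlt | heq
    · let F₀ : Subfield F := RingHom.eqLocusField (powHom p e) (RingHom.id F)
      have hmem : ∀ x, x ∈ F₀ ↔ x ^ p ^ e = x := fun x => by
        show powHom p e x = x ↔ _
        rw [powHom_apply]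
      have hF₀ : F₀ ≠ ⊤ := by
        intro htop
        have h1 := card_fixed_le (E := F) (p ^ e) (Nat.one_lt_pow he0.ne' hp.one_lt)
        rw [Nat.card_congr (Equiv.subtypeUnivEquiv fun x => (hmem x).1 (htop ▸ Subfield.mem_top x)),
          Nat.card_eq_fintype_card, hn] at h1
        exact absurd h1 (not_le.2 (Nat.pow_lt_pow_right hp.one_lt hlt))
      have hζ₀ : ζ ∈ F₀ := by
        rw [hmem, ← Nat.mod_add_div (p ^ e) r, hepow, pow_add, pow_mul, hζ.pow_eq_one, one_pow, mul_one, pow_one]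
      have h1 := hsub R hR.le hR.abs hR.normalised F₀ hF₀ (ofBasis b)⁻¹ fun g hg => by
        rw [inv_inv]
        refine entries_of_mono b fun i => ?_
        obtain ⟨j, c, hc, h⟩ := hb g hg i
        obtain ⟨m, -, rfl⟩ := hζ.eq_pow_of_pow_eq_one hc
        exact ⟨j, _, pow_mem hζ₀ m, h⟩
      rcases h1 with h1 | h1
      · exact Or.inr (Or.inr (Or.inr (Or.inr (Or.inl h1))))
      · exact Or.inr (Or.inr (Or.inr (Or.inr (Or.inr (Or.inl h1)))))
    -- the field is minimal
    have hzU : ζ * σ ζ = 1 := by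
      have h1 := hfix z (hR.le hz)
      rw [hzmat, act_sc, act, Matrix.transpose_one, one_mul, Matrix.map_one σ (map_zero σ) (map_one σ), one_mul] at h1
      have h2 := congrFun (congrFun h1 ⟨0, hr.pos⟩) ⟨0, hr.pos⟩
      simpa using h2
    obtain ⟨k, -, hk⟩ := (Nat.dvd_prime_pow hp).1
      (by rw [← hn, hF]; exact dvd_pow_self q two_ne_zero : q ∣ p ^ n)
    have he2 : e = 2 * k := by
      have h1 : p ^ n = p ^ (2 * k) := by rw [← hn, hF, hk, ← pow_mul, mul_comm]
      rw [heq]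
      exact Nat.pow_right_injective hp.two_le h1
    have hpk : p ^ k % r = r - 1 := by
      rw [hσ, ← pow_succ', hζ.pow_eq_one_iff_dvd, hk] at hzU
      obtain ⟨m, hm⟩ := hzU
      have hm0 : 0 < m := by
        rcases Nat.eq_zero_or_pos m with rfl | h
        · omega
        · exact h
      rw [show p ^ k = r * (m - 1) + (r - 1) by
        have : r * m = r * (m - 1) + r := by rw [← Nat.mul_succ, Nat.succ_eq_add_one, Nat.sub_add_cancel hm0]
        omega, Nat.mul_add_mod, Nat.mod_eq_of_lt (by omega)]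
    refine Or.inr (Or.inr (Or.inr (Or.inr (Or.inr (Or.inr (Or.inl ⟨p, k, R, hp, hcp, hk, he2 ▸ hediv, hpk,
      he2 ▸ hemin, hR, hR.symp, hR.abs, hR.le.trans hHU, (hR.le.trans hHU).trans hsim, hR.card, hR.card_center,
      eq_inf_of_maximal hH (le_normalizer hR.normalised) ?_⟩))))))
    intro hle
    obtain ⟨c, hc⟩ := scalar_of_commute_root hbar hroots hι3 (A := mat a) fun v hv β hβ => by
      have hnorm := (Subgroup.mem_normalizer_iff.1 (hle (hroots v hv β hβ)) a).1 haR
      have h1 := commute_root hp (five_le_char hr3 hp hk hq hpk (he2 ▸ hediv))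
        (show Nat.card R = 27 by rw [hR.card, hr3]; norm_num) (root_pow_char hv β) (hle (hroots v hv β hβ))
        ⟨z, hz, fun e => hζ.ne_one hr.one_lt ?_, (scalar_comm (mem_scalars_of_smul hzmat) _).eq.symm⟩ haR
      swap
      · have h2 := congrFun (congrFun (congrArg mat e) ⟨0, hr.pos⟩) ⟨0, hr.pos⟩
        rw [hzmat] at h2
        simpa [mat] using h2
      exact (congrArg Units.val h1).symm
    exact has (mem_scalars_of_smul hc)
  · by_cases hsubf : ∃ F₀ : Subfield F, F₀ ≠ ⊤ ∧ RealisableOver F₀ (matrixSet P)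
    · obtain ⟨F₀, hF₀, hreal⟩ := hsubf
      obtain ⟨B, hB⟩ := realisable_mat.1 hreal
      rcases hsub P hP.le hP.abs hP.normalised F₀ hF₀ B hB with h1 | h1
      · exact Or.inr (Or.inr (Or.inr (Or.inr (Or.inl h1))))
      · exact Or.inr (Or.inr (Or.inr (Or.inr (Or.inr (Or.inl h1)))))
    refine Or.inr (Or.inr (Or.inr (Or.inr (Or.inr (Or.inr (Or.inr
      ⟨P, hP.residual fun F₀ h0 h1 => hsubf ⟨F₀, h0, h1⟩, ?_, ?_⟩))))))
    · rintro ⟨Q, hQ, hfixQ⟩
      have hb := isSesq_of_bilinear hQ.polar_bilinear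
      exact hsubf (realisable_of_two hbar hP.abs h1det (hb.det_ne_zero hQ.nondegenerate)
        (fun g hg => hfix g (hP.le hg)) fun g hg => (hb.fixes_iff g).1 fun u v => by
          simp only [QuadraticMap.polar, ← Matrix.mulVec_add, hfixQ _ ⟨g, hg, rfl⟩])
    · rintro ⟨f, hf', hfixf⟩
      have hb := isSesq_of_bilinear hf'.bilinear
      exact hsubf (realisable_of_two hbar hP.abs h1det (hb.det_ne_zero hf'.nondegenerate)
        (fun g hg => hfix g (hP.le hg)) fun g hg => (hb.fixes_iff g).1 (hfixf _ ⟨g, hg, rfl⟩))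


end Cfsg.Agent.PrimeDim
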